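import Cfsg.Agent.Lib.Elementary
import Cfsg.Prelude.Def_OddOrderLocal
import Mathlib

/-!
Two-generator `2`-groups: the subgroup `R = (S')² [S', S]` of index at most two in `S'`, a criterion
for being metacyclic, and the commutativity of `S'` in a product of two cyclic groups.
-/

set_option autoImplicit false
set_option linter.unusedSectionVars false
set_option linter.style.haveILetI false

namespace CfsgLib.Bicyclic

open scoped commutatorElement

universe u

variable {S : Type u} [Group S]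

/-- The subgroup generated by the squares of the elements of `X`. -/
def sqSub (X : Subgroup S) : Subgroup S := Subgroup.closure {u | ∃ s ∈ X, s ^ 2 = u}

instance sqSub_normal (X : Subgroup S) [X.Normal] : (sqSub X).Normal := by
  refine ⟨fun u hu g => ?_⟩
  induction hu using Subgroup.closure_induction with
  | mem x hx =>
    obtain ⟨s, hs, rfl⟩ := hx
    exact Subgroup.subset_closure ⟨g * s * g⁻¹, Subgroup.Normal.conj_mem inferInstance s hs g, conj_pow⟩
  | one => simp
  | mul a b _ _ ha hb =>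
    rw [show g * (a * b) * g⁻¹ = g * a * g⁻¹ * (g * b * g⁻¹) by group]
    exact mul_mem ha hb
  | inv a _ ha =>
    rw [show g * a⁻¹ * g⁻¹ = (g * a * g⁻¹)⁻¹ by group]
    exact inv_mem ha

theorem sq_le (X : Subgroup S) : sqSub X ≤ X := by
  rw [sqSub, Subgroup.closure_le]
  rintro _ ⟨s, hs, rfl⟩
  exact pow_mem hs 2

theorem sq_mem {X : Subgroup S} {s : S} (h : s ∈ X) : s ^ 2 ∈ sqSub X := Subgroup.subset_closure ⟨s, h, rfl⟩

variable (S) in
/-- `R = (S')² [S', S]`. -/
def derR : Subgroup S := sqSub (commutator S) ⊔ ⁅commutator S, (⊤ : Subgroup S)⁆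

instance derR_normal : (derR S).Normal := by
  unfold derR
  infer_instance

theorem derR_le : derR S ≤ commutator S :=
  sup_le (sq_le _) (Subgroup.commutator_le_left _ _)

/-- The commutator subgroup lies in every normal subgroup containing the commutator of two generators. -/
theorem commutator_le_of_gen {x y : S} (hgen : Subgroup.closure ({x, y} : Set S) = ⊤) (N : Subgroup S) [N.Normal]
    (h : ⁅x, y⁆ ∈ N) : commutator S ≤ N := by
  rw [← QuotientGroup.ker_mk' N, commutator_def, Subgroup.commutator_le]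
  intro a _ b _
  rw [MonoidHom.mem_ker, map_commutatorElement, commutatorElement_eq_one_iff_mul_comm]
  set π := QuotientGroup.mk' N
  have hxy : π x * π y = π y * π x := by
    rw [← commutatorElement_eq_one_iff_mul_comm, ← map_commutatorElement]
    exact (QuotientGroup.eq_one_iff _).mpr h
  have key : ∀ g : S, g ∈ (Subgroup.centralizer ({π x, π y} : Set (S ⧸ N))).comap π := fun g => by
    have hle : Subgroup.closure ({x, y} : Set S) ≤ (Subgroup.centralizer ({π x, π y} : Set (S ⧸ N))).comap π := by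
      rw [Subgroup.closure_le]
      intro z hz
      rw [SetLike.mem_coe, Subgroup.mem_comap, Subgroup.mem_centralizer_iff]
      intro w hw
      rcases hz with rfl | rfl <;> rcases hw with rfl | rfl
      exacts [rfl, hxy.symm, hxy, rfl]
    exact hle (hgen ▸ Subgroup.mem_top g)
  have hle2 : Subgroup.closure ({x, y} : Set S) ≤ (Subgroup.centralizer ({π b} : Set (S ⧸ N))).comap π := by
    rw [Subgroup.closure_le]
    intro z hz
    rw [SetLike.mem_coe, Subgroup.mem_comap, Subgroup.mem_centralizer_singleton_iff]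
    refine Subgroup.mem_centralizer_iff.mp (key b) (π z) ?_
    rcases hz with rfl | rfl <;> simp
  exact Subgroup.mem_centralizer_singleton_iff.mp (hle2 (hgen ▸ Subgroup.mem_top a))

variable [Finite S]

/-- Generation modulo squares. -/
theorem eq_of_le_sup_sq (hS : IsPGroup 2 S) {X A : Subgroup S} (hA : A ≤ X) (h : X ≤ A ⊔ sqSub X) : A = X := by
  haveI : Fact (Nat.Prime 2) := ⟨Nat.prime_two⟩
  refine le_antisymm hA fun x hx => ?_
  have htop : A.subgroupOf X ⊔ frattini X = ⊤ := by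
    rw [eq_top_iff]
    have hle : A ⊔ sqSub X ≤ (A.subgroupOf X ⊔ frattini X).map X.subtype := by
      refine sup_le (fun a ha => ⟨⟨a, hA ha⟩, Subgroup.mem_sup_left ha, rfl⟩) ?_
      rw [sqSub, Subgroup.closure_le]
      rintro _ ⟨s, hs, rfl⟩
      exact ⟨⟨s, hs⟩ ^ 2, Subgroup.mem_sup_right (CfsgLib.pow_mem_frattini_pGroup (hS.to_subgroup X) _), rfl⟩
    intro z _
    obtain ⟨w, hw, e⟩ := hle (h z.2)
    rwa [← Subtype.ext (a1 := w) (a2 := z) e]
  have h1 : A.subgroupOf X = ⊤ := frattini_nongenerating htop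
  exact (Subgroup.subgroupOf_eq_top.mp h1) hx

/-- A normal subgroup contained in `N [U, S]` lies in `N`. -/
theorem le_of_le_sup_commutator (hS : IsPGroup 2 S) {U N : Subgroup S} [U.Normal] [N.Normal]
    (h : U ≤ N ⊔ ⁅U, (⊤ : Subgroup S)⁆) : U ≤ N := by
  haveI : Fact (Nat.Prime 2) := ⟨Nat.prime_two⟩
  haveI := hS.isNilpotent
  set π := QuotientGroup.mk' N
  have hπ : Function.Surjective π := QuotientGroup.mk'_surjective N
  have key : U.map π ≤ ⁅U.map π, (⊤ : Subgroup (S ⧸ N))⁆ := by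
    calc U.map π ≤ (N ⊔ ⁅U, ⊤⁆).map π := Subgroup.map_mono h
      _ = ⁅U.map π, (⊤ : Subgroup (S ⧸ N))⁆ := by
        rw [Subgroup.map_sup, QuotientGroup.map_mk'_self, bot_sup_eq, Subgroup.map_commutator,
          Subgroup.map_top_of_surjective π hπ]
  obtain ⟨n, hn⟩ := Subgroup.nilpotent_iff_lowerCentralSeries.mp (inferInstance : Group.IsNilpotent (S ⧸ N))
  have hall : ∀ k, U.map π ≤ (⊤ : Subgroup (S ⧸ N)).lowerCentralSeries k := by
    intro k
    induction k with
    | zero => exact le_top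
    | succ k ih =>
      rw [Subgroup.lowerCentralSeries_succ]
      exact key.trans (Subgroup.commutator_mono ih le_rfl)
  have := (hall n).trans hn.le
  rwa [le_bot_iff, Subgroup.map_eq_bot_iff, QuotientGroup.ker_mk'] at this

theorem sq_commutator_lt (hS : IsPGroup 2 S) (hne : commutator S ≠ ⊥) : ¬ commutator S ≤ derR S := by
  intro h
  have h1 : commutator S ≤ sqSub (commutator S) := le_of_le_sup_commutator hS h
  exact hne ((eq_of_le_sup_sq hS bot_le (h1.trans le_sup_right)).symm)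

variable {x y : S}

/-- Modulo `R` the commutator subgroup is generated by the commutator of two generators. -/
theorem commutator_le_zpowers_sup (hgen : Subgroup.closure ({x, y} : Set S) = ⊤) :
    commutator S ≤ Subgroup.zpowers ⁅x, y⁆ ⊔ derR S := by
  have hc : ⁅x, y⁆ ∈ commutator S := Subgroup.commutator_mem_commutator (Subgroup.mem_top _) (Subgroup.mem_top _)
  haveI : (Subgroup.zpowers ⁅x, y⁆ ⊔ derR S).Normal := by
    refine Subgroup.normalizer_eq_top_iff.mp (eq_top_iff.mpr fun g _ => ?_)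
    refine Subgroup.mem_normalizer_fintype fun u hu => ?_
    have hu' : u ∈ commutator S :=
      (sup_le (Subgroup.zpowers_le.mpr hc) derR_le : Subgroup.zpowers ⁅x, y⁆ ⊔ derR S ≤ _) hu
    rw [show g * u * g⁻¹ = (g * u * g⁻¹ * u⁻¹) * u by group]
    refine mul_mem (Subgroup.mem_sup_right ?_) hu
    have h : ⁅u, g⁆⁻¹ ∈ derR S := inv_mem (Subgroup.mem_sup_right
      (Subgroup.commutator_mem_commutator hu' (Subgroup.mem_top g)))
    rwa [commutatorElement_inv, commutatorElement_def] at h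
  exact commutator_le_of_gen hgen _ (Subgroup.mem_sup_left (Subgroup.mem_zpowers _))

/-- An element of `S' ∖ R` generates `S'` modulo `R`; in particular two of them are congruent. -/
theorem mem_derR_mul (hgen : Subgroup.closure ({x, y} : Set S) = ⊤) {u v : S} (hu : u ∈ commutator S)
    (hv : v ∈ commutator S) (hu' : u ∉ derR S) (hv' : v ∉ derR S) : u * v ∈ derR S := by
  set c := ⁅x, y⁆
  set π := QuotientGroup.mk' (derR S)
  have hc : c ∈ commutator S := Subgroup.commutator_mem_commutator (Subgroup.mem_top _) (Subgroup.mem_top _)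
  have hc2 : π c ^ 2 = 1 := by
    rw [← map_pow]
    exact (QuotientGroup.eq_one_iff _).mpr (Subgroup.mem_sup_left (sq_mem hc))
  have key : ∀ w ∈ commutator S, π w = 1 ∨ π w = π c := by
    intro w hw
    have h1 : π w ∈ (Subgroup.zpowers c ⊔ derR S).map π := ⟨w, commutator_le_zpowers_sup hgen hw, rfl⟩
    rw [Subgroup.map_sup, QuotientGroup.map_mk'_self, sup_bot_eq, MonoidHom.map_zpowers] at h1
    obtain ⟨i, hi⟩ := h1
    rcases Int.even_or_odd' i with ⟨k, rfl | rfl⟩
    · left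
      rw [← hi]
      show π c ^ (2 * k) = 1
      rw [zpow_mul, zpow_ofNat, hc2, one_zpow]
    · right
      rw [← hi]
      show π c ^ (2 * k + 1) = π c
      rw [zpow_add, zpow_mul, zpow_ofNat, hc2, one_zpow, zpow_one, one_mul]
  have hu1 : π u = π c := (key u hu).resolve_left fun h => hu' ((QuotientGroup.eq_one_iff _).mp h)
  have hv1 : π v = π c := (key v hv).resolve_left fun h => hv' ((QuotientGroup.eq_one_iff _).mp h)
  refine (QuotientGroup.eq_one_iff _).mp ?_
  show π (u * v) = 1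
  rw [map_mul, hu1, hv1, ← sq, hc2]

/-- Modulo `R` commutators are central of order at most two and squares are central. -/
theorem quot_facts (g h : S) :
    QuotientGroup.mk' (derR S) ⁅g, h⁆ ^ 2 = 1 ∧
      (∀ k : S, Commute (QuotientGroup.mk' (derR S) ⁅g, h⁆) (QuotientGroup.mk' (derR S) k)) ∧
      Commute (QuotientGroup.mk' (derR S) g ^ 2) (QuotientGroup.mk' (derR S) h) := by
  set π := QuotientGroup.mk' (derR S)
  have hc : ∀ g h : S, π ⁅g, h⁆ ^ 2 = 1 ∧ ∀ k : S, Commute (π ⁅g, h⁆) (π k) := by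
    intro g h
    have hmem : ⁅g, h⁆ ∈ commutator S := Subgroup.commutator_mem_commutator (Subgroup.mem_top _) (Subgroup.mem_top _)
    refine ⟨?_, fun k => ?_⟩
    · rw [← map_pow]
      exact (QuotientGroup.eq_one_iff _).mpr (Subgroup.mem_sup_left (sq_mem hmem))
    · show π ⁅g, h⁆ * π k = π k * π ⁅g, h⁆
      rw [← commutatorElement_eq_one_iff_mul_comm, ← map_commutatorElement]
      exact (QuotientGroup.eq_one_iff _).mpr (Subgroup.mem_sup_right
        (Subgroup.commutator_mem_commutator hmem (Subgroup.mem_top k)))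
  refine ⟨(hc g h).1, (hc g h).2, ?_⟩
  obtain ⟨h2, hk⟩ := hc g h
  show π g ^ 2 * π h = π h * π g ^ 2
  rw [map_commutatorElement, commutatorElement_def] at h2 hk
  obtain ⟨c, hcdef⟩ : ∃ c, c = π g * π h * (π g)⁻¹ * (π h)⁻¹ := ⟨_, rfl⟩
  rw [← hcdef] at h2 hk
  have e : π g * π h = c * (π h * π g) := by rw [hcdef]; group
  have hcg : c * π g = π g * c := hk g
  calc π g ^ 2 * π h = π g * (π g * π h) := by rw [sq, mul_assoc]
    _ = π g * (c * (π h * π g)) := by rw [e]
    _ = (π g * c) * (π h * π g) := (mul_assoc _ _ _).symm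
    _ = c * (π g * π h) * π g := by rw [← hcg]; group
    _ = c ^ 2 * (π h * π g ^ 2) := by rw [e, sq, sq]; group
    _ = π h * π g ^ 2 := by rw [h2, one_mul]

/-- A two-generator group with `hᵉ ∈ S' ∖ R` for one of its generators is metacyclic. -/
theorem isMetacyclic_of_gen (hS : IsPGroup 2 S) {h g : S} (hgen : Subgroup.closure ({h, g} : Set S) = ⊤) {e : ℕ}
    (hmem : h ^ e ∈ commutator S) (hout : h ^ e ∉ derR S) : Cfsg.IsMetacyclic S := by
  haveI : Fact (Nat.Prime 2) := ⟨Nat.prime_two⟩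
  set c := ⁅g, h⁆ with hc
  have hgen' : Subgroup.closure ({g, h} : Set S) = ⊤ := by rw [Set.pair_comm]; exact hgen
  have hcS : c ∈ commutator S := Subgroup.commutator_mem_commutator (Subgroup.mem_top _) (Subgroup.mem_top _)
  have hne : commutator S ≠ ⊥ := fun hb => by
    rw [hb, Subgroup.mem_bot] at hmem
    exact hout (hmem ▸ one_mem _)
  -- the exponent is even
  have he : Even e := by
    by_contra hodd
    rw [Nat.not_even_iff_odd] at hodd
    have hh : h ∈ frattini S := by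
      obtain ⟨j, rfl⟩ := hodd
      have h1 : h ^ (2 * j + 1) ∈ frattini S := CfsgLib.commutator_le_frattini_pGroup hS hmem
      rw [pow_succ] at h1
      have h2 : h ^ (2 * j) ∈ frattini S := by
        rw [mul_comm, pow_mul]
        exact CfsgLib.pow_mem_frattini_pGroup hS _
      simpa using mul_mem (inv_mem h2) h1
    have htop : Subgroup.zpowers g = ⊤ := frattini_nongenerating (by
      rw [eq_top_iff, ← hgen, Subgroup.closure_le]
      rintro z (rfl | rfl)
      · exact Subgroup.mem_sup_right hh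
      · exact Subgroup.mem_sup_left (Subgroup.mem_zpowers z))
    refine hne (le_bot_iff.mp ?_)
    rw [commutator_def, Subgroup.commutator_le]
    intro a _ b _
    obtain ⟨i, rfl⟩ := Subgroup.mem_zpowers_iff.mp (htop.ge (Subgroup.mem_top a))
    obtain ⟨j, rfl⟩ := Subgroup.mem_zpowers_iff.mp (htop.ge (Subgroup.mem_top b))
    rw [Subgroup.mem_bot, commutatorElement_eq_one_iff_mul_comm]
    exact (Commute.zpow_zpow_self g i j).eq
  -- `[S', S]` consists of squares
  have hsq : ⁅commutator S, (⊤ : Subgroup S)⁆ ≤ sqSub (commutator S) := by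
    refine le_of_le_sup_commutator hS ?_
    set U := ⁅commutator S, (⊤ : Subgroup S)⁆
    set V := sqSub (commutator S) ⊔ ⁅U, (⊤ : Subgroup S)⁆
    set π := QuotientGroup.mk' V
    have hVone : ∀ v ∈ V, π v = 1 := fun v hv => (QuotientGroup.eq_one_iff v).mpr hv
    have hR : ∀ u ∈ derR S, ∀ k : S, Commute (π u) (π k) := by
      intro u hu k
      have hUc : ∀ u ∈ U, ∀ k : S, Commute (π u) (π k) := fun u hu k => by
        show π u * π k = π k * π u
        rw [← commutatorElement_eq_one_iff_mul_comm, ← map_commutatorElement]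
        exact hVone _ (Subgroup.mem_sup_right (Subgroup.commutator_mem_commutator hu (Subgroup.mem_top k)))
      have hu' : u ∈ ((sqSub (commutator S) ⊔ U : Subgroup S) : Set S) := hu
      rw [Subgroup.normal_mul] at hu'
      obtain ⟨s, hs, w, hw, rfl⟩ := hu'
      rw [map_mul, hVone s (Subgroup.mem_sup_left hs), one_mul]
      exact hUc w hw k
    have hρ : (h ^ e)⁻¹ * c ∈ derR S := by
      have h1 : (h ^ e)⁻¹ * c = ((h ^ e)⁻¹ * (h ^ e)⁻¹) * (h ^ e * c) := by group
      rw [h1]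
      refine mul_mem ?_ (mem_derR_mul hgen' hmem hcS hout fun hcR => hout ?_)
      · rw [← sq]
        exact Subgroup.mem_sup_left (sq_mem (inv_mem hmem))
      · exact (sup_le (Subgroup.zpowers_le.mpr hcR) le_rfl : Subgroup.zpowers c ⊔ derR S ≤ derR S)
          (commutator_le_zpowers_sup hgen' hmem)
    have hC2 : π c ^ 2 = 1 := by rw [← map_pow]; exact hVone _ (Subgroup.mem_sup_left (sq_mem hcS))
    have hce : π c = π h ^ e * π ((h ^ e)⁻¹ * c) := by rw [← map_pow, ← map_mul, mul_inv_cancel_left]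
    have hch : Commute (π c) (π h) := by
      rw [hce]
      exact ((Commute.refl (π h)).pow_left e).mul_left (hR _ hρ h)
    have hgh : π g * π h * (π g)⁻¹ = π c * π h := by
      rw [hc, map_commutatorElement, commutatorElement_def]; group
    have hcg : Commute (π c) (π g) := by
      have h1 : π g * π h ^ e * (π g)⁻¹ = π h ^ e := by
        obtain ⟨j, rfl⟩ := he
        rw [← conj_pow, hgh, hch.mul_pow, ← two_mul, pow_mul, hC2, one_pow, one_mul]
      rw [hce]
      refine Commute.mul_left ?_ (hR _ hρ g)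
      show π h ^ e * π g = π g * π h ^ e
      exact (mul_inv_eq_iff_eq_mul.mp h1).symm
    have hall : ∀ k : S, Commute (π c) (π k) := by
      intro k
      have hle : Subgroup.closure ({h, g} : Set S) ≤ (Subgroup.centralizer ({π c} : Set (S ⧸ V))).comap π := by
        rw [Subgroup.closure_le]
        rintro z (rfl | rfl) <;> rw [SetLike.mem_coe, Subgroup.mem_comap, Subgroup.mem_centralizer_singleton_iff]
        exacts [hch.symm.eq, hcg.symm.eq]
      exact (Subgroup.mem_centralizer_singleton_iff.mp (hle (hgen ▸ Subgroup.mem_top k))).symm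
    rw [Subgroup.commutator_le]
    intro u hu k _
    refine (QuotientGroup.eq_one_iff (N := V) _).mp ?_
    show π ⁅u, k⁆ = 1
    rw [map_commutatorElement, commutatorElement_eq_one_iff_mul_comm]
    have hu' : u ∈ ((Subgroup.zpowers c ⊔ derR S : Subgroup S) : Set S) := commutator_le_zpowers_sup hgen' hu
    rw [Subgroup.mul_normal] at hu'
    obtain ⟨v, hv, w, hw, rfl⟩ := hu'
    obtain ⟨i, rfl⟩ := Subgroup.mem_zpowers_iff.mp hv
    rw [map_mul, map_zpow]
    exact (((hall k).zpow_left i).mul_left (hR w hw k)).eq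
  -- hence `S'` is generated by `hᵉ`
  have hgen2 : Subgroup.zpowers (h ^ e) = commutator S := by
    refine eq_of_le_sup_sq hS (Subgroup.zpowers_le.mpr hmem) fun u hu => ?_
    have hR : derR S ≤ Subgroup.zpowers (h ^ e) ⊔ sqSub (commutator S) :=
      (sup_le le_rfl hsq).trans le_sup_right
    by_cases hu' : u ∈ derR S
    · exact hR hu'
    have h1 := hR (mem_derR_mul hgen' hu hmem hu' hout)
    have h2 : h ^ e ∈ Subgroup.zpowers (h ^ e) ⊔ sqSub (commutator S) :=
      Subgroup.mem_sup_left (Subgroup.mem_zpowers _)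
    simpa using mul_mem h1 (inv_mem h2)
  have hcom : commutator S ≤ Subgroup.zpowers h := by
    rw [← hgen2, Subgroup.zpowers_le]
    exact Subgroup.pow_mem _ (Subgroup.mem_zpowers h) e
  haveI : (Subgroup.zpowers h).Normal := Subgroup.Normal.of_commutator_le S hcom
  refine ⟨Subgroup.zpowers h, inferInstance, inferInstance, ⟨⟨QuotientGroup.mk g, fun z => ?_⟩⟩⟩
  obtain ⟨k, rfl⟩ := QuotientGroup.mk_surjective z
  have hle : Subgroup.closure ({h, g} : Set S) ≤
      (Subgroup.zpowers (QuotientGroup.mk g : S ⧸ Subgroup.zpowers h)).comap (QuotientGroup.mk' _) := by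
    rw [Subgroup.closure_le]
    rintro w (rfl | rfl) <;> rw [SetLike.mem_coe, Subgroup.mem_comap]
    · have e1 : QuotientGroup.mk' (Subgroup.zpowers w) w = 1 := (QuotientGroup.eq_one_iff w).mpr (Subgroup.mem_zpowers w)
      rw [e1]
      exact one_mem _
    · exact Subgroup.mem_zpowers _
  exact hle (hgen ▸ Subgroup.mem_top k)

theorem mem_of_odd_pow (hS : IsPGroup 2 S) {K : Subgroup S} {g : S} {i : ℕ} (hi : Odd i) (h : g ^ i ∈ K) :
    g ∈ K := by
  haveI : Fact (Nat.Prime 2) := ⟨Nat.prime_two⟩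
  obtain ⟨k, hk⟩ := hS g
  have hco : (orderOf g).Coprime i :=
    Nat.Coprime.coprime_dvd_left (orderOf_dvd_of_pow_eq_one hk) ((Nat.coprime_two_left.mpr hi).pow_left k)
  obtain ⟨m, hm⟩ := exists_pow_eq_self_of_coprime hco.symm
  rw [← hm]
  exact pow_mem h m

/-- The exponent criterion. -/
theorem isMetacyclic_of_pow (hS : IsPGroup 2 S) (hgen : Subgroup.closure ({x, y} : Set S) = ⊤) {α i' q : ℕ}
    (hα : 1 ≤ α) (hi' : Odd i') (hor : 2 ≤ α ∨ Even q)
    (hmem : x ^ (2 ^ α * i') * y ^ (2 ^ α * q) ∈ commutator S)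
    (hout : x ^ (2 ^ α * i') * y ^ (2 ^ α * q) ∉ derR S) : Cfsg.IsMetacyclic S := by
  set h := x ^ i' * y ^ q with hh
  have hgen' : Subgroup.closure ({h, y} : Set S) = ⊤ := by
    rw [eq_top_iff, ← hgen, Subgroup.closure_le]
    rintro z (rfl | rfl)
    · refine mem_of_odd_pow hS hi' ?_
      have h1 := mul_mem (Subgroup.subset_closure (k := ({h, y} : Set S)) (Or.inl rfl))
        (inv_mem (pow_mem (Subgroup.subset_closure (k := ({h, y} : Set S)) (Or.inr rfl)) q))
      rwa [hh, mul_inv_cancel_right] at h1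
    · exact Subgroup.subset_closure (Or.inr rfl)
  set π := QuotientGroup.mk' (derR S)
  have key : π (h ^ 2 ^ α) = π (x ^ (2 ^ α * i') * y ^ (2 ^ α * q)) := by
    simp only [hh, map_pow, map_mul]
    set A := π x ^ i' with hA
    set B := π y ^ q with hB
    rw [mul_comm (2 ^ α) i', mul_comm (2 ^ α) q, pow_mul, pow_mul, ← hA, ← hB]
    obtain ⟨β, rfl⟩ := Nat.exists_eq_add_of_le hα
    rw [Nat.add_comm, pow_succ' 2 β, pow_mul, pow_mul, pow_mul]
    obtain ⟨hz2, hzc, hsqc⟩ := quot_facts (S := S) (y ^ q) (x ^ i')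
    rw [map_commutatorElement, map_pow, map_pow, ← hA, ← hB] at hz2 hzc
    rw [map_pow, map_pow, ← hA, ← hB] at hsqc
    have hBA : B * A = ⁅B, A⁆ * (A * B) := by rw [commutatorElement_def]; group
    have hzA : Commute ⁅B, A⁆ A := by
      have := hzc (x ^ i')
      rwa [map_pow, ← hA] at this
    have hzB : Commute ⁅B, A⁆ B := by
      have := hzc (y ^ q)
      rwa [map_pow, ← hB] at this
    have hsq1 : (A * B) ^ 2 = ⁅B, A⁆ * (A ^ 2 * B ^ 2) := by
      calc (A * B) ^ 2 = A * (B * A) * B := by rw [sq]; group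
        _ = (A * ⁅B, A⁆) * (A * B * B) := by rw [hBA]; group
        _ = ⁅B, A⁆ * (A ^ 2 * B ^ 2) := by rw [← hzA.eq, sq, sq]; group
    have hA2 : Commute ⁅B, A⁆ (A ^ 2 * B ^ 2) := (hzA.pow_right 2).mul_right (hzB.pow_right 2)
    have hAB2 : Commute (A ^ 2) (B ^ 2) := (hsqc.symm.pow_left 2)
    rw [hsq1, hA2.mul_pow, hAB2.mul_pow]
    rcases Nat.eq_zero_or_pos β with rfl | hβ
    · rcases hor with h | ⟨j, rfl⟩
      · omega
      · have hcom : B * A = A * B := by
          have hj := (quot_facts (S := S) (y ^ j) (x ^ i')).2.2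
          rw [map_pow, map_pow, ← hA, ← pow_mul, show j * 2 = j + j by ring, ← hB] at hj
          exact hj.eq
        rw [commutatorElement_eq_one_iff_mul_comm.mpr hcom, one_pow, one_mul]
    · obtain ⟨γ, rfl⟩ := Nat.exists_eq_add_of_le hβ
      rw [show 2 ^ (1 + γ) = 2 * 2 ^ γ by rw [pow_add, pow_one], pow_mul ⁅B, A⁆, hz2, one_pow, one_mul]
  have hd : (h ^ 2 ^ α)⁻¹ * (x ^ (2 ^ α * i') * y ^ (2 ^ α * q)) ∈ derR S := QuotientGroup.eq.mp key
  refine isMetacyclic_of_gen hS hgen' (e := 2 ^ α) ?_ ?_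
  · have := mul_mem hmem (inv_mem (derR_le hd))
    simpa [mul_assoc] using this
  · intro hb
    exact hout (by simpa using mul_mem hb hd)

/-- The exponent criterion with the factors exchanged. -/
theorem isMetacyclic_of_pow' (hS : IsPGroup 2 S) (hgen : Subgroup.closure ({x, y} : Set S) = ⊤) {α i' q : ℕ}
    (hα : 1 ≤ α) (hi' : Odd i') (hor : 2 ≤ α ∨ Even q)
    (hmem : x ^ (2 ^ α * q) * y ^ (2 ^ α * i') ∈ commutator S)
    (hout : x ^ (2 ^ α * q) * y ^ (2 ^ α * i') ∉ derR S) : Cfsg.IsMetacyclic S := by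
  have hcomm : (y ^ (2 ^ α * i') * x ^ (2 ^ α * q))⁻¹ * (x ^ (2 ^ α * q) * y ^ (2 ^ α * i')) ∈ derR S := by
    refine QuotientGroup.eq.mp ?_
    show QuotientGroup.mk' (derR S) _ = QuotientGroup.mk' (derR S) _
    obtain ⟨β, rfl⟩ := Nat.exists_eq_add_of_le hα
    have h1 := (quot_facts (S := S) (x ^ (2 ^ β * q)) (y ^ (2 ^ (1 + β) * i'))).2.2
    rw [map_pow, map_pow, ← pow_mul, show 2 ^ β * q * 2 = 2 ^ (1 + β) * q by rw [pow_add]; ring] at h1
    simp only [map_mul, map_pow]
    exact h1.eq.symm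
  refine isMetacyclic_of_pow hS (x := y) (y := x) (by rwa [Set.pair_comm]) hα hi' hor ?_ ?_
  · have := mul_mem hmem (inv_mem (derR_le hcomm))
    simpa [mul_assoc] using this
  · intro hb
    have := mul_mem hb hcomm
    rw [mul_inv_cancel_left] at this
    exact hout this

/-- **Itô**: the commutator subgroup of a product of two cyclic groups is commutative. -/
theorem commutator_comm (x y : S) (hb : ∀ g : S, ∃ i j : ℤ, g = x ^ i * y ^ j) :
    ∀ u ∈ commutator S, ∀ v ∈ commutator S, u * v = v * u := by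
  have hb' : ∀ g : S, ∃ j i : ℤ, g = y ^ j * x ^ i := fun g => by
    obtain ⟨i, j, h⟩ := hb g⁻¹
    refine ⟨-j, -i, ?_⟩
    rw [← inv_inv g, h, zpow_neg, zpow_neg, mul_inv_rev]
  -- conjugation by `y` moves the first entry, by `x` the second
  have hyc : ∀ (j i : ℤ), ∃ i' : ℤ, ∀ l : ℤ, y ^ j * ⁅x ^ i, y ^ l⁆ * (y ^ j)⁻¹ = ⁅x ^ i', y ^ l⁆ := by
    intro j i
    obtain ⟨i', l', h⟩ := hb (y ^ j * x ^ i * (y ^ j)⁻¹)
    refine ⟨i', fun l => ?_⟩
    have hll : y ^ j * y ^ l * (y ^ j)⁻¹ = y ^ l := by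
      rw [(Commute.zpow_zpow_self y j l).eq, mul_inv_cancel_right]
    rw [show y ^ j * ⁅x ^ i, y ^ l⁆ * (y ^ j)⁻¹ = ⁅y ^ j * x ^ i * (y ^ j)⁻¹, y ^ j * y ^ l * (y ^ j)⁻¹⁆ by
      simp only [commutatorElement_def]; group, h, hll]
    simp only [commutatorElement_def, mul_inv_rev]
    calc x ^ i' * y ^ l' * y ^ l * ((y ^ l')⁻¹ * (x ^ i')⁻¹) * (y ^ l)⁻¹
        = x ^ i' * (y ^ l' * y ^ l * (y ^ l')⁻¹) * (x ^ i')⁻¹ * (y ^ l)⁻¹ := by group
      _ = x ^ i' * y ^ l * (x ^ i')⁻¹ * (y ^ l)⁻¹ := by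
        rw [(Commute.zpow_zpow_self y l' l).eq, mul_inv_cancel_right]
  have hxc : ∀ (i l : ℤ), ∃ l' : ℤ, ∀ k : ℤ, x ^ i * ⁅x ^ k, y ^ l⁆ * (x ^ i)⁻¹ = ⁅x ^ k, y ^ l'⁆ := by
    intro i l
    obtain ⟨l', i', h⟩ := hb' (x ^ i * y ^ l * (x ^ i)⁻¹)
    refine ⟨l', fun k => ?_⟩
    have hkk : x ^ i * x ^ k * (x ^ i)⁻¹ = x ^ k := by
      rw [(Commute.zpow_zpow_self x i k).eq, mul_inv_cancel_right]
    rw [show x ^ i * ⁅x ^ k, y ^ l⁆ * (x ^ i)⁻¹ = ⁅x ^ i * x ^ k * (x ^ i)⁻¹, x ^ i * y ^ l * (x ^ i)⁻¹⁆ by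
      simp only [commutatorElement_def]; group, h, hkk]
    simp only [commutatorElement_def, mul_inv_rev]
    calc x ^ k * (y ^ l' * x ^ i') * (x ^ k)⁻¹ * ((x ^ i')⁻¹ * (y ^ l')⁻¹)
        = x ^ k * y ^ l' * (x ^ i' * (x ^ k)⁻¹ * (x ^ i')⁻¹) * (y ^ l')⁻¹ := by group
      _ = x ^ k * y ^ l' * (x ^ k)⁻¹ * (y ^ l')⁻¹ := by
        rw [((Commute.zpow_zpow_self x i' k).inv_right).eq, mul_inv_cancel_right]
  -- the subgroup generated by the commutators
  set C := Subgroup.closure (Set.range fun p : ℤ × ℤ => ⁅x ^ p.1, y ^ p.2⁆) with hC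
  have hgenC : ∀ k l : ℤ, ⁅x ^ k, y ^ l⁆ ∈ C := fun k l => Subgroup.subset_closure ⟨(k, l), rfl⟩
  have hCcomm : ∀ u ∈ C, ∀ v ∈ C, u * v = v * u := by
    have hg : ∀ i j k l : ℤ, Commute ⁅x ^ i, y ^ j⁆ ⁅x ^ k, y ^ l⁆ := by
      intro i j k l
      set c := ⁅x ^ k, y ^ l⁆ with hc
      have hswap : x ^ i * (y ^ j * c * (y ^ j)⁻¹) * (x ^ i)⁻¹ = y ^ j * (x ^ i * c * (x ^ i)⁻¹) * (y ^ j)⁻¹ := by
        obtain ⟨k', hk⟩ := hyc j k
        obtain ⟨l', hl⟩ := hxc i l
        rw [hc, hk l, hl k', hl k, hk l']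
      show ⁅x ^ i, y ^ j⁆ * c = c * ⁅x ^ i, y ^ j⁆
      refine mul_inv_eq_iff_eq_mul.mp ?_
      -- `[xⁱ, yʲ] = (xⁱ yʲ)(yʲ xⁱ)⁻¹` fixes `c`
      set d := (y ^ j * x ^ i)⁻¹ * c * (y ^ j * x ^ i) with hd
      calc ⁅x ^ i, y ^ j⁆ * c * ⁅x ^ i, y ^ j⁆⁻¹
          = x ^ i * (y ^ j * d * (y ^ j)⁻¹) * (x ^ i)⁻¹ := by
            rw [hd, commutatorElement_def]; group
        _ = c := ?_
      obtain ⟨k', hk⟩ := hyc (-j) k
      obtain ⟨l', hl⟩ := hxc (-i) l
      have hdc : d = ⁅x ^ k', y ^ l'⁆ := by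
        rw [hd, hc, show (y ^ j * x ^ i)⁻¹ * ⁅x ^ k, y ^ l⁆ * (y ^ j * x ^ i) =
          x ^ (-i) * (y ^ (-j) * ⁅x ^ k, y ^ l⁆ * (y ^ (-j))⁻¹) * (x ^ (-i))⁻¹ by group, hk l, hl k']
      obtain ⟨k'', hk'⟩ := hyc j k'
      obtain ⟨l'', hl'⟩ := hxc i l'
      have e1 : x ^ i * (y ^ j * d * (y ^ j)⁻¹) * (x ^ i)⁻¹ = y ^ j * (x ^ i * d * (x ^ i)⁻¹) * (y ^ j)⁻¹ := by
        rw [hdc, hk' l', hl' k'', hl' k', hk' l'']
      rw [e1, hd]
      group
    intro u hu v hv
    have h1 : C ≤ Subgroup.centralizer (C : Set S) := by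
      nth_rw 1 [hC]
      rw [Subgroup.closure_le]
      rintro _ ⟨⟨i, j⟩, rfl⟩
      rw [SetLike.mem_coe, Subgroup.mem_centralizer_iff]
      intro v hv
      have h2 : C ≤ Subgroup.centralizer ({⁅x ^ i, y ^ j⁆} : Set S) := by
        nth_rw 1 [hC]
        rw [Subgroup.closure_le]
        rintro _ ⟨⟨k, l⟩, rfl⟩
        exact Subgroup.mem_centralizer_singleton_iff.mpr (hg k l i j).eq
      exact Subgroup.mem_centralizer_singleton_iff.mp (h2 hv)
    exact Subgroup.mem_centralizer_iff.mp (h1 hv) u hu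
  haveI : C.Normal := by
    refine ⟨fun u hu g => ?_⟩
    obtain ⟨i, j, rfl⟩ := hb g
    induction hu using Subgroup.closure_induction with
    | mem w hw =>
      obtain ⟨⟨k, l⟩, rfl⟩ := hw
      obtain ⟨k', hk⟩ := hyc j k
      obtain ⟨l', hl⟩ := hxc i l
      rw [show x ^ i * y ^ j * ⁅x ^ k, y ^ l⁆ * (x ^ i * y ^ j)⁻¹ =
        x ^ i * (y ^ j * ⁅x ^ k, y ^ l⁆ * (y ^ j)⁻¹) * (x ^ i)⁻¹ by group, hk l, hl k']
      exact hgenC k' l'
    | one => simp
    | mul a b _ _ ha hb' =>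
      rw [show x ^ i * y ^ j * (a * b) * (x ^ i * y ^ j)⁻¹ =
        (x ^ i * y ^ j * a * (x ^ i * y ^ j)⁻¹) * (x ^ i * y ^ j * b * (x ^ i * y ^ j)⁻¹) by group]
      exact mul_mem ha hb'
    | inv a _ ha =>
      rw [show x ^ i * y ^ j * a⁻¹ * (x ^ i * y ^ j)⁻¹ = (x ^ i * y ^ j * a * (x ^ i * y ^ j)⁻¹)⁻¹ by group]
      exact inv_mem ha
  have hgen : Subgroup.closure ({x, y} : Set S) = ⊤ := eq_top_iff.mpr fun g _ => by
    obtain ⟨i, j, rfl⟩ := hb g
    exact mul_mem (zpow_mem (Subgroup.subset_closure (k := ({x, y} : Set S)) (Or.inl rfl)) i)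
      (zpow_mem (Subgroup.subset_closure (k := ({x, y} : Set S)) (Or.inr rfl)) j)
  have hle : commutator S ≤ C := commutator_le_of_gen hgen C (by simpa using hgenC 1 1)
  exact fun u hu v hv => hCcomm u (hle hu) v (hle hv)

end CfsgLib.Bicyclic
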