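import Cfsg.Agent.Lib.Fusion.Bicyclic.CaseY
import Cfsg.Agent.Lib.HSub.Complement
import Cfsg.Agent.Lib.AfterFT.OutSmallRank

/-!
No abelian essential subgroup lies in `⟨b⟩ Φ(S)`.
-/

set_option autoImplicit false
set_option linter.unusedSectionVars false
set_option linter.unusedVariables false
set_option linter.style.haveILetI false

namespace CfsgLib.Bicyclic

open scoped commutatorElement

universe u

variable {S : Type u} [Group S] [Finite S] {a b : S}

theorem mul_self_inv {G : Type*} [Group G] {x : G} (h : x * x = 1) : x⁻¹ = x := inv_eq_of_mul_eq_one_right h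

/-- Odd order and a power of two equal to `1` give `1`. -/
theorem eq_one_of_odd_two {G : Type*} [Group G] {k : G} (hodd : Odd (orderOf k)) {e : ℕ} (h : k ^ 2 ^ e = 1) :
    k = 1 :=
  orderOf_eq_one_iff.mp (Nat.eq_one_of_dvd_coprimes ((Nat.coprime_two_right.mpr hodd).pow_right e) dvd_rfl
    (orderOf_dvd_of_pow_eq_one h))

namespace Frame

variable (F : Frame a b)

include F

theorem W_cases (hnc : ¬ IsCyclic ↥(commutator S)) {u v : S} (hu : u ∈ F.W) (hv : v ∈ F.W) (hu1 : u ≠ 1)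
    (hv1 : v ≠ 1) (huv : u ≠ v) : ∀ w ∈ F.W, w = 1 ∨ w = u ∨ w = v ∨ w = u * v := by
  classical
  haveI : Fintype F.W := Fintype.ofFinite _
  intro w hw
  have h4 : Fintype.card F.W = 4 := by rw [← Nat.card_eq_fintype_card, F.card_W hnc]
  have huniv : ({1, ⟨u, hu⟩, ⟨v, hv⟩, ⟨u * v, mul_mem hu hv⟩} : Finset F.W) = Finset.univ := by
    refine Finset.eq_univ_of_card _ ?_
    rw [h4, Finset.card_insert_of_notMem, Finset.card_insert_of_notMem, Finset.card_pair]
    · exact fun h => hu1 (mul_eq_right.mp (congrArg Subtype.val h).symm)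
    · simp only [Finset.mem_insert, Finset.mem_singleton, not_or]
      exact ⟨fun h => huv (congrArg Subtype.val h), fun h => hv1 (mul_eq_left.mp (congrArg Subtype.val h).symm)⟩
    · simp only [Finset.mem_insert, Finset.mem_singleton, not_or]
      refine ⟨fun h => hu1 (congrArg Subtype.val h).symm, fun h => hv1 (congrArg Subtype.val h).symm, fun h => huv ?_⟩
      have h' : (1 : S) = u * v := congrArg Subtype.val h
      rw [← mul_one u, ← mul_self_inv hv.2, ← mul_inv_eq_one.mp (by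
        rw [mul_one, inv_inv]; exact h'.symm : u * 1 * (v⁻¹)⁻¹ = 1)]
  have := huniv ▸ Finset.mem_univ (⟨w, hw⟩ : F.W)
  simp only [Finset.mem_insert, Finset.mem_singleton] at this
  exact this.imp (congrArg Subtype.val) (Or.imp (congrArg Subtype.val) (Or.imp (congrArg Subtype.val)
    (congrArg Subtype.val)))

theorem centralizer_frattini_gen (hnc : ¬ IsCyclic ↥(commutator S)) {g : S} (hg : b⁻¹ * g ∈ frattini S) :
    ∃ p ∈ frattini S, g * p = p * g ∧ ∀ v ∈ frattini S, g * v = v * g → ∃ j : ℤ, (p ^ j)⁻¹ * v ∈ F.W := by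
  set π := QuotientGroup.mk' (commutator S)
  set P := frattini S ⊓ Subgroup.centralizer ({g} : Set S) with hP
  have hle : P.map π ≤ Subgroup.zpowers (π (a ^ 2)) := by
    rintro _ ⟨v, hv, rfl⟩
    obtain ⟨i, s, hs, rfl⟩ := F.frattini_form hv.1
    rw [map_mul, show π s = 1 from (QuotientGroup.eq_one_iff s).mpr hs, mul_one, pow_mul, map_pow]
    exact Subgroup.pow_mem _ (Subgroup.mem_zpowers _) i
  haveI : IsCyclic ↥(P.map π) := isCyclic_of_injective (Subgroup.inclusion hle) (Subgroup.inclusion_injective hle)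
  obtain ⟨⟨q, hq⟩, hgen⟩ := IsCyclic.exists_generator (α := ↥(P.map π))
  obtain ⟨p, hp, rfl⟩ := hq
  refine ⟨p, hp.1, (Subgroup.mem_centralizer_singleton_iff.mp hp.2).symm, fun v hv hgv => ?_⟩
  have hvP : v ∈ P := ⟨hv, Subgroup.mem_centralizer_singleton_iff.mpr hgv.symm⟩
  obtain ⟨j, hj⟩ := hgen ⟨π v, Subgroup.mem_map_of_mem π hvP⟩
  have hj' : π p ^ j = π v := congrArg Subtype.val hj
  refine ⟨j, F.refl_fix hnc hg ?_ ?_⟩
  · refine (QuotientGroup.eq_one_iff _).mp ?_
    show π _ = 1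
    rw [map_mul, map_inv, map_zpow, hj', inv_mul_cancel]
  · exact (Subgroup.mem_centralizer_singleton_iff.mp ((Subgroup.centralizer ({g} : Set S)).mul_mem
      ((Subgroup.centralizer ({g} : Set S)).inv_mem ((Subgroup.centralizer ({g} : Set S)).zpow_mem hp.2 j)) hvP.2)).symm

theorem closure_pair {x g : S} (hx : x ∉ F.M) (hg : b⁻¹ * g ∈ frattini S) :
    Subgroup.closure ({x, g} : Set S) = ⊤ := by
  refine frattini_nongenerating ?_
  set K := Subgroup.closure ({x, g} : Set S) ⊔ frattini S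
  have hgK : g ∈ K := Subgroup.mem_sup_left (Subgroup.subset_closure (Or.inr rfl))
  have hxK : x ∈ K := Subgroup.mem_sup_left (Subgroup.subset_closure (Or.inl rfl))
  have hbK : b ∈ K := by
    have := mul_mem hgK (inv_mem (Subgroup.mem_sup_right (S := Subgroup.closure ({x, g} : Set S)) hg))
    rwa [mul_inv_rev, inv_inv, mul_inv_cancel_left] at this
  obtain ⟨i, ε, hε, s, hs, rfl⟩ := F.exists_form x
  have hsK : s ∈ K := Subgroup.mem_sup_right (F.comm_le_frattini hs)
  have hi : Odd i := by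
    rw [← Nat.not_even_iff_odd]
    rintro ⟨k, rfl⟩
    refine hx (mul_mem (mul_mem ?_ (pow_mem F.b_mem_M ε)) (F.commutator_le_M hs))
    rw [← two_mul, pow_mul]
    exact F.frattini_le_M (pow_mem (F.sq_mem_frattini a) k)
  have hai : a ^ i ∈ K := by
    have := mul_mem (mul_mem hxK (inv_mem hsK)) (inv_mem (pow_mem hbK ε))
    rwa [mul_inv_cancel_right, mul_inv_cancel_right] at this
  rw [eq_top_iff, ← F.gen, Subgroup.closure_le]
  rintro z (rfl | rfl)
  · exact mem_of_odd_pow F.two hi hai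
  · exact hbK

theorem comm_mul_W (hnc : ¬ IsCyclic ↥(commutator S)) {x y g : S} (hx : x ∈ F.M) (hy : ⁅y, g⁆ ∈ F.W) :
    ⁅x * y, g⁆ = ⁅y, g⁆ * ⁅x, g⁆ := by
  have h1 : ⁅x * y, g⁆ = x * ⁅y, g⁆ * x⁻¹ * ⁅x, g⁆ := by simp only [commutatorElement_def]; group
  rw [h1, F.W_comm_M hnc hx hy, mul_inv_cancel_right]

/-- Two elements of `Φ(S)` with distinct non-trivial commutators with `g` in `W`, if `S'` is not elementary. -/
theorem two_values (hnc : ¬ IsCyclic ↥(commutator S)) {g : S} (hg : b⁻¹ * g ∈ frattini S)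
    (h : ∃ x ∈ commutator S, x * x ≠ 1) :
    ∃ x ∈ frattini S, ∃ y ∈ frattini S, ⁅x, g⁆ ∈ F.W ∧ ⁅y, g⁆ ∈ F.W ∧ ⁅x, g⁆ ≠ 1 ∧ ⁅y, g⁆ ≠ 1 ∧
      ⁅x, g⁆ ≠ ⁅y, g⁆ := by
  classical
  have hval : ∀ x ∈ commutator S, x * x * (x * x) = 1 → ⁅x, g⁆ ∈ F.W := fun x hx h4 => by
    rw [← commutatorElement_inv]
    exact inv_mem ((F.refl_comm_W_iff hnc hg hx).mpr h4)
  have hne : ∀ x ∈ commutator S, x * x ≠ 1 → ⁅x, g⁆ ≠ 1 := fun x hx h2 h1 => by
    refine h2 ?_
    have := F.refl_inj hnc hg hx (one_mem _) (by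
      rw [commutatorElement_one_right, ← commutatorElement_inv, h1, inv_one])
    rwa [one_mul] at this
  obtain ⟨x, hx, hx4, hx2⟩ : ∃ x ∈ commutator S, x * x * (x * x) = 1 ∧ x * x ≠ 1 := by
    obtain ⟨x, hx, hx2⟩ := h
    obtain ⟨e, he⟩ := F.two x
    have he2 : 2 ≤ e := by
      by_contra hlt
      refine hx2 ?_
      obtain ⟨c, hc⟩ : 2 ^ e ∣ 2 := Nat.pow_dvd_pow 2 (show e ≤ 1 by omega)
      rw [← pow_two, hc, pow_mul, he, one_pow]
    obtain ⟨i, hi, hi'⟩ : ∃ i, x ^ 2 ^ (i + 2) = 1 ∧ x ^ 2 ^ (i + 1) ≠ 1 := by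
      have hex : ∃ i, x ^ 2 ^ (i + 2) = 1 := ⟨e - 2, by rw [Nat.sub_add_cancel he2, he]⟩
      refine ⟨Nat.find hex, Nat.find_spec hex, ?_⟩
      rcases Nat.eq_zero_or_pos (Nat.find hex) with h0 | hpos
      · rw [h0, zero_add, pow_one, pow_two]; exact hx2
      · intro h1
        refine Nat.find_min hex (Nat.sub_lt hpos one_pos) ?_
        rwa [show Nat.find hex - 1 + 2 = Nat.find hex + 1 by omega]
    refine ⟨x ^ 2 ^ i, pow_mem hx _, ?_, ?_⟩
    · rw [← pow_two, ← pow_two, ← pow_mul, ← pow_mul, show 2 ^ i * (2 * 2) = 2 ^ (i + 2) by ring, hi]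
    · rwa [← pow_two, ← pow_mul, ← pow_succ]
  by_cases h2 : ∀ x ∈ commutator S, ∀ x' ∈ commutator S, x * x * (x * x) = 1 → x' * x' * (x' * x') = 1 →
      x * x ≠ 1 → x' * x' ≠ 1 → x * x = x' * x'
  · obtain ⟨y, hy, hyW, hysq⟩ := F.exists_y hnc hg h h2
    refine ⟨x, F.comm_le_frattini hx, y, hy, hval x hx hx4, hyW, hne x hx hx2, fun h1 => hysq ?_, fun h1 => hysq ?_⟩
    · rw [h1]; exact one_mem _
    · rw [← h1, ← commutatorElement_inv]
      exact inv_mem (F.refl_comm_sq_eq hnc hg hx)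
  · push Not at h2
    obtain ⟨x, hx, x', hx', h4, h4', h1, h1', hne'⟩ := h2
    refine ⟨x, F.comm_le_frattini hx, x', F.comm_le_frattini hx', hval x hx h4, hval x' hx' h4', hne x hx h1,
      hne x' hx' h1', fun he => hne' (F.refl_inj hnc hg hx hx' ?_)⟩
    rw [← commutatorElement_inv, he, commutatorElement_inv]

section Ab

variable {Q : Subgroup S} {H : Subgroup (MulAut ↥Q)} (E : Ess Q H)
  (hnc : ¬ IsCyclic ↥(commutator S)) (hQM : Q ≤ F.M) (hab : ∀ x y : ↥Q, x * y = y * x)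

include E hnc hQM hab

theorem W_le : F.W ≤ Q := fun w hw =>
  E.cent (Subgroup.mem_centralizer_iff.mpr fun x hx => F.W_comm_M hnc (hQM hx) hw)

variable {g : S} (hgQ : g ∈ Q) (hg : b⁻¹ * g ∈ frattini S)

include hgQ hg

theorem mem_iff {x : S} : x ∈ Q ↔ x ∈ F.M ∧ g * x = x * g := by
  refine ⟨fun hx => ⟨hQM hx, congrArg Subtype.val (hab ⟨g, hgQ⟩ ⟨x, hx⟩)⟩, fun ⟨hxM, hgx⟩ => ?_⟩
  obtain ⟨p, hp, hgp, hgen⟩ := F.centralizer_frattini_gen hnc hg
  -- `g` and the elements of `Φ(S)` commuting with `g` commute in pairs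
  have hcomm : ∀ v ∈ frattini S, g * v = v * g → ∀ v' ∈ frattini S, g * v' = v' * g → v * v' = v' * v := by
    intro v hv hgv v' hv' hgv'
    obtain ⟨i, hi⟩ := hgen v hv hgv
    obtain ⟨j, hj⟩ := hgen v' hv' hgv'
    have hpM : ∀ i : ℤ, p ^ i ∈ F.M := fun i => zpow_mem (F.frattini_le_M hp) i
    rw [show v = p ^ i * ((p ^ i)⁻¹ * v) by group, show v' = p ^ j * ((p ^ j)⁻¹ * v') by group]
    exact (((Commute.refl p).zpow_zpow i j).mul_right (F.W_comm_M hnc (hpM i) hj)).mul_left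
      ((Commute.symm (F.W_comm_M hnc (hpM j) hi)).mul_right (F.W_comm_M hnc (F.commutator_le_M hi.1) hj))
  refine E.cent (Subgroup.mem_centralizer_iff.mpr fun y hy => ?_)
  have hgy : g * y = y * g := congrArg Subtype.val (hab ⟨g, hgQ⟩ ⟨y, hy⟩)
  -- write both as a power of `g` times an element of `Φ(S)`
  have hsplit : ∀ z ∈ F.M, z ∈ frattini S ∨ g⁻¹ * z ∈ frattini S := by
    intro z hz
    rcases F.mem_M_iff.mp hz with h | h
    · exact Or.inl h
    · right
      rw [show g⁻¹ * z = (b⁻¹ * g)⁻¹ * (b⁻¹ * z) by group]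
      exact mul_mem (inv_mem hg) h
  have hd : ∀ z ∈ F.M, g * z = z * g → ∃ i : ℕ, ∃ v ∈ frattini S, z = g ^ i * v ∧ g * v = v * g := by
    intro z hz hgz
    rcases hsplit z hz with h | h
    · exact ⟨0, z, h, by rw [pow_zero, one_mul], hgz⟩
    · refine ⟨1, g⁻¹ * z, h, by rw [pow_one, mul_inv_cancel_left], ?_⟩
      rw [mul_inv_cancel_left, mul_assoc, ← hgz, inv_mul_cancel_left]
  obtain ⟨i, v, hv, rfl, hgv⟩ := hd y (hQM hy) hgy
  obtain ⟨j, v', hv', rfl, hgv'⟩ := hd x hxM hgx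
  exact (((Commute.refl g).pow_pow i j).mul_right ((show Commute g v' from hgv').pow_left i)).mul_left
    (((show Commute v g from hgv.symm).pow_right j).mul_right (hcomm v hv hgv v' hv' hgv'))

theorem conj_mem_Q {x : S} (hx : ⁅x, g⁆ ∈ F.W) : x ∈ Subgroup.normalizer (Q : Set S) := by
  have key : ∀ x : S, ⁅x, g⁆ ∈ F.W → ∀ y ∈ Q, x * y * x⁻¹ ∈ Q := by
    intro x hx y hy
    obtain ⟨hyM, hgy⟩ := (F.mem_iff E hnc hQM hab hgQ hg).mp hy
    have hM : x * y * x⁻¹ ∈ F.M := Subgroup.Normal.conj_mem inferInstance _ hyM x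
    refine (F.mem_iff E hnc hQM hab hgQ hg).mpr ⟨hM, ?_⟩
    have h1 : x * g * x⁻¹ * (x * y * x⁻¹) = x * y * x⁻¹ * (x * g * x⁻¹) := by
      rw [show x * g * x⁻¹ * (x * y * x⁻¹) = x * (g * y) * x⁻¹ by group, hgy]; group
    rw [show x * g * x⁻¹ = ⁅x, g⁆ * g by rw [commutatorElement_def]; group, ← mul_assoc (x * y * x⁻¹),
      F.W_comm_M hnc hM hx] at h1
    refine mul_left_cancel (a := ⁅x, g⁆) ?_
    rw [← mul_assoc, h1, mul_assoc]
  refine Subgroup.mem_normalizer_iff.mpr fun y => ⟨key x hx y, fun h => ?_⟩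
  have hx' : ⁅x⁻¹, g⁆ ∈ F.W := by
    rw [show ⁅x⁻¹, g⁆ = x⁻¹ * ⁅x, g⁆⁻¹ * x⁻¹⁻¹ by simp only [commutatorElement_def]; group]
    exact Subgroup.Normal.conj_mem inferInstance _ (inv_mem hx) _
  have := key _ hx' _ h
  rwa [show x⁻¹ * (x * y * x⁻¹) * x⁻¹⁻¹ = y by group] at this

variable (hg2 : g * g = 1)

include hg2

theorem invol_form {z : S} (hz : z ∈ Q) (hz2 : z * z = 1) : z ∈ F.W ∨ g * z ∈ F.W := by
  obtain ⟨hzM, hgz⟩ := (F.mem_iff E hnc hQM hab hgQ hg).mp hz
  rcases F.mem_M_iff.mp hzM with h | h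
  · exact Or.inl (F.invol_mem_W hnc h hz2)
  · right
    refine F.invol_mem_W hnc ?_ ?_
    · rw [show g * z = g⁻¹ * z by rw [mul_self_inv hg2], show g⁻¹ * z = (b⁻¹ * g)⁻¹ * (b⁻¹ * z) by group]
      exact mul_mem (inv_mem hg) h
    · rw [mul_assoc, ← mul_assoc z, ← hgz, mul_assoc g z z, hz2, mul_one, hg2]

/-- The case `C_Φ(g) ≠ W`. -/
theorem false_of_big {p : S} (hp : p ∈ frattini S) (hgp : g * p = p * g)
    (hgen : ∀ v ∈ frattini S, g * v = v * g → ∃ j : ℤ, (p ^ j)⁻¹ * v ∈ F.W) (hpW : p ∉ F.W) : False := by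
  classical
  haveI : Fact (Nat.Prime 2) := ⟨Nat.prime_two⟩
  obtain ⟨e, he⟩ := IsPGroup.iff_orderOf.mp F.two p
  have he2 : 2 ≤ e := by
    by_contra hlt
    refine hpW (F.invol_mem_W hnc hp ?_)
    rw [← pow_two, ← orderOf_dvd_iff_pow_eq_one, he]
    exact Nat.pow_dvd_pow 2 (show e ≤ 1 by omega)
  obtain ⟨d, rfl⟩ : ∃ d, e = d + 2 := ⟨e - 2, by omega⟩
  set p0 := p ^ 2 ^ (d + 1) with hp0
  have hp01 : p0 ≠ 1 := by
    rw [hp0, Ne, ← orderOf_dvd_iff_pow_eq_one, he]
    intro h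
    have := Nat.le_of_dvd (Nat.two_pow_pos _) h
    rw [pow_succ 2 (d + 1)] at this
    have := Nat.two_pow_pos (d + 1)
    omega
  have hp02 : p0 * p0 = 1 := by
    rw [hp0, ← pow_add, ← two_mul, ← pow_succ', ← orderOf_dvd_iff_pow_eq_one, he]
  have hp0W : p0 ∈ F.W := F.invol_mem_W hnc (pow_mem hp _) hp02
  have hWQ := F.W_le E hnc hQM hab
  have hpQ : p ∈ Q := (F.mem_iff E hnc hQM hab hgQ hg).mpr ⟨F.frattini_le_M hp, hgp⟩
  have huniq : ∀ j : ℤ, p ^ j * p ^ j = 1 → p ^ j = 1 ∨ p ^ j = p0 := by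
    intro j hj
    rw [← zpow_add, ← orderOf_dvd_iff_zpow_eq_one, he] at hj
    obtain ⟨c, hc⟩ := hj
    have hj' : j = 2 ^ (d + 1) * c := by
      push_cast [pow_succ] at hc ⊢
      linarith
    subst hj'
    have hpp : p ^ ((2 : ℤ) ^ (d + 1)) = p0 := by
      rw [hp0, ← zpow_natCast]; norm_num
    rcases Int.even_or_odd' c with ⟨t, rfl | rfl⟩
    · left
      rw [zpow_mul, hpp, zpow_mul, zpow_ofNat, pow_two, hp02, one_zpow]
    · right
      rw [zpow_mul, hpp, zpow_add_one, zpow_mul, zpow_ofNat, pow_two, hp02, one_zpow, one_mul]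
  -- every automorphism fixes `p0`
  have hfix0 : ∀ α : MulAut ↥Q, α ⟨p0, hWQ hp0W⟩ = ⟨p0, hWQ hp0W⟩ := by
    intro α
    set y : ↥Q := α (⟨p, hpQ⟩ ^ 2 ^ d)
    have hy : α ⟨p0, hWQ hp0W⟩ = y ^ 2 := by
      rw [← map_pow]
      refine congrArg α (Subtype.ext ?_)
      show p0 = (p ^ 2 ^ d) ^ 2
      rw [← pow_mul, ← pow_succ]
    obtain ⟨hyM, hgy⟩ := (F.mem_iff E hnc hQM hab hgQ hg).mp y.2
    obtain ⟨v, hv, hgv, hvy⟩ : ∃ v ∈ frattini S, g * v = v * g ∧ (y : S) * y = v * v := by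
      rcases F.mem_M_iff.mp hyM with h | h
      · exact ⟨_, h, hgy, rfl⟩
      · refine ⟨g * y, ?_, by rw [mul_assoc g (y : S) g, ← hgy], ?_⟩
        · rw [show g * (y : S) = g⁻¹ * y by rw [mul_self_inv hg2],
            show g⁻¹ * (y : S) = (b⁻¹ * g)⁻¹ * (b⁻¹ * y) by group]
          exact mul_mem (inv_mem hg) h
        · rw [mul_assoc g, ← mul_assoc (y : S), ← hgy, mul_assoc g (y : S), ← mul_assoc, hg2, one_mul]
    obtain ⟨j, hj⟩ := hgen v hv hgv
    have hvv : v * v = p ^ j * p ^ j := by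
      have hc := F.W_comm_M hnc (zpow_mem (F.frattini_le_M hp) j) hj
      calc v * v = p ^ j * (((p ^ j)⁻¹ * v) * p ^ j) * ((p ^ j)⁻¹ * v) := by group
        _ = p ^ j * p ^ j * (((p ^ j)⁻¹ * v) * ((p ^ j)⁻¹ * v)) := by rw [← hc]; group
        _ = _ := by rw [hj.2, mul_one]
    have hα1 : α ⟨p0, hWQ hp0W⟩ ≠ 1 := fun h => hp01 (congrArg Subtype.val
      (α.injective (h.trans (map_one α).symm)))
    have hy2 : ((α ⟨p0, hWQ hp0W⟩ : ↥Q) : S) = p ^ (j + j) := by
      rw [hy, pow_two, Subgroup.coe_mul, hvy, hvv, zpow_add]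
    have hsq : p ^ (j + j) * p ^ (j + j) = 1 := by
      rw [← hy2]
      have := congrArg Subtype.val ((map_mul α ⟨p0, hWQ hp0W⟩ ⟨p0, hWQ hp0W⟩).symm.trans
        ((congrArg α (Subtype.ext hp02 : (⟨p0, hWQ hp0W⟩ : ↥Q) * ⟨p0, hWQ hp0W⟩ = 1)).trans (map_one α)))
      exact this
    rcases huniq _ hsq with h | h
    · exact absurd (Subtype.ext (hy2.trans h)) hα1
    · exact Subtype.ext (hy2.trans h)
  -- stabilizer of the involutions modulo `p0`
  set z0 : ↥Q := ⟨p0, hWQ hp0W⟩ with hz0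
  let P : Subgroup (MulAut ↥Q) :=
    { carrier := {α | ∀ x : ↥Q, x * x = 1 → α x = x ∨ α x = x * z0}
      one_mem' := fun x _ => Or.inl rfl
      mul_mem' := fun {α β} hα hβ x hx => by
        show α (β x) = x ∨ α (β x) = x * z0
        rcases hβ x hx with h | h <;> rw [h]
        · exact hα x hx
        · rw [map_mul, hfix0]
          rcases hα x hx with h' | h' <;> rw [h']
          · exact Or.inr rfl
          · left
            rw [mul_assoc, show z0 * z0 = 1 from Subtype.ext hp02, mul_one]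
      inv_mem' := fun {α} hα x hx => by
        have hx' : α⁻¹ x * α⁻¹ x = 1 := by rw [← map_mul, hx, map_one]
        rcases hα _ hx' with h | h <;> rw [MulAut.apply_inv_self] at h
        · exact Or.inl h.symm
        · right
          calc α⁻¹ x = α⁻¹ x * z0 * z0 := by
                rw [mul_assoc, show z0 * z0 = 1 from Subtype.ext hp02, mul_one]
            _ = x * z0 := by rw [← h] }
  have hmem : ∀ x (hx : x ∈ Subgroup.normalizer (Q : Set S)),
      (∀ z ∈ Q, z * z = 1 → ⁅x, z⁆ = 1 ∨ ⁅x, z⁆ = p0) → x ∈ Q := by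
    intro x hx hxz
    refine E.mem_of_stab P (fun α hα k hk y hy => ?_) (fun k _ hk hodd => ?_) hx fun y hy => ?_
    · show α (k (α⁻¹ y)) = y ∨ α (k (α⁻¹ y)) = y * z0
      rcases hk (α⁻¹ y) (by rw [← map_mul, hy, map_one]) with h | h <;> rw [h]
      · exact Or.inl (MulAut.apply_inv_self _ α y)
      · rw [map_mul, MulAut.apply_inv_self, hfix0]
        exact Or.inr rfl
    · refine Cfsg.Agent.S5212.eq_one_of_fix_involutions E.isPGroup hab k hodd fun y hy => ?_
      have h2 : (k ^ 2) y = y := by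
        rw [pow_two, MulAut.mul_apply]
        rcases hk y hy with h | h <;> rw [h]
        · exact h
        · rw [map_mul, h, hfix0, mul_assoc, show z0 * z0 = 1 from Subtype.ext hp02, mul_one]
      have hfixpow : ∀ i : ℕ, ((k ^ 2) ^ i) y = y := by
        intro i
        induction i with
        | zero => rfl
        | succ i ih => rw [pow_succ', MulAut.mul_apply, ih, h2]
      obtain ⟨i, hi⟩ := hodd
      have h3 : (k ^ (2 * i + 1)) y = y := by rw [← hi, pow_orderOf_eq_one]; rfl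
      rwa [pow_succ', MulAut.mul_apply, pow_mul, hfixpow] at h3
    · rcases hxz y y.2 (congrArg Subtype.val hy) with h | h
      · left
        exact Subtype.ext (mul_inv_eq_one.mp h)
      · right
        refine Subtype.ext ?_
        show x * y * x⁻¹ = y * p0
        rw [F.W_comm_M hnc (hQM y.2) hp0W, ← h, commutatorElement_def]; group
  have hkey : ∀ x ∈ frattini S, ⁅x, g⁆ = 1 ∨ ⁅x, g⁆ = p0 → ⁅x, g⁆ = 1 := by
    intro x hx hc
    have hxW : ⁅x, g⁆ ∈ F.W := by
      rcases hc with h | h <;> rw [h]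
      exacts [one_mem _, hp0W]
    have hxQ : x ∈ Q := hmem x (F.conj_mem_Q E hnc hQM hab hgQ hg hxW) fun z hz hz2 => by
      rcases F.invol_form E hnc hQM hab hgQ hg hg2 hz hz2 with h | h
      · left
        rw [commutatorElement_eq_one_iff_mul_comm]
        exact F.W_comm_M hnc (F.frattini_le_M hx) h
      · have e : ⁅x, z⁆ = ⁅x, g⁆ := by
          have hc' := F.W_comm_M hnc (F.frattini_le_M hx) h
          rw [show z = g * (g * z) by rw [← mul_assoc, hg2, one_mul], commutatorElement_def, commutatorElement_def]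
          calc x * (g * (g * z)) * x⁻¹ * (g * (g * z))⁻¹ = x * g * ((g * z) * x⁻¹) * (g * z)⁻¹ * g⁻¹ := by group
            _ = x * g * (x⁻¹ * (g * z)) * (g * z)⁻¹ * g⁻¹ := by
              rw [F.W_comm_M hnc (inv_mem (F.frattini_le_M hx)) h]
            _ = _ := by group
        rw [e]; exact hc
    rw [commutatorElement_eq_one_iff_mul_comm]
    exact ((F.mem_iff E hnc hQM hab hgQ hg).mp hxQ).2.symm
  by_cases hk : ∃ x ∈ commutator S, x * x ≠ 1
  · obtain ⟨x, hx, y, hy, hxW, hyW, hx1, hy1, hne⟩ := F.two_values hnc hg hk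
    rcases F.W_cases hnc hxW hyW hx1 hy1 hne p0 hp0W with h | h | h | h
    · exact hp01 h
    · exact hx1 (hkey x hx (Or.inr h.symm))
    · exact hy1 (hkey y hy (Or.inr h.symm))
    · have hxy : ⁅x * y, g⁆ = ⁅x, g⁆ * ⁅y, g⁆ := by
        rw [F.comm_mul_W hnc (F.frattini_le_M hx) hyW, F.comm_comm hyW.1 hxW.1]
      have h1 := hkey (x * y) (mul_mem hx hy) (Or.inr (hxy.trans h.symm))
      exact hp01 (h.trans (hxy.symm.trans h1))
  · push Not at hk
    have hS'W : ∀ s ∈ commutator S, s ∈ F.W := fun s hs => ⟨hs, hk s hs⟩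
    have haN := F.conj_mem_Q E hnc hQM hab hgQ hg (hS'W _ (comm_mem a g))
    have hafix : a * p0 * a⁻¹ = p0 := congrArg Subtype.val (hfix0 (Q.normalizerMonoidHom ⟨a, haN⟩))
    -- `a` moves each element of `W` by a power of `p0`
    have haW : ∀ w ∈ F.W, a * w * a⁻¹ * w = 1 ∨ a * w * a⁻¹ * w = p0 := by
      intro w hw
      by_cases hw1 : w = 1
      · left; simp [hw1]
      by_cases hw0 : w = p0
      · left; rw [hw0, hafix, hp02]
      have haw : a * w * a⁻¹ ∈ F.W := Subgroup.Normal.conj_mem inferInstance _ hw a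
      rcases F.W_cases hnc hp0W hw hp01 hw1 (Ne.symm hw0) _ haw with h | h | h | h
      · exact absurd (conj_eq_one_iff.mp h) hw1
      · refine absurd ?_ hw0
        rw [← hafix] at h
        exact mul_left_cancel (mul_right_cancel h)
      · left; rw [h, hw.2]
      · right; rw [h, mul_assoc, hw.2, mul_one]
    refine F.comm_a2_not_sq hnc hg ?_
    have e : ⁅a ^ 2, g⁆ = a * ⁅a, g⁆ * a⁻¹ * ⁅a, g⁆ := by
      simp only [commutatorElement_def, pow_two]; group
    rw [hkey (a ^ 2) (F.sq_mem_frattini a) (e ▸ haW _ (hS'W _ (comm_mem a g)))]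
    exact one_mem _

/-- The case `C_Φ(g) = W`. -/
theorem false_of_small (hsmall : ∀ v ∈ frattini S, g * v = v * g → v ∈ F.W) : False := by
  classical
  haveI : Fact (Nat.Prime 2) := ⟨Nat.prime_two⟩
  haveI : Finite (MulAut ↥Q) := Finite.of_injective (fun f => (f : ↥Q → ↥Q)) DFunLike.coe_injective
  have hWQ := F.W_le E hnc hQM hab
  have hform : ∀ z ∈ Q, z ∈ F.W ∨ g * z ∈ F.W := by
    intro z hz
    obtain ⟨hzM, hgz⟩ := (F.mem_iff E hnc hQM hab hgQ hg).mp hz
    rcases F.mem_M_iff.mp hzM with h | h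
    · exact Or.inl (hsmall z h hgz)
    · right
      refine hsmall _ ?_ ?_
      · rw [show g * z = g⁻¹ * z by rw [mul_self_inv hg2], show g⁻¹ * z = (b⁻¹ * g)⁻¹ * (b⁻¹ * z) by group]
        exact mul_mem (inv_mem hg) h
      · rw [mul_assoc g z g, ← hgz]
  have hgW : g ∉ F.W := fun h => F.refl_not_frattini hg (F.comm_le_frattini h.1)
  have hex : ∀ z : ↥Q, z * z = 1 := by
    intro z
    refine Subtype.ext ?_
    show (z : S) * z = 1
    rcases hform z z.2 with h | h
    · exact h.2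
    · have h2 := h.2
      have hc : g * (z : S) = z * g := congrArg Subtype.val (hab ⟨g, hgQ⟩ z)
      rwa [mul_assoc, ← mul_assoc (z : S), ← hc, mul_assoc g (z : S) z, ← mul_assoc g g, hg2, one_mul] at h2
  set gQ : ↥Q := ⟨g, hgQ⟩ with hgQdef
  -- automorphisms fixing `W`
  let T : Subgroup (MulAut ↥Q) :=
    { carrier := {α | ∀ z : ↥Q, (z : S) ∈ F.W → α z = z}
      one_mem' := fun z _ => rfl
      mul_mem' := fun {α β} hα hβ z hz => by
        show α (β z) = z
        rw [hβ z hz, hα z hz]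
      inv_mem' := fun {α} hα z hz => by
        conv_lhs => rw [← hα z hz]
        exact α.symm_apply_apply z }
  have hTg : ∀ α ∈ T, ((α gQ : ↥Q) : S) * g ∈ F.W := by
    intro α hα
    rcases hform _ (α gQ).2 with h | h
    · refine absurd ?_ hgW
      have : α gQ = gQ := α.injective (hα _ h)
      rw [this] at h
      exact h
    · rwa [show g * ((α gQ : ↥Q) : S) = (α gQ : ↥Q) * g from congrArg Subtype.val (hab gQ (α gQ))] at h
  have hText : ∀ α ∈ T, ∀ β ∈ T, α gQ = β gQ → α = β := by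
    intro α hα β hβ h
    refine MulEquiv.ext fun z => ?_
    rcases hform z z.2 with hz | hz
    · rw [hα z hz, hβ z hz]
    · have e : z = gQ * (gQ * z) := by rw [← mul_assoc, hex, one_mul]
      calc α z = α gQ * α (gQ * z) := by rw [← map_mul, ← e]
        _ = β gQ * β (gQ * z) := by rw [h, hα (gQ * z) hz, hβ (gQ * z) hz]
        _ = β z := by rw [← map_mul, ← e]
  have hT4 : Nat.card T ≤ 4 := by
    rw [← F.card_W hnc]
    refine Nat.card_le_card_of_injective (fun α => (⟨_, hTg α α.2⟩ : F.W)) fun α β h => ?_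
    exact Subtype.ext (hText α α.2 β β.2 (Subtype.ext (mul_right_cancel (congrArg Subtype.val h))))
  have hT2 : ∀ α ∈ T, α * α = 1 := by
    intro α hα
    refine hText _ (mul_mem hα hα) _ (one_mem T) ?_
    show α (α gQ) = gQ
    have e : α gQ = gQ * (gQ * α gQ) := by rw [← mul_assoc, hex, one_mul]
    have hw : ((gQ * α gQ : ↥Q) : S) ∈ F.W := by
      have := hTg α hα
      rwa [← show g * ((α gQ : ↥Q) : S) = (α gQ : ↥Q) * g from congrArg Subtype.val (hab gQ (α gQ))] at this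
    calc α (α gQ) = α gQ * α (gQ * α gQ) := by rw [← map_mul, ← e]
      _ = α gQ * (gQ * α gQ) := by rw [hα _ hw]
      _ = gQ := by rw [← mul_assoc, hab (α gQ) gQ, mul_assoc, hex, mul_one]
  by_cases hk : ∃ x ∈ commutator S, x * x ≠ 1
  · -- the normalizer lies in `M`
    have hNM : ∀ x ∈ Subgroup.normalizer (Q : Set S), x ∈ F.M := by
      intro x hx
      by_contra hxM
      refine comm_not_mem_derR F.two (F.closure_pair hxM hg) F.comm_ne_bot (F.W_le_derR hnc hk ?_)
      have hQ' : ⁅x, g⁆ ∈ Q := by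
        rw [commutatorElement_def]
        exact mul_mem ((Subgroup.mem_normalizer_iff.mp hx g).mp hgQ) (inv_mem hgQ)
      exact hsmall _ (F.comm_le_frattini (comm_mem x g)) ((F.mem_iff E hnc hQM hab hgQ hg).mp hQ').2
    have hrange : ∀ α ∈ Q.normalizerMonoidHom.range, α ∈ T := by
      rintro _ ⟨⟨x, hx⟩, rfl⟩ z hz
      refine Subtype.ext ?_
      show x * z * x⁻¹ = z
      rw [F.W_comm_M hnc (hNM x hx) hz, mul_inv_cancel_right]
    have hTsurj : ∀ α ∈ T, α ∈ Q.normalizerMonoidHom.range := by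
      intro α hα
      obtain ⟨x, hx, y, hy, hxW, hyW, hx1, hy1, hne⟩ := F.two_values hnc hg hk
      obtain ⟨v, hv, hvW, hve⟩ : ∃ v ∈ frattini S, ⁅v, g⁆ ∈ F.W ∧ ⁅v, g⁆ = ((α gQ : ↥Q) : S) * g := by
        rcases F.W_cases hnc hxW hyW hx1 hy1 hne _ (hTg α hα) with h | h | h | h
        · exact ⟨1, one_mem _, by simp, by rw [h, commutatorElement_one_left]⟩
        · exact ⟨x, hx, hxW, h.symm⟩
        · exact ⟨y, hy, hyW, h.symm⟩
        · have hxy : ⁅x * y, g⁆ = ⁅x, g⁆ * ⁅y, g⁆ := by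
            rw [F.comm_mul_W hnc (F.frattini_le_M hx) hyW, F.comm_comm hyW.1 hxW.1]
          exact ⟨x * y, mul_mem hx hy, hxy ▸ mul_mem hxW hyW, hxy.trans h.symm⟩
      refine ⟨⟨v, F.conj_mem_Q E hnc hQM hab hgQ hg hvW⟩,
        hText _ (hrange _ ⟨_, rfl⟩) α hα (Subtype.ext ?_)⟩
      show v * g * v⁻¹ = ((α gQ : ↥Q) : S)
      rw [commutatorElement_def, mul_self_inv hg2] at hve
      exact mul_right_cancel hve
    have hTH : ∀ α ∈ T, α ∈ H := fun α hα => by
      obtain ⟨x, rfl⟩ := hTsurj α hα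
      exact E.conj_mem x
    -- some element of `H` moves `W`
    obtain ⟨h, hhH, w0, hw0, hw0'⟩ : ∃ h ∈ H, ∃ w0 : ↥Q, (w0 : S) ∈ F.W ∧ ((h w0 : ↥Q) : S) ∉ F.W := by
      by_contra hcon
      push Not at hcon
      refine E.ne_top (eq_of_normalizer_le F.two le_top fun x _ hx => ?_)
      refine E.mem_of_stab T (fun α hα k hk z hz => ?_) (fun k _ hk hodd => ?_) hx (hrange _ ⟨_, rfl⟩)
      · show α (k (α⁻¹ z)) = z
        rw [hk _ (hcon α⁻¹ (inv_mem hα) z hz)]
        exact α.apply_symm_apply z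
      · exact eq_one_of_odd_two hodd (e := 1) (by rw [pow_one, pow_two]; exact hT2 k hk)
    -- a point of `W ∩ h W`
    obtain ⟨v, hv1, hvW, w', hw', hvh⟩ : ∃ v : ↥Q, v ≠ 1 ∧ (v : S) ∈ F.W ∧
        ∃ w' : ↥Q, (w' : S) ∈ F.W ∧ h w' = v := by
      by_contra hcon
      push Not at hcon
      let μ : F.W × F.W → ↥Q := fun ww => ⟨ww.1, hWQ ww.1.2⟩ * h ⟨ww.2, hWQ ww.2.2⟩
      have hμ : Function.Injective μ := by
        rintro ⟨w1, w2⟩ ⟨w1', w2'⟩ heq
        set A : ↥Q := ⟨w1, hWQ w1.2⟩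
        set B : ↥Q := ⟨w2, hWQ w2.2⟩
        set A' : ↥Q := ⟨w1', hWQ w1'.2⟩
        set B' : ↥Q := ⟨w2', hWQ w2'.2⟩
        have heq' : A * h B = A' * h B' := heq
        have h1 : A'⁻¹ * A = h (B' * B⁻¹) := by
          rw [map_mul, map_inv, eq_mul_inv_iff_mul_eq, mul_assoc, heq', inv_mul_cancel_left]
        have h2 : A'⁻¹ * A = 1 := by
          by_contra hne
          exact hcon _ hne (mul_mem (inv_mem w1'.2) w1.2) (B' * B⁻¹) (mul_mem w2'.2 (inv_mem w2.2)) h1.symm
        rw [h2] at h1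
        have h3 : B' * B⁻¹ = 1 := h.injective (h1.symm.trans (map_one h).symm)
        exact Prod.ext (Subtype.ext (congrArg (fun z : ↥Q => (z : S)) (inv_mul_eq_one.mp h2).symm))
          (Subtype.ext (congrArg (fun z : ↥Q => (z : S)) (mul_inv_eq_one.mp h3).symm))
      have h16 := Nat.card_le_card_of_injective μ hμ
      rw [Nat.card_prod, F.card_W hnc] at h16
      have h8 : Nat.card ↥Q ≤ 4 + 4 := by
        rw [← F.card_W hnc, ← Nat.card_sum]
        refine Nat.card_le_card_of_injective (fun z : ↥Q => if hz : (z : S) ∈ F.W then Sum.inl (⟨z, hz⟩ : F.W)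
          else Sum.inr (⟨g * z, (hform z z.2).resolve_left hz⟩ : F.W)) fun z z' e => ?_
        by_cases h1 : (z : S) ∈ F.W <;> by_cases h2 : (z' : S) ∈ F.W <;>
          simp only [h1, h2, dite_true, dite_false, Sum.inl.injEq, Sum.inr.injEq, reduceCtorEq, Subtype.mk.injEq] at e
        · exact Subtype.ext e
        · exact Subtype.ext (mul_left_cancel e)
      omega
    obtain ⟨t, htT, htg⟩ : ∃ t ∈ T, ((t gQ : ↥Q) : S) * g = v := by
      obtain ⟨x, hx, y, hy, hxW, hyW, hx1, hy1, hne⟩ := F.two_values hnc hg hk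
      obtain ⟨u, huM, huW, hue⟩ : ∃ u ∈ F.M, ⁅u, g⁆ ∈ F.W ∧ ⁅u, g⁆ = (v : S) := by
        rcases F.W_cases hnc hxW hyW hx1 hy1 hne _ hvW with h | h | h | h
        · exact absurd (Subtype.ext h) hv1
        · exact ⟨x, F.frattini_le_M hx, hxW, h.symm⟩
        · exact ⟨y, F.frattini_le_M hy, hyW, h.symm⟩
        · have hxy : ⁅x * y, g⁆ = ⁅x, g⁆ * ⁅y, g⁆ := by
            rw [F.comm_mul_W hnc (F.frattini_le_M hx) hyW, F.comm_comm hyW.1 hxW.1]
          exact ⟨x * y, F.frattini_le_M (mul_mem hx hy), hxy ▸ mul_mem hxW hyW, hxy.trans h.symm⟩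
      refine ⟨_, hrange _ ⟨⟨u, F.conj_mem_Q E hnc hQM hab hgQ hg huW⟩, rfl⟩, ?_⟩
      rw [← hue, commutatorElement_def, mul_self_inv hg2]
      rfl
    have htv : ∀ z : ↥Q, t z = z ∨ t z = z * v := by
      intro z
      rcases hform z z.2 with hz | hz
      · exact Or.inl (htT z hz)
      · right
        have e : z = gQ * (gQ * z) := by rw [← mul_assoc, hex, one_mul]
        have e2 : t gQ = gQ * v := by
          refine Subtype.ext ?_
          show ((t gQ : ↥Q) : S) = g * (v : S)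
          rw [show g * (v : S) = (v : S) * g from congrArg Subtype.val (hab gQ v), ← htg, mul_assoc, hg2, mul_one]
        rw [e, map_mul, e2, htT (gQ * z) hz, mul_assoc, hab v (gQ * z), ← mul_assoc]
    -- automorphisms fixing `h W`
    let K : Subgroup (MulAut ↥Q) :=
      { carrier := {α | h⁻¹ * α * h ∈ T ∨ h⁻¹ * (α * t) * h ∈ T}
        one_mem' := Or.inl (by simp)
        mul_mem' := by
          have hnorm : ∀ α : MulAut ↥Q, h⁻¹ * α * h ∈ T → h⁻¹ * (t * α * t) * h ∈ T := by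
            intro α hα z hz
            have hz' : ((h⁻¹ * α * h) z : ↥Q) = z := hα z hz
            have hfixh : ∀ z : ↥Q, (z : S) ∈ F.W → α (h z) = h z := fun z hz => by
              have := congrArg h (hα z hz)
              simpa [MulAut.mul_apply] using this
            show h⁻¹ (t (α (t (h z)))) = z
            have ht2 : t (t (h z)) = h z := by rw [← MulAut.mul_apply, hT2 t htT]; rfl
            rcases htv (h z) with e | e
            · rw [e, hfixh z hz, e]; simp
            · have e2 : α (t (h z)) = t (h z) := by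
                rw [e, map_mul, hfixh z hz, ← hvh, hfixh w' hw']
              rw [e2, ht2]; simp
          have ht2 : t * t = 1 := hT2 t htT
          rintro α β (hα | hα) (hβ | hβ)
          · left
            rw [show h⁻¹ * (α * β) * h = (h⁻¹ * α * h) * (h⁻¹ * β * h) by group]
            exact mul_mem hα hβ
          · right
            rw [show h⁻¹ * (α * β * t) * h = (h⁻¹ * α * h) * (h⁻¹ * (β * t) * h) by group]
            exact mul_mem hα hβ
          · right
            rw [show α * β * t = (α * t) * (t * β * t) by simp only [mul_assoc]; rw [← mul_assoc t t, ht2, one_mul],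
              show h⁻¹ * (α * t * (t * β * t)) * h = (h⁻¹ * (α * t) * h) * (h⁻¹ * (t * β * t) * h) by group]
            exact mul_mem hα (hnorm β hβ)
          · left
            rw [show α * β = (α * t) * (t * (β * t) * t) by
                simp only [mul_assoc]; rw [ht2, mul_one, ← mul_assoc t t, ht2, one_mul],
              show h⁻¹ * (α * t * (t * (β * t) * t)) * h = (h⁻¹ * (α * t) * h) * (h⁻¹ * (t * (β * t) * t) * h) by
                group]
            exact mul_mem hα (hnorm _ hβ)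
        inv_mem' := by
          have hnorm : ∀ α : MulAut ↥Q, h⁻¹ * α * h ∈ T → h⁻¹ * (t * α * t) * h ∈ T := by
            intro α hα z hz
            have hfixh : ∀ z : ↥Q, (z : S) ∈ F.W → α (h z) = h z := fun z hz => by
              have := congrArg h (hα z hz)
              simpa [MulAut.mul_apply] using this
            show h⁻¹ (t (α (t (h z)))) = z
            have ht2 : t (t (h z)) = h z := by rw [← MulAut.mul_apply, hT2 t htT]; rfl
            rcases htv (h z) with e | e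
            · rw [e, hfixh z hz, e]; simp
            · have e2 : α (t (h z)) = t (h z) := by
                rw [e, map_mul, hfixh z hz, ← hvh, hfixh w' hw']
              rw [e2, ht2]; simp
          have ht2 : t⁻¹ = t := mul_self_inv (hT2 t htT)
          rintro α (hα | hα)
          · left
            rw [show h⁻¹ * α⁻¹ * h = (h⁻¹ * α * h)⁻¹ by group]
            exact inv_mem hα
          · right
            have h1 := hnorm (α * t)⁻¹ (by
              rw [show h⁻¹ * (α * t)⁻¹ * h = (h⁻¹ * (α * t) * h)⁻¹ by group]; exact inv_mem hα)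
            rwa [mul_inv_rev, ht2, ← mul_assoc t t, hT2 t htT, one_mul] at h1 }
    have hK2 : IsPGroup 2 K := by
      rintro ⟨α, hα⟩
      refine ⟨2, Subtype.ext ?_⟩
      show α ^ 2 ^ 2 = 1
      have hsq : h⁻¹ * (α * α) * h ∈ T := by
        rcases hα with h1 | h1
        · rw [show h⁻¹ * (α * α) * h = (h⁻¹ * α * h) * (h⁻¹ * α * h) by group]
          exact mul_mem h1 h1
        · have h2 := K.mul_mem (show α ∈ K from Or.inr h1) (show α ∈ K from Or.inr h1)
          rcases h2 with h2 | h2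
          · exact h2
          · exfalso
            -- then `α` itself, hence `t`, fixes `h W`
            have h3 : h⁻¹ * α * h ∈ T := by
              have := mul_mem h2 (inv_mem h1)
              rwa [show h⁻¹ * (α * α * t) * h * (h⁻¹ * (α * t) * h)⁻¹ = h⁻¹ * (α * α * α⁻¹) * h by group,
                mul_inv_cancel_right] at this
            have h4 : h⁻¹ * t * h ∈ T := by
              have := mul_mem (inv_mem h3) h1
              rwa [show (h⁻¹ * α * h)⁻¹ * (h⁻¹ * (α * t) * h) = h⁻¹ * t * h by group] at this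
            have h5 : t (h w0) = h w0 := by
              have := congrArg h (h4 w0 hw0)
              simpa [MulAut.mul_apply] using this
            rcases hform _ (h w0).2 with h6 | h6
            · exact hw0' h6
            · have e : h w0 = gQ * (gQ * h w0) := by rw [← mul_assoc, hex, one_mul]
              rw [e, map_mul, htT (gQ * h w0) h6, mul_left_inj] at h5
              have h7 : (v : S) = 1 := by rw [← htg, h5]; exact hg2
              exact hv1 (Subtype.ext h7)
      have h2 := hT2 _ hsq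
      rw [show h⁻¹ * (α * α) * h * (h⁻¹ * (α * α) * h) = h⁻¹ * α ^ 2 ^ 2 * h by
        rw [show (2 : ℕ) ^ 2 = 2 + 2 from rfl, pow_add, pow_two]; group] at h2
      exact (conj_eq_one_iff (a := h⁻¹)).mp (by rwa [inv_inv])
    have hKH : K ≤ H := by
      rintro α (hα | hα)
      · have := H.mul_mem (H.mul_mem hhH (hTH _ hα)) (H.inv_mem hhH)
        rwa [show h * (h⁻¹ * α * h) * h⁻¹ = α by group] at this
      · have := H.mul_mem (H.mul_mem (H.mul_mem hhH (hTH _ hα)) (H.inv_mem hhH)) (H.inv_mem (hTH t htT))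
        rwa [show h * (h⁻¹ * (α * t) * h) * h⁻¹ * t⁻¹ = α by group] at this
    have hcardT : 4 ≤ Nat.card T := by
      obtain ⟨x, hx, y, hy, hxW, hyW, hx1, hy1, hne⟩ := F.two_values hnc hg hk
      have hval : ∀ w ∈ F.W, ∃ α : T, ((α.1 gQ : ↥Q) : S) * g = w := by
        intro w hw
        obtain ⟨u, hu, huW, hue⟩ : ∃ u ∈ F.M, ⁅u, g⁆ ∈ F.W ∧ ⁅u, g⁆ = w := by
          rcases F.W_cases hnc hxW hyW hx1 hy1 hne w hw with h | h | h | h
          · exact ⟨1, one_mem _, by simp, by rw [h, commutatorElement_one_left]⟩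
          · exact ⟨x, F.frattini_le_M hx, hxW, h.symm⟩
          · exact ⟨y, F.frattini_le_M hy, hyW, h.symm⟩
          · have hxy : ⁅x * y, g⁆ = ⁅x, g⁆ * ⁅y, g⁆ := by
              rw [F.comm_mul_W hnc (F.frattini_le_M hx) hyW, F.comm_comm hyW.1 hxW.1]
            exact ⟨x * y, F.frattini_le_M (mul_mem hx hy), hxy ▸ mul_mem hxW hyW, hxy.trans h.symm⟩
        refine ⟨⟨_, hrange _ ⟨⟨u, F.conj_mem_Q E hnc hQM hab hgQ hg huW⟩, rfl⟩⟩, ?_⟩
        rw [← hue, commutatorElement_def, mul_self_inv hg2]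
        rfl
      choose f hf using hval
      rw [← F.card_W hnc]
      refine Nat.card_le_card_of_injective (fun w : F.W => f w w.2) fun w w' e => Subtype.ext ?_
      rw [← hf w w.2, ← hf w' w'.2]
      dsimp only at e
      rw [e]
    have hKcard : Nat.card T < Nat.card K := by
      have hle : T.map (MulAut.conj h).toMonoidHom < K := by
        refine lt_of_le_of_ne ?_ fun e => ?_
        · rintro _ ⟨α, hα, rfl⟩
          left
          show h⁻¹ * (h * α * h⁻¹) * h ∈ T
          rwa [show h⁻¹ * (h * α * h⁻¹) * h = α by group]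
        · have ht : t ∈ T.map (MulAut.conj h).toMonoidHom := e ▸ (Or.inr (by
            rw [hT2 t htT]; simp) : t ∈ K)
          obtain ⟨α, hα, he⟩ := ht
          have h5 : t (h w0) = h w0 := by
            rw [← he]
            show h (α (h⁻¹ (h w0))) = h w0
            rw [MulAut.inv_apply_self, hα w0 hw0]
          rcases hform _ (h w0).2 with h6 | h6
          · exact hw0' h6
          · have e' : h w0 = gQ * (gQ * h w0) := by rw [← mul_assoc, hex, one_mul]
            rw [e', map_mul, htT (gQ * h w0) h6, mul_left_inj] at h5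
            have h7 : (v : S) = 1 := by rw [← htg, h5]; exact hg2
            exact hv1 (Subtype.ext h7)
      have hc := Set.ncard_lt_ncard (s := (T.map (MulAut.conj h).toMonoidHom : Set (MulAut ↥Q))) hle
        (Set.toFinite _)
      rw [← Nat.card_coe_set_eq, ← Nat.card_coe_set_eq] at hc
      calc Nat.card T = Nat.card (T.map (MulAut.conj h).toMonoidHom) :=
            (Subgroup.card_map_of_injective (f := (MulAut.conj h).toMonoidHom) (MulAut.conj h).injective).symm
        _ < _ := hc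
    have hsy := E.sylow K hKH hK2
    have hr4 : Nat.card Q.normalizerMonoidHom.range ≤ Nat.card T := Subgroup.card_le_of_le hrange
    omega
  -- `S'` elementary: a cyclic Sylow subgroup in `H`
  push Not at hk
  have hS'W : ∀ s ∈ commutator S, s ∈ F.W := fun s hs => ⟨hs, hk s hs⟩
  have haN : a ∈ Subgroup.normalizer (Q : Set S) := F.conj_mem_Q E hnc hQM hab hgQ hg (hS'W _ (comm_mem a g))
  set u : MulAut ↥Q := Q.normalizerMonoidHom ⟨a, haN⟩ with hu
  set t := u * u with ht
  set v := ⁅a ^ 2, g⁆ with hv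
  have hvW : v ∈ F.W := hS'W _ (comm_mem _ _)
  have hv1 : v ≠ 1 := fun h => F.comm_a2_not_sq hnc hg (by rw [← hv, h]; exact one_mem _)
  have htval : ∀ z : ↥Q, ((t z : ↥Q) : S) = a ^ 2 * z * (a ^ 2)⁻¹ := by
    intro z
    show a * (a * (z : S) * a⁻¹) * a⁻¹ = _
    rw [pow_two]; group
  have htT : t ∈ T := fun z hz => Subtype.ext (by
    rw [htval, F.W_comm_M hnc (F.frattini_le_M (F.sq_mem_frattini a)) hz, mul_inv_cancel_right])
  set vQ : ↥Q := ⟨v, hWQ hvW⟩ with hvQ
  have htg : t gQ = vQ * gQ := Subtype.ext (by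
    rw [htval]
    show a ^ 2 * g * (a ^ 2)⁻¹ = v * g
    rw [hv, commutatorElement_def]; group)
  have hu4 : u ^ 4 = 1 := by
    rw [show (4 : ℕ) = 2 + 2 from rfl, pow_add, pow_two, ← ht]
    exact hT2 t htT
  -- every conjugation is a power of `u`
  have hrange : Q.normalizerMonoidHom.range ≤ Subgroup.zpowers u := by
    rintro _ ⟨⟨x, hx⟩, rfl⟩
    obtain ⟨i, ε, hε, s, hs, rfl⟩ := F.exists_form x
    have hsQ : ∀ {s}, s ∈ commutator S → s ∈ Q := fun hs => hWQ (hS'W _ hs)
    obtain ⟨j, q, hqQ, hbq⟩ : ∃ j : ℤ, ∃ q ∈ Q, b ^ ε = a ^ j * q := by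
      interval_cases ε
      · exact ⟨0, 1, one_mem Q, by simp⟩
      · obtain ⟨l, s', hs', e⟩ := F.frattini_form hg
        refine ⟨-(2 * l : ℤ), a ^ (2 * l) * (g * s'⁻¹ * (a ^ (2 * l))⁻¹), ?_, ?_⟩
        · have h1 : a ^ (2 * l) ∈ Subgroup.normalizer (Q : Set S) := pow_mem haN _
          have := (Subgroup.mem_normalizer_iff.mp h1 _).mp (mul_mem hgQ (inv_mem (hsQ hs')))
          rwa [mul_assoc (a ^ (2 * l)) (g * s'⁻¹)] at this
        · rw [pow_one, zpow_neg, show ((2 * l : ℤ)) = ((2 * l : ℕ) : ℤ) by push_cast; rfl, zpow_natCast,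
            inv_mul_cancel_left]
          have e' : g = b * (a ^ (2 * l) * s') := by rw [← e, mul_inv_cancel_left]
          rw [e']; group
    refine ⟨(i : ℤ) + j, MulEquiv.ext fun z => Subtype.ext ?_⟩
    have hpow : u ^ ((i : ℤ) + j) = Q.normalizerMonoidHom (⟨a, haN⟩ ^ ((i : ℤ) + j)) := by
      rw [map_zpow]
    dsimp only
    rw [hpow]
    show ((⟨a, haN⟩ ^ ((i : ℤ) + j) : ↥(Subgroup.normalizer (Q : Set S))) : S) * (z : S) * _ = _
    rw [SubgroupClass.coe_zpow]
    show a ^ ((i : ℤ) + j) * (z : S) * (a ^ ((i : ℤ) + j))⁻¹ = a ^ i * b ^ ε * s * z * (a ^ i * b ^ ε * s)⁻¹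
    have hc : (q * s) * (z : S) = z * (q * s) :=
      congrArg Subtype.val (hab ⟨q * s, mul_mem hqQ (hsQ hs)⟩ z)
    rw [hbq, show a ^ i * (a ^ j * q) * s = a ^ ((i : ℤ) + j) * (q * s) by
      rw [zpow_add, zpow_natCast]; group]
    calc a ^ ((i : ℤ) + j) * (z : S) * (a ^ ((i : ℤ) + j))⁻¹
        = a ^ ((i : ℤ) + j) * ((z : S) * (q * s) * (q * s)⁻¹) * (a ^ ((i : ℤ) + j))⁻¹ := by rw [mul_inv_cancel_right]
      _ = _ := by rw [← hc]; group
  -- `a` moves an element of `W`
  have hcW : a * ⁅a, b⁆ ≠ ⁅a, b⁆ * a := fun h => F.ξ_ne_zero hnc (F.val_injective (by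
    rw [val_ξ, val_zero, commutatorElement_eq_one_iff_mul_comm]; exact h))
  haveI : Finite ↥H := inferInstance
  have huH : u ∈ H := E.conj_mem _
  obtain ⟨P, hP⟩ := ((show IsPGroup 2 (Subgroup.zpowers u) from by
    rintro ⟨_, i, rfl⟩
    refine ⟨2, Subtype.ext ?_⟩
    show (u ^ i) ^ 2 ^ 2 = 1
    rw [← zpow_natCast, ← zpow_mul, mul_comm, zpow_mul, zpow_natCast, show 2 ^ 2 = 4 from rfl, hu4, one_zpow]).of_equiv
      (Subgroup.subgroupOfEquivOfLe (Subgroup.zpowers_le.mpr huH)).symm).exists_le_sylow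
  have hPcyc : IsCyclic (P : Subgroup ↥H) := by
    have hPle : Nat.card (P : Subgroup ↥H) ≤ Nat.card (Subgroup.zpowers u) := by
      rw [← Subgroup.card_map_of_injective (f := H.subtype) H.subtype_injective]
      exact (E.sylow _ (Subgroup.map_subtype_le _) (P.2.map _)).trans (Subgroup.card_le_of_le hrange)
    have heq : (Subgroup.zpowers u).subgroupOf H = (P : Subgroup ↥H) := Subgroup.eq_of_le_of_card_ge hP (by
      rw [Nat.card_congr (Subgroup.subgroupOfEquivOfLe (Subgroup.zpowers_le.mpr huH)).toEquiv]; exact hPle)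
    rw [← heq]
    exact isCyclic_of_surjective (Subgroup.subgroupOfEquivOfLe (Subgroup.zpowers_le.mpr huH)).symm
      (MulEquiv.surjective _)
  obtain ⟨P', N, hN, hcompl⟩ := CfsgLib.HSub.hasNormalPComplement_of_cyclic (p := 2)
    (fun q hq _ => hq.two_le) P hPcyc
  have hNodd : Odd (Nat.card N) := by
    rw [← Nat.not_even_iff_odd]
    intro heven
    obtain ⟨x, hx⟩ := exists_prime_orderOf_dvd_card' (G := N) 2 (even_iff_two_dvd.mp heven)
    have hidx : N.index = Nat.card (P' : Subgroup ↥H) := hcompl.symm.index_eq_card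
    have hm := Subgroup.card_mul_index N
    have hsy := P'.not_dvd_index
    have hi2 : (P' : Subgroup ↥H).index = Nat.card N := hcompl.index_eq_card
    rw [hi2] at hsy
    exact hsy (even_iff_two_dvd.mp heven)
  -- `|N| ∣ 21`
  obtain ⟨e, he, hdvd⟩ := CfsgLib.AfterFT.OutSolvable.card_mulAut_dvd (F := ↥Q) hab (fun z => by rw [pow_two]; exact hex z)
  have he3 : e ≤ 3 := by
    have h8 : Nat.card ↥Q ≤ 4 + 4 := by
      rw [← F.card_W hnc, ← Nat.card_sum]
      refine Nat.card_le_card_of_injective (fun z : ↥Q => if hz : (z : S) ∈ F.W then Sum.inl (⟨z, hz⟩ : F.W)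
        else Sum.inr (⟨g * z, (hform z z.2).resolve_left hz⟩ : F.W)) fun z z' e => ?_
      by_cases h1 : (z : S) ∈ F.W <;> by_cases h2 : (z' : S) ∈ F.W <;>
        simp only [h1, h2, dite_true, dite_false, Sum.inl.injEq, Sum.inr.injEq, reduceCtorEq, Subtype.mk.injEq] at e
      · exact Subtype.ext e
      · exact Subtype.ext (mul_left_cancel e)
    rw [he] at h8
    exact (Nat.pow_le_pow_iff_right one_lt_two).mp (h8.trans_eq (by norm_num : 4 + 4 = 2 ^ 3))
  have h21 : Nat.card N ∣ 21 := by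
    have h168 : Nat.card (MulAut ↥Q) ∣ 168 := by
      refine hdvd.trans ?_
      interval_cases e <;> simp [Fin.prod_univ_succ]
    have h1 : Nat.card N ∣ 2 ^ 3 * 21 :=
      ((Subgroup.card_subgroup_dvd_card N).trans ((Subgroup.card_subgroup_dvd_card H).trans h168))
    exact (Nat.Coprime.pow_right 3 (Nat.coprime_two_right.mpr hNodd)).dvd_of_dvd_mul_left h1
  -- no non-trivial element of `N` commutes with `t`
  have hfpf : ∀ k : ↥H, k ∈ N → (k : MulAut ↥Q) * t = t * (k : MulAut ↥Q) → k = 1 := by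
    intro k hkN hkt
    set κ : MulAut ↥Q := (k : MulAut ↥Q)
    have hkW : ∀ z : ↥Q, (z : S) ∈ F.W → ((κ z : ↥Q) : S) ∈ F.W := by
      intro z hz
      rcases hform _ (κ z).2 with h | h
      · exact h
      exfalso
      have h1 : t (κ z) = κ z := by
        rw [← MulAut.mul_apply, ← hkt, MulAut.mul_apply, htT z hz]
      have e : κ z = gQ * (gQ * κ z) := by rw [← mul_assoc, hex, one_mul]
      rw [e, map_mul, htT (gQ * κ z) h, mul_left_inj, htg, mul_eq_right] at h1
      exact hv1 (congrArg Subtype.val h1)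
    have hkv : κ vQ = vQ := by
      have h1 : t (κ gQ) = κ (vQ * gQ) := by rw [← htg, ← MulAut.mul_apply, ← hkt, MulAut.mul_apply]
      rw [map_mul] at h1
      rcases hform _ (κ gQ).2 with h | h
      · rw [htT _ h, eq_comm, mul_eq_right] at h1
        exact absurd (congrArg Subtype.val (κ.injective (h1.trans (map_one κ).symm))) hv1
      · have e : κ gQ = gQ * (gQ * κ gQ) := by rw [← mul_assoc, hex, one_mul]
        rw [e, map_mul, htT (gQ * κ gQ) h, htg, mul_assoc, mul_left_inj] at h1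
        exact h1.symm
    have hkT : κ * κ ∈ T := by
      intro z hz
      show κ (κ z) = z
      by_cases hz1 : (z : S) = 1
      · rw [show z = 1 from Subtype.ext hz1, map_one, map_one]
      by_cases hzv : (z : S) = v
      · rw [show z = vQ from Subtype.ext hzv, hkv, hkv]
      rcases F.W_cases hnc hvW hz hv1 hz1 (Ne.symm hzv) _ (hkW z hz) with h | h | h | h
      · exact absurd (congrArg Subtype.val (κ.injective ((Subtype.ext h : κ z = 1).trans (map_one κ).symm))) hz1
      · exact absurd (congrArg Subtype.val (κ.injective ((Subtype.ext h : κ z = vQ).trans hkv.symm))) hzv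
      · rw [show κ z = z from Subtype.ext h]
        exact Subtype.ext h
      · have h' : κ z = vQ * z := Subtype.ext h
        rw [h', map_mul, hkv, h', ← mul_assoc, hex, one_mul]
    refine eq_one_of_odd_two (k := k) (Odd.of_dvd_nat hNodd (Subgroup.orderOf_dvd_natCard N hkN)) (e := 2) ?_
    refine Subtype.ext ?_
    show κ ^ 2 ^ 2 = 1
    rw [show (2 : ℕ) ^ 2 = 2 + 2 from rfl, pow_add, pow_two]
    exact hT2 _ hkT
  -- `t` inverts `N`
  set uH : ↥H := ⟨u, huH⟩ with huHdef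
  have hinv : ∀ k ∈ N, uH * uH * k * (uH * uH)⁻¹ = k⁻¹ := by
    have hf : ∀ x : N, (x : ↥H)⁻¹ * (uH * uH * (x : ↥H) * (uH * uH)⁻¹) ∈ N := fun x =>
      mul_mem (inv_mem x.2) (hN.conj_mem _ x.2 _)
    have hsurj : Function.Surjective fun x : N => (⟨_, hf x⟩ : N) := by
      refine Finite.surjective_of_injective fun x y e => ?_
      have e' : (x : ↥H)⁻¹ * (uH * uH * (x : ↥H) * (uH * uH)⁻¹) =
          (y : ↥H)⁻¹ * (uH * uH * (y : ↥H) * (uH * uH)⁻¹) := congrArg Subtype.val e
      have e2 : (y : ↥H) * (x : ↥H)⁻¹ * (uH * uH) = (uH * uH) * ((y : ↥H) * (x : ↥H)⁻¹) := by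
        calc (y : ↥H) * (x : ↥H)⁻¹ * (uH * uH)
            = (y : ↥H) * ((x : ↥H)⁻¹ * (uH * uH * (x : ↥H) * (uH * uH)⁻¹)) * ((uH * uH) * (x : ↥H)⁻¹) := by group
          _ = (uH * uH) * ((y : ↥H) * (x : ↥H)⁻¹) := by rw [e']; group
      have h1 := hfpf _ (mul_mem y.2 (inv_mem x.2)) (congrArg Subtype.val e2)
      exact Subtype.ext (mul_inv_eq_one.mp h1).symm
    intro k hk
    obtain ⟨x, hx⟩ := hsurj ⟨k, hk⟩
    have hx' : (x : ↥H)⁻¹ * (uH * uH * (x : ↥H) * (uH * uH)⁻¹) = k := congrArg Subtype.val hx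
    have h4 : uH * uH * (uH * uH) = 1 := Subtype.ext (hT2 t htT)
    rw [← hx']
    clear hx' hx hsurj hf
    revert h4
    generalize uH * uH = τ
    intro h4
    calc τ * ((x : ↥H)⁻¹ * (τ * (x : ↥H) * τ⁻¹)) * τ⁻¹
        = (τ * (x : ↥H)⁻¹ * τ⁻¹) * ((τ * τ) * (x : ↥H) * (τ * τ)⁻¹) := by group
      _ = _ := by rw [h4]; group
  have hNab : ∀ x ∈ N, ∀ y ∈ N, x * y = y * x := by
    intro x hx y hy
    have h1 := hinv (x * y) (mul_mem hx hy)
    rw [show uH * uH * (x * y) * (uH * uH)⁻¹ = (uH * uH * x * (uH * uH)⁻¹) * (uH * uH * y * (uH * uH)⁻¹) by group,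
      hinv x hx, hinv y hy, mul_inv_rev] at h1
    calc x * y = (y⁻¹ * x⁻¹)⁻¹ := by group
      _ = (x⁻¹ * y⁻¹)⁻¹ := by rw [h1]
      _ = y * x := by group
  -- a non-trivial element of prime order
  obtain ⟨γ, hγH, hγodd, hγ1⟩ := E.exists_odd
  have hγN : (⟨γ, hγH⟩ : ↥H) ∈ N := by
    refine (QuotientGroup.eq_one_iff (N := N) _).mp ?_
    refine orderOf_eq_one_iff.mp (Nat.eq_one_of_dvd_coprimes ?_ dvd_rfl (orderOf_dvd_natCard _))
    have hq : Nat.card (↥H ⧸ N) = Nat.card (P' : Subgroup ↥H) := hcompl.symm.index_eq_card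
    obtain ⟨i, hi⟩ := P'.2.exists_card_eq
    rw [hq, hi]
    refine Nat.Coprime.pow_right i (Nat.coprime_two_right.mpr (Odd.of_dvd_nat ?_ (orderOf_map_dvd (QuotientGroup.mk' N) _)))
    rwa [← Subgroup.orderOf_coe]
  have hN1 : Nat.card N ≠ 1 := fun h => by
    haveI : Subsingleton N := (Nat.card_eq_one_iff_unique.mp h).1
    exact hγ1 (congrArg (fun z : ↥N => ((z : ↥H) : MulAut ↥Q)) (Subsingleton.elim (⟨_, hγN⟩ : N) 1))
  obtain ⟨p, hp, hpN⟩ := Nat.exists_prime_and_dvd hN1
  haveI : Fact p.Prime := ⟨hp⟩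
  obtain ⟨k, hk'⟩ := exists_prime_orderOf_dvd_card' (G := N) p hpN
  let A : Subgroup N :=
    { carrier := {x | x ^ p = 1}
      one_mem' := one_pow p
      mul_mem' := fun {x y} hx hy => by
        show (x * y) ^ p = 1
        rw [(show Commute x y from Subtype.ext (hNab x x.2 y y.2)).mul_pow, hx, hy, one_mul]
      inv_mem' := fun {x} hx => by show x⁻¹ ^ p = 1; rw [inv_pow, hx, inv_one] }
  have hkA : k ∈ A := by show k ^ p = 1; rw [← hk', pow_orderOf_eq_one]
  have hApos : IsPGroup p A := fun x => ⟨1, Subtype.ext (by rw [pow_one]; exact x.2)⟩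
  obtain ⟨i, hi⟩ := hApos.exists_card_eq
  have hAdvd : p ^ i ∣ 21 := hi ▸ (Subgroup.card_subgroup_dvd_card A).trans h21
  have hp37 : p = 3 ∨ p = 7 := by
    have h1 : p ∣ 3 * 7 := hpN.trans h21
    rcases hp.dvd_mul.mp h1 with h | h
    · exact Or.inl ((Nat.prime_dvd_prime_iff_eq hp (by norm_num)).mp h)
    · exact Or.inr ((Nat.prime_dvd_prime_iff_eq hp (by norm_num)).mp h)
  have hi1 : i ≤ 1 := by
    by_contra hlt
    have h9 : p ^ 2 ∣ 21 := (Nat.pow_dvd_pow p (show 2 ≤ i by omega)).trans hAdvd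
    rcases hp37 with rfl | rfl <;> omega
  have hAeq : Subgroup.zpowers k = A := Subgroup.eq_of_le_of_card_ge (Subgroup.zpowers_le.mpr hkA) (by
    rw [Nat.card_zpowers, hk', hi]
    calc p ^ i ≤ p ^ 1 := Nat.pow_le_pow_right hp.pos hi1
      _ = p := pow_one p)
  let c : N → N := fun x => ⟨uH * x * uH⁻¹, hN.conj_mem _ x.2 _⟩
  have hcA : c k ∈ A := by
    show c k ^ p = 1
    refine Subtype.ext ?_
    show (uH * (k : ↥H) * uH⁻¹) ^ p = 1
    rw [conj_pow]
    have : (k : ↥H) ^ p = 1 := congrArg Subtype.val hkA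
    rw [this, mul_one, mul_inv_cancel]
  rw [← hAeq] at hcA
  obtain ⟨j, hj⟩ := hcA
  have hj' : (k : ↥H) ^ j = uH * (k : ↥H) * uH⁻¹ := congrArg Subtype.val hj
  have hjj : (k : ↥H) ^ (j * j) = (k : ↥H)⁻¹ := by
    rw [zpow_mul, hj', conj_zpow, hj', ← hinv k k.2]; group
  have hdiv : ((p : ℕ) : ℤ) ∣ j * j + 1 := by
    rw [← hk', ← Subgroup.orderOf_coe, orderOf_dvd_iff_zpow_eq_one, zpow_add_one, hjj, inv_mul_cancel]
  rw [← ZMod.intCast_zmod_eq_zero_iff_dvd] at hdiv
  push_cast at hdiv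
  have key3 : ∀ z : ZMod 3, z * z + 1 ≠ 0 := by decide
  have key7 : ∀ z : ZMod 7, z * z + 1 ≠ 0 := by decide
  rcases hp37 with rfl | rfl
  · exact key3 _ hdiv
  · exact key7 _ hdiv

end Ab

end Frame

end CfsgLib.Bicyclic
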