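import Cfsg.Agent.Lib.Fusion.Bicyclic.CaseMAb

/-!
No essential subgroup lies in `⟨b⟩ Φ(S)` when `S'` is not cyclic.
-/

set_option autoImplicit false
set_option linter.unusedSectionVars false
set_option linter.unusedVariables false
set_option linter.style.haveILetI false

namespace CfsgLib.Bicyclic

open scoped commutatorElement

universe u

theorem metacyclic_congr {R T : Type*} [Group R] [Group T] (e : R ≃* T) (hm : Cfsg.IsMetacyclic R) :
    Cfsg.IsMetacyclic T := by
  obtain ⟨C, hC, hCc, hCq⟩ := hm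
  haveI := hC
  haveI := hCc
  haveI := hCq
  haveI : (C.map e.toMonoidHom).Normal := hC.map _ e.surjective
  refine ⟨C.map e.toMonoidHom, inferInstance, ?_, ?_⟩
  · exact isCyclic_of_surjective (e.toMonoidHom.subgroupMap C) (e.toMonoidHom.subgroupMap_surjective C)
  · exact isCyclic_of_surjective (QuotientGroup.map C (C.map e.toMonoidHom) e.toMonoidHom (Subgroup.le_comap_map _ _))
      fun t => QuotientGroup.induction_on t fun t => by
        obtain ⟨r, rfl⟩ := e.surjective t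
        exact ⟨(r : R ⧸ C), rfl⟩

variable {S : Type u} [Group S] [Finite S] {a b : S}

namespace Frame

variable (F : Frame a b)

include F

theorem frattini_comm_ne (hnc : ¬ IsCyclic ↥(commutator S)) {u v : S} (hu : u ∈ frattini S)
    (hv : v ∈ commutator S) (h4 : v * v * (v * v) = 1) (h : ⁅u, v⁆ = v * v) : v * v = 1 := by
  obtain ⟨G, hG⟩ := F.exists_T_frattini hnc hu
  rw [← F.val_el v hv, comm_sub, ← val_add] at h
  have h' := F.val_injective h
  rw [hG, add_sub_cancel_left, mul_assoc, mul_comm 2, mul_act, two_act] at h'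
  have hunit : IsUnit (1 - F.ξ * G) :=
    ((Commute.all _ _).isNilpotent_mul_right F.ξ_nilpotent).isUnit_one_sub
  have h0 := F.act_unit_inj hunit (x := F.el v hv + F.el v hv) (by rw [sub_act, one_act, h', sub_self])
  have := congrArg F.val h0
  simpa using this

theorem M_le_closure : F.M ≤ Subgroup.closure ({b, a ^ 2} ∪ (commutator S : Set S)) := by
  refine sup_le (Subgroup.zpowers_le.mpr (Subgroup.subset_closure (Or.inl (Or.inl rfl)))) ?_
  intro g hg
  obtain ⟨i, s, hs, rfl⟩ := F.frattini_form hg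
  rw [pow_mul]
  have ha : a ^ 2 ∈ Subgroup.closure ({b, a ^ 2} ∪ (commutator S : Set S)) :=
    Subgroup.subset_closure (Or.inl (Or.inr rfl))
  exact mul_mem (pow_mem ha _) (Subgroup.subset_closure (Or.inr hs))

theorem comm_M_derR (hnc : ¬ IsCyclic ↥(commutator S)) {x y : S} (hx : x ∈ F.M) (hy : y ∈ F.M) :
    ⁅x, y⁆ ∈ derR S := by
  set π := QuotientGroup.mk' (derR S)
  refine (QuotientGroup.eq_one_iff _).mp ?_
  show π ⁅x, y⁆ = 1
  rw [map_commutatorElement, commutatorElement_eq_one_iff_mul_comm]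
  have hgen : ∀ u ∈ ({b, a ^ 2} ∪ (commutator S : Set S) : Set S), ∀ v ∈ ({b, a ^ 2} ∪ (commutator S : Set S) : Set S),
      π u * π v = π v * π u := by
    have hab : π (a ^ 2) * π b = π b * π (a ^ 2) := by
      rw [← commutatorElement_eq_one_iff_mul_comm, ← map_commutatorElement]
      exact (QuotientGroup.eq_one_iff _).mpr (F.comm_a2_derR hnc (by rw [inv_mul_cancel]; exact one_mem _))
    have hs : ∀ s ∈ commutator S, ∀ w, π s * π w = π w * π s := fun s hs w => by
      rw [← commutatorElement_eq_one_iff_mul_comm, ← map_commutatorElement]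
      exact (QuotientGroup.eq_one_iff _).mpr
        (Subgroup.mem_sup_right (Subgroup.commutator_mem_commutator hs (Subgroup.mem_top w)))
    rintro u ((rfl | rfl) | hu) v ((rfl | rfl) | hv)
    exacts [rfl, hab.symm, (hs v hv _).symm, hab, rfl, (hs v hv _).symm, hs u hu _, hs u hu _, hs u hu _]
  have h1 : ∀ u ∈ ({b, a ^ 2} ∪ (commutator S : Set S) : Set S),
      F.M ≤ (Subgroup.centralizer ({π u} : Set _)).comap π := fun u hu =>
    F.M_le_closure.trans ((Subgroup.closure_le _).mpr fun v hv =>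
      Subgroup.mem_centralizer_singleton_iff.mpr (hgen v hv u hu))
  have h2 : F.M ≤ (Subgroup.centralizer ({π y} : Set _)).comap π :=
    F.M_le_closure.trans ((Subgroup.closure_le _).mpr fun v hv =>
      Subgroup.mem_centralizer_singleton_iff.mpr (Subgroup.mem_centralizer_singleton_iff.mp (h1 v hv hy)).symm)
  exact Subgroup.mem_centralizer_singleton_iff.mp (h2 hx)

theorem derR_le_sup (hnc : ¬ IsCyclic ↥(commutator S)) {g : S} (hg : b⁻¹ * g ∈ frattini S) :
    derR S ≤ Subgroup.zpowers ⁅a ^ 2, g⁆ ⊔ sqSub (commutator S) := by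
  intro y hy
  obtain ⟨E, hE⟩ := F.exists_E hnc
  obtain ⟨f, hf⟩ := F.el_comm_a2 hnc hg
  obtain ⟨P, Q, hPQ⟩ := (F.mRange_iff _).mp ((F.mem_derR_iff (F.el y (derR_le hy))).mp hy)
  obtain ⟨l, Q', rfl⟩ := F.O_decomp Q
  have e : F.el y (derR_le hy) = l • F.el ⁅a ^ 2, g⁆ (comm_mem _ _) +
      (F.act (P + F.ξ * E * Q') F.c - l • f + (F.act (P + F.ξ * E * Q') F.c - l • f)) := by
    rw [hPQ, hf, show 2 * P + F.ξ * ((l : F.O) + F.ξ * Q') = (l : F.O) * F.ξ + 2 * (P + F.ξ * E * Q') by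
      rw [mul_add F.ξ, ← mul_assoc F.ξ F.ξ, hE]; ring, add_act, F.mul_act (l : F.O), F.mul_act 2, two_act]
    rw [show F.act (l : F.O) (F.act F.ξ F.c) = l • F.act F.ξ F.c from rfl, smul_add, smul_add]
    abel
  rw [← F.val_el y (derR_le hy), e, val_add, val_zsmul, val_el]
  exact mul_mem (Subgroup.mem_sup_left (zpow_mem (Subgroup.mem_zpowers _) l))
    (Subgroup.mem_sup_right ((F.mem_sqSub_iff _).mpr ⟨_, rfl⟩))

section

variable {Q : Subgroup S} {H : Subgroup (MulAut ↥Q)} (E : Ess Q H)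
  (hnc : ¬ IsCyclic ↥(commutator S)) (hQM : Q ≤ F.M) {g : S} (hgQ : g ∈ Q) (hg : b⁻¹ * g ∈ frattini S)

include E hnc hQM hgQ hg

theorem frattini_Q_le : ∀ z : ↥Q, z ∈ frattini ↥Q → (z : S) ∈ frattini S := by
  haveI : Fact (Nat.Prime 2) := ⟨Nat.prime_two⟩
  have h := CfsgLib.RankFrattini.frattini_le_of_elementary E.isPGroup ((frattini S).subgroupOf Q)
    (fun x y => F.comm_le_frattini (comm_mem (x : S) (y : S)))
    (fun x => F.sq_mem_frattini (x : S))
  exact fun z hz => h hz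

theorem index_le : (frattini ↥Q).index ≤ 8 := by
  refine frattini_index_le_eight E.isPGroup (P := (frattini S).subgroupOf Q) ?_ ?_
  · let e : ↥(Q ⊓ frattini S) ≃* ↥((frattini S).subgroupOf Q) :=
      { toFun := fun x => ⟨⟨x, x.2.1⟩, x.2.2⟩
        invFun := fun x => ⟨x.1.1, x.1.2, x.2⟩
        left_inv := fun x => rfl
        right_inv := fun x => rfl
        map_mul' := fun x y => rfl }
    exact metacyclic_congr e (F.metacyclic_of_le_Y hnc (inf_le_right.trans F.frattini_le_Y))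
  · have key : ∀ x : ↥Q, x ∈ (frattini S).subgroupOf Q ∨
        (⟨g, hgQ⟩ : ↥Q)⁻¹ * x ∈ (frattini S).subgroupOf Q := by
      intro x
      rcases F.mem_M_iff.mp (hQM x.2) with h | h
      · exact Or.inl h
      · right
        show g⁻¹ * (x : S) ∈ frattini S
        rw [show g⁻¹ * (x : S) = (b⁻¹ * g)⁻¹ * (b⁻¹ * x) by group]
        exact mul_mem (inv_mem hg) h
    have hsurj : Function.Surjective (fun t : Bool =>
        (QuotientGroup.mk (if t then (⟨g, hgQ⟩ : ↥Q) else 1) : ↥Q ⧸ (frattini S).subgroupOf Q)) := by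
      intro z
      obtain ⟨x, rfl⟩ := QuotientGroup.mk_surjective z
      rcases key x with h | h
      · exact ⟨false, QuotientGroup.eq.mpr (by simpa using h)⟩
      · exact ⟨true, QuotientGroup.eq.mpr h⟩
    calc ((frattini S).subgroupOf Q).index ≤ Nat.card Bool := Nat.card_le_card_of_surjective _ hsurj
      _ = 2 := by simp

/-- Commutators of two elements of `M` whose commutators with `g` lie in `W`. -/
theorem comm_L {u v : S} (hu : u ∈ F.M) (hv : v ∈ F.M) (hug : ⁅u, g⁆ ∈ F.W) (hvg : ⁅v, g⁆ ∈ F.W) :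
    ⁅u, v⁆ ∈ F.W := by
  set π := QuotientGroup.mk' F.W
  have hπ : ∀ {x y : S}, ⁅x, y⁆ ∈ F.W → π x * π y = π y * π x := fun {x y} h => by
    rw [← commutatorElement_eq_one_iff_mul_comm, ← map_commutatorElement]
    exact (QuotientGroup.eq_one_iff _).mpr h
  have hsplit : ∀ x ∈ F.M, ⁅x, g⁆ ∈ F.W → ∃ i : ℕ, ∃ p ∈ frattini S, x = g ^ i * p ∧ ⁅p, g⁆ ∈ F.W := by
    intro x hx hxg
    rcases F.mem_M_iff.mp hx with h | h
    · exact ⟨0, x, h, by rw [pow_zero, one_mul], hxg⟩
    · refine ⟨1, g⁻¹ * x, ?_, by rw [pow_one, mul_inv_cancel_left], ?_⟩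
      · rw [show g⁻¹ * x = (b⁻¹ * g)⁻¹ * (b⁻¹ * x) by group]
        exact mul_mem (inv_mem hg) h
      · rw [show ⁅g⁻¹ * x, g⁆ = g⁻¹ * ⁅x, g⁆ * g⁻¹⁻¹ by simp only [commutatorElement_def]; group]
        exact Subgroup.Normal.conj_mem inferInstance _ hxg _
  obtain ⟨i, p, hp, rfl, hpg⟩ := hsplit u hu hug
  obtain ⟨j, q, hq, rfl, hqg⟩ := hsplit v hv hvg
  have hpq : ⁅p, q⁆ ∈ F.W := by
    refine F.refl_fix hnc hg (comm_mem p q) ?_
    have hpM := F.frattini_le_M hp
    have hqM := F.frattini_le_M hq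
    have e1 : g * p * g⁻¹ = ⁅g, p⁆ * p := by rw [commutatorElement_def]; group
    have e2 : g * q * g⁻¹ = ⁅g, q⁆ * q := by rw [commutatorElement_def]; group
    have w1 : ⁅g, p⁆ ∈ F.W := by rw [← commutatorElement_inv]; exact inv_mem hpg
    have w2 : ⁅g, q⁆ ∈ F.W := by rw [← commutatorElement_inv]; exact inv_mem hqg
    generalize ⁅g, p⁆ = ω at e1 w1
    generalize ⁅g, q⁆ = ω' at e2 w2
    have h1 : g * ⁅p, q⁆ * g⁻¹ = ⁅p, q⁆ := by
      calc g * ⁅p, q⁆ * g⁻¹ = ⁅g * p * g⁻¹, g * q * g⁻¹⁆ := by simp only [commutatorElement_def]; group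
        _ = ω * p * (ω' * q) * p⁻¹ * ω⁻¹ * q⁻¹ * ω'⁻¹ := by rw [e1, e2, commutatorElement_def]; group
        _ = ω * (ω' * p) * q * p⁻¹ * (q⁻¹ * ω⁻¹) * ω'⁻¹ := by
          rw [← F.W_comm_M hnc hpM w2, F.W_comm_M hnc (inv_mem hqM) (inv_mem w1)]; group
        _ = ω * ω' * (⁅p, q⁆ * ω⁻¹) * ω'⁻¹ := by rw [commutatorElement_def]; group
        _ = ω * ω' * (ω⁻¹ * ⁅p, q⁆) * ω'⁻¹ := by rw [F.comm_comm (comm_mem p q) (inv_mem w1.1)]
        _ = (ω * ω' * ω⁻¹) * (⁅p, q⁆ * ω'⁻¹) := by group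
        _ = ω' * (ω'⁻¹ * ⁅p, q⁆) := by
          rw [F.comm_comm w1.1 w2.1, mul_inv_cancel_right, F.comm_comm (comm_mem p q) (inv_mem w2.1)]
        _ = ⁅p, q⁆ := mul_inv_cancel_left _ _
    exact mul_inv_eq_iff_eq_mul.mp h1
  refine (QuotientGroup.eq_one_iff _).mp ?_
  show π ⁅g ^ i * p, g ^ j * q⁆ = 1
  rw [map_commutatorElement, commutatorElement_eq_one_iff_mul_comm, map_mul, map_mul, map_pow, map_pow]
  exact (((Commute.refl (π g)).pow_pow i j).mul_right ((Commute.symm (hπ hqg)).pow_left i)).mul_left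
    (((show Commute (π p) (π g) from hπ hpg).pow_right j).mul_right (hπ hpq))

theorem false_nonabelian (hna : ¬ ∀ x y : ↥Q, x * y = y * x) : False := by
  classical
  haveI : Fact (Nat.Prime 2) := ⟨Nat.prime_two⟩
  haveI : Finite (MulAut ↥Q) := Finite.of_injective (fun f => (f : ↥Q → ↥Q)) DFunLike.coe_injective
  have hWQ : F.W ≤ Q := fun w hw =>
    E.cent (Subgroup.mem_centralizer_iff.mpr fun x hx => F.W_comm_M hnc (hQM hx) hw)
  have hWZ : ∀ z : ↥Q, (z : S) ∈ F.W → z ∈ Subgroup.center ↥Q := fun z hz =>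
    Subgroup.mem_center_iff.mpr fun y => Subtype.ext (F.W_comm_M hnc (hQM y.2) hz)
  have hidx := F.index_le E hnc hQM hgQ hg
  have hAΦ := F.frattini_Q_le E hnc hQM hgQ hg
  have hcommA : ∀ x y : ↥Q, ⁅x, y⁆ ∈ frattini ↥Q := fun x y => CfsgLib.commutator_le_frattini_pGroup E.isPGroup
    (Subgroup.commutator_mem_commutator (Subgroup.mem_top x) (Subgroup.mem_top y))
  have hζW : ∀ ζ : ↥Q, (∀ x y : ↥Q, ⁅x, y⁆ = 1 ∨ ⁅x, y⁆ = ζ) → ∀ x y : ↥Q, ((⁅x, y⁆ : ↥Q) : S) ∈ F.W := by
    intro ζ hζ x y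
    rcases hζ x y with h | h
    · rw [h]; exact one_mem _
    · rw [h]
      have hS' : (ζ : S) ∈ commutator S := by rw [← h]; exact comm_mem (x : S) (y : S)
      refine ⟨hS', ?_⟩
      rcases hζ y x with h' | h'
      · rw [← commutatorElement_inv, h, inv_eq_one] at h'
        rw [h']; exact one_mul 1
      · rw [← commutatorElement_inv, h] at h'
        exact congrArg Subtype.val (inv_eq_iff_mul_eq_one.mp h')
  by_cases hA : ∀ γ ∈ H, Odd (orderOf γ) → ∀ x ∈ frattini ↥Q, γ x = x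
  · obtain ⟨γ, hγH, hγodd, hγ1⟩ := E.exists_odd
    obtain ⟨ζ, hζ, -⟩ := key_odd E.isPGroup hna hidx γ hγodd hγ1 (hA γ hγH hγodd)
    let P : Subgroup (MulAut ↥Q) :=
      { carrier := {α | ∀ x : ↥Q, α x * x⁻¹ ∈ Subgroup.center ↥Q}
        one_mem' := fun x => by simp
        mul_mem' := fun {α β} hα hβ x => by
          show α (β x) * x⁻¹ ∈ Subgroup.center ↥Q
          rw [show α (β x) * x⁻¹ = α (β x) * (β x)⁻¹ * (β x * x⁻¹) by group]
          exact mul_mem (hα _) (hβ x)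
        inv_mem' := fun {α} hα x => by
          have := inv_mem (hα (α⁻¹ x))
          rwa [MulAut.apply_inv_self, mul_inv_rev, inv_inv] at this }
    have hmem : ∀ x : S, (∀ q ∈ Q, ⁅x, q⁆ ∈ F.W) → (∀ q ∈ Q, ⁅x⁻¹, q⁆ ∈ F.W) → x ∈ Q := by
      intro x hx hxi
      have hcl : ∀ x : S, (∀ q ∈ Q, ⁅x, q⁆ ∈ F.W) → ∀ q ∈ Q, x * q * x⁻¹ ∈ Q := fun x hx q hq => by
        have := mul_mem (hWQ (hx q hq)) hq
        rwa [commutatorElement_def, inv_mul_cancel_right] at this
      have hxN : x ∈ Subgroup.normalizer (Q : Set S) := Subgroup.mem_normalizer_iff.mpr fun q =>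
        ⟨hcl x hx q, fun h => by
          have := hcl _ hxi _ h
          rwa [show x⁻¹ * (x * q * x⁻¹) * x⁻¹⁻¹ = q by group] at this⟩
      refine E.mem_of_stab P (fun α hα k hk y => ?_) (fun k hkH hk hodd => ?_) hxN fun q => hWZ _ (hx q q.2)
      · show α (k (α⁻¹ y)) * y⁻¹ ∈ Subgroup.center ↥Q
        have h1 : α (k (α⁻¹ y) * (α⁻¹ y)⁻¹) ∈ Subgroup.center ↥Q := by
          rw [Subgroup.mem_center_iff]
          intro z
          obtain ⟨z', rfl⟩ := α.surjective z
          rw [← map_mul, ← map_mul, Subgroup.mem_center_iff.mp (hk _) z']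
        rwa [map_mul, map_inv, MulAut.apply_inv_self] at h1
      · by_contra hk1
        obtain ⟨-, -, y, hy⟩ := key_odd E.isPGroup hna hidx k hodd hk1 (hA k hkH hodd)
        exact hy (hk y)
    have hL : ∀ v ∈ F.M, ⁅v, g⁆ ∈ F.W → v ∈ Q := by
      intro v hv hvg
      have hvig : ⁅v⁻¹, g⁆ ∈ F.W := by
        rw [show ⁅v⁻¹, g⁆ = v⁻¹ * ⁅v, g⁆⁻¹ * v⁻¹⁻¹ by simp only [commutatorElement_def]; group]
        exact Subgroup.Normal.conj_mem inferInstance _ (inv_mem hvg) _
      exact hmem v (fun q hq => F.comm_L E hnc hQM hgQ hg hv (hQM hq) hvg (hζW ζ hζ ⟨q, hq⟩ ⟨g, hgQ⟩))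
        (fun q hq => F.comm_L E hnc hQM hgQ hg (inv_mem hv) (hQM hq) hvig (hζW ζ hζ ⟨q, hq⟩ ⟨g, hgQ⟩))
    by_cases hk : ∃ x ∈ commutator S, x * x ≠ 1
    · obtain ⟨x, hx, y, hy, hxW, hyW, hx1, hy1, hne⟩ := F.two_values hnc hg hk
      have hxQ := hL x (F.frattini_le_M hx) hxW
      have hyQ := hL y (F.frattini_le_M hy) hyW
      rcases hζ ⟨x, hxQ⟩ ⟨g, hgQ⟩ with h1 | h1
      · exact hx1 (congrArg Subtype.val h1)
      rcases hζ ⟨y, hyQ⟩ ⟨g, hgQ⟩ with h2 | h2
      · exact hy1 (congrArg Subtype.val h2)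
      exact hne (congrArg Subtype.val (h1.trans h2.symm))
    · push Not at hk
      have hS'W : ∀ s ∈ commutator S, s ∈ F.W := fun s hs => ⟨hs, hk s hs⟩
      exact F.a_not_mem_M (hQM (hmem a (fun q _ => hS'W _ (comm_mem _ _)) (fun q _ => hS'W _ (comm_mem _ _))))
  push Not at hA
  obtain ⟨γ, hγH, hγodd, x₀, hx₀, hγx₀⟩ := hA
  -- the restriction to `Φ(Q)`
  have hchar : ∀ α : MulAut ↥Q, ∀ z ∈ frattini ↥Q, α z ∈ frattini ↥Q := fun α z hz =>
    (Subgroup.characteristic_iff_le_comap.1 inferInstance α : frattini ↥Q ≤ (frattini ↥Q).comap α.toMonoidHom) hz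
  let res : MulAut ↥Q → MulAut ↥(frattini ↥Q) := fun α =>
    { toFun := fun z => ⟨α z, hchar α z z.2⟩
      invFun := fun z => ⟨α⁻¹ (z : ↥Q), hchar α⁻¹ z z.2⟩
      left_inv := fun z => Subtype.ext (MulAut.inv_apply_self _ α (z : ↥Q))
      right_inv := fun z => Subtype.ext (MulAut.apply_inv_self _ α (z : ↥Q))
      map_mul' := fun z w => Subtype.ext (map_mul α (z : ↥Q) w) }
  have hres : ∀ (α : MulAut ↥Q), Odd (orderOf α) → Odd (orderOf (res α)) := by
    intro α hα
    refine Odd.of_dvd_nat hα (orderOf_dvd_of_pow_eq_one ?_)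
    have hit : ∀ (i : ℕ) (z : ↥(frattini ↥Q)), (((res α) ^ i) z : ↥Q) = (α ^ i) z := by
      intro i
      induction i with
      | zero => intro z; rfl
      | succ i ih =>
        intro z
        rw [pow_succ', pow_succ', MulAut.mul_apply, MulAut.mul_apply, ← ih]
        rfl
    refine MulEquiv.ext fun z => Subtype.ext ?_
    rw [hit, pow_orderOf_eq_one]
    rfl
  have hAY : Cfsg.IsMetacyclic ↥(frattini ↥Q) := by
    have hle : (frattini ↥Q).map Q.subtype ≤ F.Y := by
      rintro _ ⟨z, hz, rfl⟩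
      exact F.frattini_le_Y (hAΦ z hz)
    exact metacyclic_congr (Subgroup.equivMapOfInjective (frattini ↥Q) Q.subtype Q.subtype_injective).symm
      (F.metacyclic_of_le_Y hnc hle)
  have hApg : IsPGroup 2 ↥(frattini ↥Q) := E.isPGroup.to_subgroup _
  have hAab : ∀ z w : ↥(frattini ↥Q), z * w = w * z := by
    rcases CfsgLib.MetacyclicTwo.quaternion_or_homocyclic hApg hAY (fun h2 => hγx₀ (by
      obtain ⟨k, hk⟩ := h2 (res γ)
      exact congrArg (fun f : MulAut ↥(frattini ↥Q) => ((f ⟨x₀, hx₀⟩ : ↥(frattini ↥Q)) : ↥Q))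
        (eq_one_of_odd_two (hres γ hγodd) hk))) with ⟨⟨e⟩⟩ | ⟨n, ⟨e⟩⟩
    · exfalso
      set ι : ↥(frattini ↥Q) →* S := Q.subtype.comp (frattini ↥Q).subtype
      have hι : ∀ z, ι z ∈ frattini S := fun z => hAΦ _ z.2
      have hιinj : Function.Injective ι := Q.subtype_injective.comp (frattini ↥Q).subtype_injective
      set π := QuotientGroup.mk' (commutator S)
      -- one of `i`, `j`, `ij` lies in `S'`
      obtain ⟨v, hv, hv2⟩ : ∃ v : QuaternionGroup 2, ι (e.symm v) ∈ commutator S ∧ v * v ≠ 1 := by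
        by_contra hcon
        push Not at hcon
        set A : QuaternionGroup 2 := QuaternionGroup.a 1
        set B : QuaternionGroup 2 := QuaternionGroup.xa 0
        have hne : ∀ v : QuaternionGroup 2, v * v ≠ 1 → π (ι (e.symm v)) ≠ 1 :=
          fun v hv h => hv (hcon v ((QuotientGroup.eq_one_iff _).mp h))
        have hz : A * A * (A * A) = 1 ∧ A * A = A * B * A⁻¹ * B⁻¹ ∧ B * B = A * B * A⁻¹ * B⁻¹ := by decide
        have hsq : ∀ v : QuaternionGroup 2, v * v = A * B * A⁻¹ * B⁻¹ → π (ι (e.symm v)) * π (ι (e.symm v)) = 1 := by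
          intro v hv
          rw [← map_mul, ← map_mul, ← map_mul, hv, ← commutatorElement_def, map_commutatorElement, map_commutatorElement]
          exact (QuotientGroup.eq_one_iff _).mpr (comm_mem _ _)
        have hC : ∀ v : QuaternionGroup 2, π (ι (e.symm v)) ∈ Subgroup.zpowers (π (a ^ 2)) := by
          intro v
          obtain ⟨i, s, hs, he⟩ := F.frattini_form (hι (e.symm v))
          rw [he, map_mul, show π s = 1 from (QuotientGroup.eq_one_iff s).mpr hs, mul_one, pow_mul, map_pow]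
          exact Subgroup.pow_mem _ (Subgroup.mem_zpowers _) i
        have hA1 := hne A (by decide)
        have hB1 := hne B (by decide)
        have hAB1 := hne (A * B) (by decide)
        rw [map_mul, map_mul, map_mul] at hAB1
        set C := Subgroup.zpowers (π (a ^ 2))
        haveI : Fintype C := Fintype.ofFinite _
        have h3 := IsCyclic.card_pow_eq_one_le (α := C) (n := 2) two_pos
        have hsub : ({1, ⟨_, hC A⟩, ⟨_, hC B⟩} : Finset C) ⊆ Finset.univ.filter fun c : C => c ^ 2 = 1 := by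
          intro c hc
          simp only [Finset.mem_insert, Finset.mem_singleton] at hc
          simp only [Finset.mem_filter, Finset.mem_univ, true_and]
          rcases hc with rfl | rfl | rfl
          · exact one_pow 2
          · rw [pow_two]; exact Subtype.ext (hsq A hz.2.1)
          · rw [pow_two]; exact Subtype.ext (hsq B hz.2.2)
        have h4 := (Finset.card_le_card hsub).trans h3
        rw [Finset.card_insert_of_notMem, Finset.card_pair] at h4
        · omega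
        · intro h
          apply hAB1
          have h' : π (ι (e.symm A)) = π (ι (e.symm B)) := congrArg Subtype.val h
          rw [h', hsq B hz.2.2]
        · simp only [Finset.mem_insert, Finset.mem_singleton, not_or]
          exact ⟨fun h => hA1 (congrArg Subtype.val h).symm, fun h => hB1 (congrArg Subtype.val h).symm⟩
      have key : ∀ v : QuaternionGroup 2, v * v ≠ 1 → ∃ u, u * v * u⁻¹ * v⁻¹ = v * v := by decide
      obtain ⟨u, hu⟩ := key v hv2
      have h4 : ∀ v : QuaternionGroup 2, v * v * (v * v) = 1 := by decide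
      have h1 := F.frattini_comm_ne hnc (hι (e.symm u)) hv
        (by rw [← map_mul, ← map_mul, ← map_mul, ← map_mul, h4, map_one, map_one])
        (by rw [← map_commutatorElement, ← map_commutatorElement, commutatorElement_def, hu, map_mul, map_mul])
      rw [← map_mul, ← map_mul] at h1
      exact hv2 (e.symm.injective ((hιinj (h1.trans (map_one ι).symm)).trans (map_one e.symm).symm))
    · exact fun z w => e.injective (by rw [map_mul, map_mul, mul_comm])
  -- `γ` moves an involution of `Φ(Q)`; these lie in `W`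
  have hinvW : ∀ z : ↥Q, z ∈ frattini ↥Q → z * z = 1 → (z : S) ∈ F.W := fun z hz hz2 =>
    F.invol_mem_W hnc (hAΦ z hz) (congrArg Subtype.val hz2)
  have hfixA : ∀ α : MulAut ↥Q, Odd (orderOf α) → (∀ z : ↥Q, (z : S) ∈ F.W → α z = z) →
      ∀ z ∈ frattini ↥Q, α z = z := by
    intro α hα hfix z hz
    have h1 := Cfsg.Agent.S5212.eq_one_of_fix_involutions hApg hAab (res α) (hres α hα) (fun y hy =>
      Subtype.ext (hfix _ (hinvW _ y.2 (congrArg Subtype.val hy))))
    exact congrArg (fun f : MulAut ↥(frattini ↥Q) => ((f ⟨z, hz⟩ : ↥(frattini ↥Q)) : ↥Q)) h1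
  obtain ⟨z₁, hz₁, hz₁2, hz₁m⟩ : ∃ z ∈ frattini ↥Q, z * z = 1 ∧ γ z ≠ z := by
    by_contra hcon
    push Not at hcon
    refine hγx₀ ?_
    have h1 := Cfsg.Agent.S5212.eq_one_of_fix_involutions hApg hAab (res γ) (hres γ hγodd) (fun y hy =>
      Subtype.ext (hcon _ y.2 (congrArg Subtype.val hy)))
    exact congrArg (fun f : MulAut ↥(frattini ↥Q) => ((f ⟨x₀, hx₀⟩ : ↥(frattini ↥Q)) : ↥Q)) h1
  have hz₁' : γ z₁ * γ z₁ = 1 := by rw [← map_mul, hz₁2, map_one]
  have hz₁1 : z₁ ≠ 1 := fun h => hz₁m (by rw [h, map_one])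
  have hγz₁1 : γ z₁ ≠ 1 := fun h => hz₁1 (γ.injective (h.trans (map_one γ).symm))
  have hWA : ∀ z : ↥Q, (z : S) ∈ F.W → z ∈ frattini ↥Q ∧ z * z = 1 := by
    intro z hz
    refine ⟨?_, Subtype.ext hz.2⟩
    rcases F.W_cases hnc (hinvW _ hz₁ hz₁2) (hinvW _ (hchar γ _ hz₁) hz₁')
      (fun h => hz₁1 (Subtype.ext h)) (fun h => hγz₁1 (Subtype.ext h))
      (fun h => hz₁m (Subtype.ext h).symm) _ hz with h | h | h | h
    · rw [show z = 1 from Subtype.ext h]; exact one_mem _
    · rw [show z = z₁ from Subtype.ext h]; exact hz₁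
    · rw [show z = γ z₁ from Subtype.ext h]; exact hchar γ _ hz₁
    · rw [show z = z₁ * γ z₁ from Subtype.ext h]; exact mul_mem hz₁ (hchar γ _ hz₁)
  have hWinv : ∀ (α : MulAut ↥Q) (z : ↥Q), (z : S) ∈ F.W → ((α z : ↥Q) : S) ∈ F.W := fun α z hz =>
    hinvW _ (hchar α _ (hWA z hz).1) (by rw [← map_mul, (hWA z hz).2, map_one])
  -- `γ` fixes no non-trivial element of `W`
  have hmoves : ∀ z : ↥Q, (z : S) ∈ F.W → z ≠ 1 → γ z ≠ z := by
    intro z hz hz1 hfix
    refine hz₁m (hfixA γ hγodd (fun w hw => ?_) _ hz₁)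
    by_cases hw1 : w = 1
    · rw [hw1, map_one]
    by_cases hwz : w = z
    · rw [hwz, hfix]
    have hW2 : γ (γ w) = w := by
      rcases F.W_cases hnc hz hw (fun h => hz1 (Subtype.ext h)) (fun h => hw1 (Subtype.ext h))
        (fun h => hwz (Subtype.ext h).symm) _ (hWinv γ w hw) with h | h | h | h
      · exact absurd (γ.injective ((Subtype.ext h : γ w = 1).trans (map_one γ).symm)) hw1
      · exact absurd (γ.injective ((Subtype.ext h : γ w = z).trans hfix.symm)) hwz
      · rw [show γ w = w from Subtype.ext h]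
        exact Subtype.ext h
      · have h' : γ w = z * w := Subtype.ext h
        rw [h', map_mul, hfix, h', ← mul_assoc, show z * z = 1 from Subtype.ext hz.2, one_mul]
    have hpow : ∀ i : ℕ, (γ ^ (2 * i)) w = w := by
      intro i
      induction i with
      | zero => rfl
      | succ i ih => rw [Nat.mul_succ, pow_add, MulAut.mul_apply, pow_two, MulAut.mul_apply, hW2, ih]
    obtain ⟨i, hi⟩ := hγodd
    have h3 : (γ ^ (2 * i + 1)) w = w := by rw [← hi, pow_orderOf_eq_one]; rfl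
    rwa [pow_succ', MulAut.mul_apply, hpow] at h3
  let T : Subgroup (MulAut ↥Q) :=
    { carrier := {α | ∀ z : ↥Q, (z : S) ∈ F.W → α z = z}
      one_mem' := fun z _ => rfl
      mul_mem' := fun {α β} hα hβ z hz => by
        show α (β z) = z
        rw [hβ z hz, hα z hz]
      inv_mem' := fun {α} hα z hz => by
        conv_lhs => rw [← hα z hz]
        exact α.symm_apply_apply z }
  have hmem : ∀ x, x ∈ Subgroup.normalizer (Q : Set S) → (∀ w ∈ F.W, x * w = w * x) → x ∈ Q := by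
    intro x hx hxw
    refine E.mem_of_stab T (fun α hα k hk z hz => ?_) (fun k _ hk hodd => ?_) hx fun z hz => Subtype.ext ?_
    · show α (k (α⁻¹ z)) = z
      rw [hk _ (hWinv α⁻¹ z hz)]
      exact α.apply_symm_apply z
    · by_contra hk1
      obtain ⟨ζ, hζ, -⟩ := key_odd E.isPGroup hna hidx k hodd hk1 (hfixA k hodd hk)
      push Not at hna
      obtain ⟨x, y, hxy⟩ := hna
      have hne : ⁅x, y⁆ ≠ 1 := fun h => hxy (commutatorElement_eq_one_iff_mul_comm.mp h)
      have h1 : ⁅x, y⁆ = ζ := (hζ x y).resolve_left hne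
      refine hmoves _ (hζW ζ hζ x y) hne ?_
      have h2 : γ ⁅x, y⁆ ≠ 1 := fun h => hne (γ.injective (h.trans (map_one γ).symm))
      rw [map_commutatorElement] at h2 ⊢
      exact ((hζ _ _).resolve_left h2).trans h1.symm
    · show x * z * x⁻¹ = z
      rw [hxw z hz, mul_inv_cancel_right]
  have hQeq : Q = F.M := eq_of_normalizer_le F.two hQM fun x hxM hx =>
    hmem x hx fun w hw => F.W_comm_M hnc hxM hw
  -- `M' = R`
  set RQ := commutator ↥Q with hRQ
  have hRle : ∀ z : ↥Q, z ∈ RQ → (z : S) ∈ derR S := by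
    have hle : RQ ≤ (derR S).comap Q.subtype := by
      rw [hRQ, commutator_def, Subgroup.commutator_le]
      intro x _ y _
      exact F.comm_M_derR hnc (hQM x.2) (hQM y.2)
    exact fun z hz => hle hz
  have hRge : ∀ y ∈ derR S, ∃ z : ↥Q, z ∈ RQ ∧ (z : S) = y := by
    have hle : derR S ≤ RQ.map Q.subtype := by
      refine (F.derR_le_sup hnc hg).trans (sup_le (Subgroup.zpowers_le.mpr ?_) fun u hu => ?_)
      · refine ⟨⁅(⟨a ^ 2, hQeq.ge (F.frattini_le_M (F.sq_mem_frattini a))⟩ : ↥Q), ⟨g, hgQ⟩⁆,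
          Subgroup.commutator_mem_commutator (Subgroup.mem_top _) (Subgroup.mem_top _), rfl⟩
      · obtain ⟨x, hx, rfl⟩ := F.refl_surj hnc hg hu
        exact ⟨⁅(⟨g, hgQ⟩ : ↥Q), ⟨x, hQeq.ge (F.commutator_le_M hx)⟩⁆,
          Subgroup.commutator_mem_commutator (Subgroup.mem_top _) (Subgroup.mem_top _), rfl⟩
    intro y hy
    obtain ⟨z, hz, hz'⟩ := hle hy
    exact ⟨z, hz, hz'⟩
  obtain ⟨e, he⟩ := IsPGroup.exists_card_eq E.isPGroup
  have hex : ∃ j, ∀ z ∈ RQ, z ^ 2 ^ (j + 1) = 1 := ⟨e, fun z _ => by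
    rw [pow_succ, pow_mul, ← he, pow_card_eq_one', one_pow]⟩
  set j := Nat.find hex with hj
  have hjspec : ∀ z ∈ RQ, z ^ 2 ^ (j + 1) = 1 := Nat.find_spec hex
  obtain ⟨z₀, hz₀, hz₀1⟩ : ∃ z ∈ RQ, z ^ 2 ^ j ≠ 1 := by
    rcases Nat.eq_zero_or_pos j with h0 | hpos
    · obtain ⟨z, hz, hzv⟩ := hRge _ (F.comm_a2_derR hnc hg)
      refine ⟨z, hz, fun h => F.comm_a2_not_sq hnc hg ?_⟩
      rw [h0, pow_zero, pow_one] at h
      rw [← hzv, h]
      exact one_mem _
    · have := Nat.find_min hex (Nat.sub_lt hpos one_pos)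
      push Not at this
      obtain ⟨z, hz, h⟩ := this
      rw [show j - 1 + 1 = j by omega] at h
      exact ⟨z, hz, h⟩
  have hpW : ∀ z ∈ RQ, ((z ^ 2 ^ j : ↥Q) : S) ∈ F.W := fun z hz =>
    hinvW _ (pow_mem (CfsgLib.commutator_le_frattini_pGroup E.isPGroup hz) _)
      (by rw [← pow_add, ← two_mul, ← pow_succ', hjspec z hz])
  have hγR : γ z₀ ∈ RQ :=
    (Subgroup.characteristic_iff_le_comap.1 (inferInstanceAs (commutator ↥Q).Characteristic) γ :
      commutator ↥Q ≤ (commutator ↥Q).comap γ.toMonoidHom) hz₀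
  have hall : ∀ w ∈ F.W, ∃ z ∈ RQ, ((z ^ 2 ^ j : ↥Q) : S) = w := by
    intro w hw
    have hne : γ (z₀ ^ 2 ^ j) ≠ z₀ ^ 2 ^ j := hmoves _ (hpW _ hz₀) hz₀1
    rw [map_pow] at hne
    rcases F.W_cases hnc (hpW _ hz₀) (hpW _ hγR) (fun h => hz₀1 (Subtype.ext h))
      (fun h => hz₀1 (γ.injective (by rw [map_pow, map_one]; exact Subtype.ext h)))
      (fun h => hne (Subtype.ext h).symm) w hw with h | h | h | h
    · exact ⟨1, one_mem _, by rw [one_pow, h]; rfl⟩
    · exact ⟨z₀, hz₀, h.symm⟩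
    · exact ⟨γ z₀, hγR, h.symm⟩
    · refine ⟨z₀ * γ z₀, mul_mem hz₀ hγR, ?_⟩
      have hc : Commute z₀ (γ z₀) := Subtype.ext (F.comm_comm (derR_le (hRle _ hz₀)) (derR_le (hRle _ hγR)))
      rw [hc.mul_pow, h]; rfl
  have haW : ∀ w ∈ F.W, a * w = w * a := by
    intro w hw
    obtain ⟨z, hz, rfl⟩ := hall w hw
    obtain ⟨y, hy, hay⟩ := F.comm_a_derR hnc (hRle z hz)
    obtain ⟨y', hy', hyy⟩ := hRge y hy
    have h1 : a * (z : S) * a⁻¹ = y * y * z := by
      rw [← hay, commutatorElement_def]; group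
    have h2 : a * ((z ^ 2 ^ j : ↥Q) : S) * a⁻¹ = ((z ^ 2 ^ j : ↥Q) : S) := by
      rw [SubmonoidClass.coe_pow, ← conj_pow, h1,
        (show Commute (y * y) (z : S) from F.comm_comm (mul_mem (derR_le hy) (derR_le hy)) (derR_le (hRle z hz))).mul_pow,
        ← pow_two, ← pow_mul, ← pow_succ']
      have h3 : y ^ 2 ^ (j + 1) = 1 := by
        have := congrArg Subtype.val (hjspec y' hy')
        rwa [SubmonoidClass.coe_pow, hyy] at this
      rw [h3, one_mul]
    exact mul_inv_eq_iff_eq_mul.mp h2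
  refine E.ne_top (eq_of_normalizer_le F.two le_top fun x _ hx => hmem x hx fun w hw => ?_)
  have hle : Subgroup.closure ({a, b} : Set S) ≤ Subgroup.centralizer ({w} : Set S) := by
    rw [Subgroup.closure_le]
    rintro s (rfl | rfl) <;> rw [SetLike.mem_coe, Subgroup.mem_centralizer_singleton_iff]
    · exact haW w hw
    · exact F.W_comm_M hnc F.b_mem_M hw
  exact Subgroup.mem_centralizer_singleton_iff.mp (hle (F.gen ▸ Subgroup.mem_top x))

end

/-- No essential subgroup if `S'` is not cyclic. -/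
theorem false_of_ess (hnc : ¬ IsCyclic ↥(commutator S)) {Q : Subgroup S} {H : Subgroup (MulAut ↥Q)}
    (E : Ess Q H) : False := by
  rcases F.trichotomy E.ne_top with hQ | hQ | hQ
  rotate_left
  · exact F.false_of_le_Y hnc E hQ
  · exact F.swap.false_of_le_Y hnc E hQ
  have hQM : Q ≤ F.M := hQ
  by_cases hΦ : Q ≤ frattini S
  · exact F.false_of_le_Y hnc E (hΦ.trans F.frattini_le_Y)
  obtain ⟨g, hgQ, hgΦ⟩ := SetLike.not_le_iff_exists.mp hΦ
  have hg : b⁻¹ * g ∈ frattini S := (F.mem_M_iff.mp (hQM hgQ)).resolve_left hgΦ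
  by_cases hab : ∀ x y : ↥Q, x * y = y * x
  swap
  · exact F.false_nonabelian E hnc hQM hgQ hg hab
  by_cases hinv : ∃ z ∈ Q, z * z = 1 ∧ z ∉ F.W
  · obtain ⟨z, hzQ, hz2, hzW⟩ := hinv
    have hzΦ : z ∉ frattini S := fun h => hzW (F.invol_mem_W hnc h hz2)
    have hz : b⁻¹ * z ∈ frattini S := (F.mem_M_iff.mp (hQM hzQ)).resolve_left hzΦ
    obtain ⟨p, hp, hgp, hgen⟩ := F.centralizer_frattini_gen hnc hz
    by_cases hpW : p ∈ F.W
    · refine F.false_of_small E hnc hQM hab hzQ hz hz2 fun v hv hgv => ?_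
      obtain ⟨j, hj⟩ := hgen v hv hgv
      have := mul_mem (zpow_mem hpW j) hj
      rwa [mul_inv_cancel_left] at this
    · exact F.false_of_big E hnc hQM hab hzQ hz hz2 hp hgp hgen hpW
  · push Not at hinv
    have hQM' : Q = F.M := eq_of_normalizer_le F.two hQM fun x hxM hx =>
      E.mem_of_fix_invol hab hx fun z hz hz2 => F.W_comm_M hnc hxM (hinv z hz hz2)
    refine F.comm_a2_not_sq hnc hg ?_
    have h := hab ⟨a ^ 2, hQM'.ge (F.frattini_le_M (F.sq_mem_frattini a))⟩ ⟨g, hgQ⟩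
    rw [commutatorElement_eq_one_iff_mul_comm.mpr (congrArg Subtype.val h)]
    exact one_mem _

end Frame

end CfsgLib.Bicyclic
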