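import Cfsg.Agent.Lib.Fusion.Bicyclic.Ess

/-!
No essential subgroup lies in `⟨a⟩ Φ(S)`.
-/

set_option autoImplicit false
set_option linter.unusedSectionVars false
set_option linter.unusedVariables false
set_option linter.style.haveILetI false

namespace CfsgLib.Bicyclic.Frame

open scoped commutatorElement

universe u

variable {S : Type u} [Group S] [Finite S] {a b : S}

theorem false_of_le_Y (F : Frame a b) (hnc : ¬ IsCyclic ↥(commutator S)) {Q : Subgroup S}
    {H : Subgroup (MulAut ↥Q)} (E : Ess Q H) (hQ : Q ≤ F.Y) : False := by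
  classical
  haveI : Fact (Nat.Prime 2) := ⟨Nat.prime_two⟩
  have hm := F.metacyclic_of_le_Y hnc hQ
  have hcase := CfsgLib.MetacyclicTwo.quaternion_or_homocyclic E.isPGroup hm E.not_two_group
  by_cases hΦ : Q ≤ frattini S
  · have hWQ : F.W ≤ Q := fun w hw => E.cent (Subgroup.mem_centralizer_iff.mpr fun x hx =>
      F.W_comm_M hnc (F.frattini_le_M (hΦ hx)) hw)
    rcases hcase with ⟨⟨e⟩⟩ | ⟨n, ⟨e⟩⟩
    · have h2 : Nat.card F.W ≤ Nat.card {z : QuaternionGroup 2 // z = 1 ∨ z = QuaternionGroup.a 2} := by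
        refine Nat.card_le_card_of_injective (fun w => ⟨e ⟨w, hWQ w.2⟩, ?_⟩) fun v w h => ?_
        · have hz : e ⟨w, hWQ w.2⟩ * e ⟨w, hWQ w.2⟩ = 1 := by
            rw [← map_mul, ← map_one e]
            exact congrArg e (Subtype.ext w.2.2)
          revert hz
          generalize e ⟨(w : S), hWQ w.2⟩ = z
          revert z
          decide
        · exact Subtype.ext (congrArg (fun x : ↥Q => (x : S)) (e.injective (congrArg Subtype.val h)))
      rw [F.card_W hnc, Nat.card_eq_fintype_card] at h2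
      exact absurd h2 (by decide)
    · have hab : ∀ x y : ↥Q, x * y = y * x := fun x y => e.injective (by rw [map_mul, map_mul, mul_comm])
      have hM := eq_of_normalizer_le F.two (hΦ.trans F.frattini_le_M) fun g hgM hg =>
        E.mem_of_fix_invol hab hg fun x hx hx2 => F.W_comm_M hnc hgM (F.invol_mem_W hnc (hΦ hx) hx2)
      exact F.b_not_frattini (hΦ (hM.ge F.b_mem_M))
  obtain ⟨q, hqQ, hqΦ⟩ := SetLike.not_le_iff_exists.mp hΦ
  obtain ⟨r, hr, hiff, -⟩ := F.exists_r
  -- `q = a ^ (2 k + 1) s`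
  obtain ⟨k, s, hs, hqe⟩ : ∃ k : ℤ, ∃ s ∈ frattini S, q = a ^ (2 * k + 1) * s := by
    have h' : q ∈ ((Subgroup.zpowers a ⊔ frattini S : Subgroup S) : Set S) := hQ hqQ
    rw [Subgroup.mul_normal] at h'
    obtain ⟨u, hu, s, hs, rfl⟩ := h'
    obtain ⟨j, rfl⟩ := Subgroup.mem_zpowers_iff.mp hu
    rcases Int.even_or_odd' j with ⟨k, rfl | rfl⟩
    · refine absurd ?_ hqΦ
      rw [zpow_mul, zpow_ofNat]
      exact mul_mem (zpow_mem (F.sq_mem_frattini a) k) hs
    · exact ⟨k, s, hs, rfl⟩
  -- `q ^ 2 ∉ D`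
  have hq2 : q * q ∉ F.D := by
    intro hmem
    obtain ⟨i, t, ht, rfl⟩ := F.frattini_form hs
    set π := QuotientGroup.mk' F.D
    set z : ℤ := 2 * k + 1 + 2 * i with hz
    have hπ : π q = π a ^ z := by
      rw [hqe, map_mul, map_mul, map_zpow, map_pow,
        show π t = 1 from (QuotientGroup.eq_one_iff t).mpr (Subgroup.mem_sup_right ht), mul_one, ← zpow_natCast,
        ← zpow_add]
      congr 1
    have hA : orderOf (π a) = 2 ^ r := by
      refine Nat.dvd_antisymm ?_ ?_
      · rw [orderOf_dvd_iff_pow_eq_one, ← map_pow]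
        exact (QuotientGroup.eq_one_iff _).mpr ((hiff _).mpr dvd_rfl)
      · refine (hiff _).mp ((QuotientGroup.eq_one_iff _).mp ?_)
        show π (a ^ orderOf (π a)) = 1
        rw [map_pow, pow_orderOf_eq_one]
    have h1 : π a ^ (z + z) = 1 := by
      rw [zpow_add, ← hπ, ← map_mul]
      exact (QuotientGroup.eq_one_iff _).mpr hmem
    rw [← orderOf_dvd_iff_zpow_eq_one, hA] at h1
    have h4 : (4 : ℤ) ∣ z + z := by
      refine dvd_trans ?_ h1
      rw [show (4 : ℤ) = ((2 ^ 2 : ℕ) : ℤ) by norm_num, Int.natCast_dvd_natCast]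
      exact pow_dvd_pow 2 hr
    omega
  rcases hcase with ⟨⟨e⟩⟩ | ⟨n, ⟨e⟩⟩
  · apply hq2
    have key : ∀ z : QuaternionGroup 2, z * z = 1 ∨
        z * z = QuaternionGroup.a 1 * QuaternionGroup.xa 0 * (QuaternionGroup.a 1)⁻¹ * (QuaternionGroup.xa 0)⁻¹ := by
      decide
    rcases key (e ⟨q, hqQ⟩) with h | h
    · rw [← map_mul, ← map_one e] at h
      rw [show q * q = 1 from congrArg Subtype.val (e.injective h)]
      exact one_mem _
    · rw [← map_mul] at h
      have h' : (⟨q, hqQ⟩ : ↥Q) * ⟨q, hqQ⟩ =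
          ⁅e.symm (QuaternionGroup.a 1), e.symm (QuaternionGroup.xa 0)⁆ := e.injective (by
        rw [h, map_commutatorElement, e.apply_symm_apply, e.apply_symm_apply, commutatorElement_def])
      rw [show q * q = _ from congrArg Subtype.val h']
      exact Subgroup.mem_sup_right (Subgroup.commutator_mem_commutator (Subgroup.mem_top _) (Subgroup.mem_top _))
  have hab : ∀ x y : ↥Q, x * y = y * x := fun x y => e.injective (by rw [map_mul, map_mul, mul_comm])
  have hexp : ∀ z : Multiplicative (ZMod (2 ^ n)), z ^ 2 ^ n = 1 := fun z =>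
    Multiplicative.toAdd.injective (by simp)
  have hn2 : 2 ≤ n := by
    by_contra hlt
    apply hq2
    have h1 : (⟨q, hqQ⟩ : ↥Q) ^ 2 = 1 := e.injective (by
      rw [map_pow, map_one]
      exact orderOf_dvd_iff_pow_eq_one.mp ((orderOf_dvd_of_pow_eq_one
        (show (e ⟨q, hqQ⟩) ^ 2 ^ n = 1 from Prod.ext (hexp _) (hexp _))).trans
        (Nat.pow_dvd_pow 2 (show n ≤ 1 by omega))))
    rw [← pow_two, show q ^ 2 = 1 from congrArg Subtype.val h1]
    exact one_mem _
  obtain ⟨m, rfl⟩ : ∃ m, n = m + 2 := ⟨n - 2, by omega⟩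
  -- the involutions of `Q` are squares
  have hinv : ∀ x : ↥Q, x * x = 1 → (x : S) ∈ F.W := by
    intro x hx
    refine F.invol_mem_W hnc ?_ (congrArg Subtype.val hx)
    have key : ∀ v : ZMod (2 ^ (m + 2)), v + v = 0 → ∃ w, w + w = v := by
      intro v hv
      have h1 : ((v.val + v.val : ℕ) : ZMod (2 ^ (m + 2))) = 0 := by
        rw [Nat.cast_add, ZMod.natCast_zmod_val, hv]
      rw [ZMod.natCast_eq_zero_iff] at h1
      obtain ⟨t, ht⟩ := h1
      have h2 : v.val = 2 * (2 ^ m * t) := by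
        have h3 : (2 : ℕ) ^ (m + 2) * t = 4 * (2 ^ m * t) := by ring
        omega
      exact ⟨((2 ^ m * t : ℕ) : ZMod (2 ^ (m + 2))), by rw [← Nat.cast_add, ← two_mul, ← h2, ZMod.natCast_zmod_val]⟩
    have hx' : e x * e x = 1 := by rw [← map_mul, hx, map_one]
    obtain ⟨w1, hw1⟩ := key (Multiplicative.toAdd (e x).1)
      (congrArg (fun v => Multiplicative.toAdd v.1) hx')
    obtain ⟨w2, hw2⟩ := key (Multiplicative.toAdd (e x).2)
      (congrArg (fun v => Multiplicative.toAdd v.2) hx')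
    set y := e.symm (Multiplicative.ofAdd w1, Multiplicative.ofAdd w2)
    have hxy : x = y ^ 2 := e.injective (by
      rw [map_pow, e.apply_symm_apply, pow_two]
      exact Prod.ext (Multiplicative.toAdd.injective hw1.symm) (Multiplicative.toAdd.injective hw2.symm))
    rw [hxy]
    exact F.sq_mem_frattini _
  -- there are four of them
  obtain ⟨o, ho1, ho2⟩ : ∃ o : Multiplicative (ZMod (2 ^ (m + 2))), o ≠ 1 ∧ o * o = 1 := by
    refine ⟨Multiplicative.ofAdd ((2 ^ (m + 1) : ℕ) : ZMod (2 ^ (m + 2))), fun h => ?_, ?_⟩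
    · have h1 := congrArg Multiplicative.toAdd h
      rw [toAdd_ofAdd, toAdd_one, ZMod.natCast_eq_zero_iff] at h1
      have := Nat.le_of_dvd (Nat.two_pow_pos _) h1
      rw [pow_succ] at this
      have := Nat.two_pow_pos (m + 1)
      omega
    · rw [← ofAdd_add, ← Nat.cast_add, ← two_mul, ← pow_succ', ZMod.natCast_self]
      rfl
  let ψ : Bool × Bool → ↥F.W := fun p =>
    ⟨e.symm (if p.1 then o else 1, if p.2 then o else 1), hinv _ (e.injective (by
      rw [map_mul, e.apply_symm_apply, map_one]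
      rcases p with ⟨_ | _, _ | _⟩ <;> simp [ho2]))⟩
  have hψ : Function.Injective ψ := by
    intro p p' h
    have h0 := congrArg (fun w : ↥F.W => (w : S)) h
    have h1 := e.symm.injective (Subtype.ext h0)
    have hb : ∀ c d : Bool, (if c then o else 1) = (if d then o else 1) → c = d := by
      intro c d hcd
      cases c <;> cases d
      exacts [rfl, absurd hcd.symm ho1, absurd hcd ho1, rfl]
    exact Prod.ext (hb _ _ (congrArg Prod.fst h1)) (hb _ _ (congrArg Prod.snd h1))
  have hψs := ((Nat.bijective_iff_injective_and_card ψ).mpr ⟨hψ, by simp [F.card_W hnc]⟩).2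
  -- `W` is central
  have hWc : ∀ g : S, ∀ w ∈ F.W, g * w = w * g := by
    intro g w hw
    obtain ⟨p, hp⟩ := hψs ⟨w, hw⟩
    have hwQ : w ∈ Q := by
      rw [show w = _ from (congrArg Subtype.val hp).symm]
      exact SetLike.coe_mem _
    have hle : F.M ⊔ Subgroup.zpowers q ≤ Subgroup.centralizer ({w} : Set S) := by
      refine sup_le (fun z hz => ?_) (Subgroup.zpowers_le.mpr ?_) <;> rw [Subgroup.mem_centralizer_singleton_iff]
      · exact F.W_comm_M hnc hz hw
      · exact congrArg Subtype.val (hab ⟨q, hqQ⟩ ⟨w, hwQ⟩)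
    have htop : F.M ⊔ Subgroup.zpowers q = ⊤ := by
      rw [eq_top_iff, ← F.gen, Subgroup.closure_le]
      rintro z (hz | hz) <;> rw [hz, SetLike.mem_coe]
      · have h2 : (a ^ 2) ^ (-k) * (q * s⁻¹) ∈ F.M ⊔ Subgroup.zpowers q :=
          mul_mem (zpow_mem (Subgroup.mem_sup_left (F.frattini_le_M (F.sq_mem_frattini a))) _)
            (mul_mem (Subgroup.mem_sup_right (Subgroup.mem_zpowers q))
              (inv_mem (Subgroup.mem_sup_left (F.frattini_le_M hs))))
        rwa [show q * s⁻¹ = a ^ (2 * k + 1) by rw [hqe, mul_inv_cancel_right], ← zpow_ofNat, ← zpow_mul, ← zpow_add,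
          show (2 : ℤ) * -k + (2 * k + 1) = 1 by ring, zpow_one] at h2
      · exact Subgroup.mem_sup_left F.b_mem_M
    exact Subgroup.mem_centralizer_singleton_iff.mp (hle (htop ▸ Subgroup.mem_top g))
  exact E.ne_top (eq_of_normalizer_le F.two le_top fun g _ hg =>
    E.mem_of_fix_invol hab hg fun x hx hx2 => hWc g x (hinv ⟨x, hx⟩ (Subtype.ext hx2)))

end CfsgLib.Bicyclic.Frame
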