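import Cfsg.Agent.Lib.Fusion.MetaType.Witness
import Cfsg.Agent.Lib.Fusion.Inner
import Mathlib.GroupTheory.SemidirectProduct

/-!
A `2`-group with a presentation `⟨a, b, c⟩` matching a model `(L, C, B, γ)` is a Sylow subgroup of a
cyclic extension of `L`, and so carries a non-inner saturated system.
-/

set_option autoImplicit false
set_option linter.unusedSectionVars false
set_option linter.unusedVariables false
set_option linter.style.haveILetI false

namespace CfsgLib.Bicyclic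

open Cfsg Cfsg.FusionSystem CfsgLib

universe u v

theorem card_closure_le {P : Type u} [Group P] [Finite P] {A B C : P} {n N p σ e : ℕ} (hn : 0 < n) (hN : 0 < N)
    (hAB : A * B * A⁻¹ = C * B) (hAC : A * C * A⁻¹ = C ^ p) (hBC : B * C * B⁻¹ = C⁻¹) (hBB : B * B = C ^ e)
    (hAn : A ^ n = C ^ σ) (hCN : C ^ N = 1) :
    Nat.card ↥(Subgroup.closure ({A, B} : Set P)) ≤ 2 * n * N := by
  classical
  set In : P → Prop := fun x => ∃ (j : ℤ) (t : Bool) (i : ℕ), i < n ∧ x = C ^ j * (if t then B else 1) * A ^ i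
  have hACz : ∀ j : ℤ, A * C ^ j = C ^ ((p : ℤ) * j) * A := by
    intro j
    rw [← mul_inv_eq_iff_eq_mul, ← conj_zpow, hAC, ← zpow_natCast, ← zpow_mul]
  have hBCz : ∀ j : ℤ, B * C ^ j = C ^ (-j) * B := by
    intro j
    rw [← mul_inv_eq_iff_eq_mul, ← conj_zpow, hBC, inv_zpow', ]
  have hAB' : A * B = C * B * A := mul_inv_eq_iff_eq_mul.mp hAB
  have hstep : ∀ x, In x → In (A * x) ∧ In (B * x) := by
    rintro x ⟨j, t, i, hi, rfl⟩
    refine ⟨?_, ?_⟩
    · -- move `A` to the right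
      obtain ⟨j', he⟩ : ∃ j' : ℤ, A * (C ^ j * (if t then B else 1) * A ^ i) =
          C ^ j' * (if t then B else 1) * A ^ (i + 1) := by
        cases t
        · exact ⟨(p : ℤ) * j, by simp only [Bool.false_eq_true, if_false, mul_one]; rw [← mul_assoc, hACz, mul_assoc, ← pow_succ']⟩
        · refine ⟨(p : ℤ) * j + 1, ?_⟩
          simp only [if_true]
          calc A * (C ^ j * B * A ^ i) = (A * C ^ j) * B * A ^ i := by group
            _ = C ^ ((p : ℤ) * j) * (A * B) * A ^ i := by rw [hACz]; group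
            _ = _ := by rw [hAB', zpow_add_one, pow_succ']; group
      rcases Nat.lt_or_ge (i + 1) n with h | h
      · exact ⟨j', t, i + 1, h, he⟩
      · rw [show i + 1 = n by omega, hAn] at he
        cases t
        · refine ⟨j' + σ, false, 0, hn, ?_⟩
          rw [he]
          simp [zpow_add]
        · refine ⟨j' + -(σ : ℤ), true, 0, hn, ?_⟩
          rw [he]
          simp only [if_true, pow_zero, mul_one]
          rw [mul_assoc, ← zpow_natCast, hBCz, zpow_add, mul_assoc]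
    · cases t
      · refine ⟨-j, true, i, hi, ?_⟩
        simp only [Bool.false_eq_true, if_false, mul_one, if_true]
        rw [← mul_assoc, hBCz]
      · refine ⟨-j + e, false, i, hi, ?_⟩
        simp only [Bool.false_eq_true, if_false, mul_one, if_true]
        calc B * (C ^ j * B * A ^ i) = B * C ^ j * B * A ^ i := by group
          _ = C ^ (-j) * (B * B) * A ^ i := by rw [hBCz]; group
          _ = _ := by rw [hBB, ← zpow_natCast, ← zpow_add]
  have hall : ∀ x ∈ Subgroup.closure ({A, B} : Set P), ∀ y, In y → In (x * y) := by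
    intro x hx
    induction hx using Subgroup.closure_induction with
    | mem z hz =>
      rcases hz with rfl | rfl
      · exact fun y hy => (hstep y hy).1
      · exact fun y hy => (hstep y hy).2
    | one => exact fun y hy => by rwa [one_mul]
    | mul u w _ _ hu hw => exact fun y hy => by rw [mul_assoc]; exact hu _ (hw y hy)
    | inv u _ hu =>
      intro y hy
      have hinj : Function.Injective (fun z : {z // In z} => (⟨u * z.1, hu z.1 z.2⟩ : {z // In z})) :=
        fun z z' h => Subtype.ext (mul_left_cancel (congrArg Subtype.val h))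
      obtain ⟨⟨z, hz⟩, hzy⟩ := Finite.surjective_of_injective hinj ⟨y, hy⟩
      rw [← show u * z = y from congrArg Subtype.val hzy, inv_mul_cancel_left]
      exact hz
  have h1 : In 1 := ⟨0, false, 0, hn, by simp⟩
  let f : Fin N × Bool × Fin n → P := fun x => C ^ (x.1 : ℕ) * (if x.2.1 then B else 1) * A ^ (x.2.2 : ℕ)
  have hsub : ∀ x ∈ Subgroup.closure ({A, B} : Set P), x ∈ Set.range f := by
    intro x hx
    obtain ⟨j, t, i, hi, he⟩ := hall x hx 1 h1
    rw [mul_one] at he
    have hj0 : 0 ≤ j % (N : ℤ) := Int.emod_nonneg _ (by omega)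
    have hjN : j % (N : ℤ) < N := Int.emod_lt_of_pos _ (by omega)
    refine ⟨(⟨(j % (N : ℤ)).toNat, by omega⟩, t, ⟨i, hi⟩), ?_⟩
    show C ^ (j % (N : ℤ)).toNat * _ * _ = x
    rw [he]
    congr 2
    rw [← zpow_natCast, Int.toNat_of_nonneg hj0]
    conv_rhs => rw [← Int.emod_add_mul_ediv j N, zpow_add, zpow_mul, zpow_natCast, hCN, one_zpow, mul_one]
  calc Nat.card ↥(Subgroup.closure ({A, B} : Set P)) ≤ Nat.card (Set.range f) :=
        Nat.card_mono (Set.toFinite _) hsub
    _ ≤ Nat.card (Fin N × Bool × Fin n) := Nat.card_le_card_of_surjective _ Set.rangeFactorization_surjective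
    _ = 2 * n * N := by
      simp only [Nat.card_eq_fintype_card, Fintype.card_prod, Fintype.card_bool, Fintype.card_fin]
      ring

/-- A Sylow subgroup of a group without normal `2`-complement carries a system which is not inner. -/
theorem not_all_inner {Ω : Type u} [Group Ω] {S : Subgroup Ω} [Finite S] {G : Type v} [Group G] [Finite G]
    (T : Sylow 2 G) (e : ↥S ≃* ↥(T : Subgroup G)) (hG : ¬ HasNormalPComplement 2 G) :
    ∃ F : FusionSystem S, F.IsSaturated 2 ∧ ¬ ∀ P : Subgroup Ω, F.Hom P = (innerFusionSystem S).Hom P := by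
  haveI : Fact (Nat.Prime 2) := ⟨Nat.prime_two⟩
  let f : (T : Subgroup G) →* Ω := S.subtype.comp e.symm.toMonoidHom
  have hf : Function.Injective f := S.subtype_injective.comp e.symm.injective
  have hfr : f.range = S := by
    rw [MonoidHom.range_comp, MonoidHom.range_eq_top.2 e.symm.surjective, ← MonoidHom.range_eq_map, Subgroup.range_subtype]
  obtain ⟨F, hF⟩ := exists_isFactorSystem_bot (groupFusionSystem (T : Subgroup G)) f hf hfr
  refine ⟨F, hF.isSaturated T.2 (groupFusionSystem_isSaturated T), fun hall => hG ?_⟩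
  refine hasNormalPComplement_of_frobeniusCond (frobeniusCond_of_sylow T fun Q hQ g₀ hg₀ ho => ?_)
  have hconj : ∀ x ∈ Q, g₀ * x * g₀⁻¹ ∈ (T : Subgroup G) := fun x hx =>
    hQ ((Subgroup.mem_normalizer_iff.1 hg₀ x).1 hx)
  have hφ : conjHom Q g₀ ∈ (groupFusionSystem (T : Subgroup G)).Hom Q := conjHom_mem_groupFusionSystem hQ hconj
  obtain ⟨φ', hφ', hφe⟩ := hF.up hφ
  rw [hall] at hφ'
  obtain ⟨-, s, hs, he⟩ := hφ'
  set t : (T : Subgroup G) := e ⟨s, hs⟩ with ht
  -- on `Q` the conjugation by `g₀` is that by `t`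
  have hstep : ∀ x ∈ Q, g₀ * x * g₀⁻¹ = (t : G) * x * (t : G)⁻¹ := by
    intro x hx
    have hm : f ⟨x, hQ hx⟩ ∈ imageAlong f Q := ⟨⟨x, hQ hx⟩, hx, rfl⟩
    have h1 := hφe ⟨x, hx⟩ (hQ hx) hm
    rw [he] at h1
    have h2 : f ⟨g₀ * x * g₀⁻¹, hconj x hx⟩ = f (t * ⟨x, hQ hx⟩ * t⁻¹) := by
      rw [map_mul, map_mul, map_inv]
      refine h1.symm.trans ?_
      show s * f ⟨x, hQ hx⟩ * s⁻¹ = _
      rw [show f t = s from congrArg Subtype.val (e.symm_apply_apply ⟨s, hs⟩)]
    exact congrArg Subtype.val (hf h2)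
  have hit : ∀ m : ℕ, ∀ x ∈ Q, g₀ ^ m * x * (g₀ ^ m)⁻¹ = (t : G) ^ m * x * ((t : G) ^ m)⁻¹ := by
    intro m
    induction m with
    | zero => intro x hx; simp
    | succ m ih =>
      intro x hx
      have hmem : g₀ ^ m * x * (g₀ ^ m)⁻¹ ∈ Q := (Subgroup.mem_normalizer_iff.1 (pow_mem hg₀ m) x).1 hx
      calc g₀ ^ (m + 1) * x * (g₀ ^ (m + 1))⁻¹ = g₀ * (g₀ ^ m * x * (g₀ ^ m)⁻¹) * g₀⁻¹ := by rw [pow_succ']; group
        _ = (t : G) * (g₀ ^ m * x * (g₀ ^ m)⁻¹) * (t : G)⁻¹ := hstep _ hmem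
        _ = _ := by rw [ih x hx, pow_succ']; group
  obtain ⟨k, hk⟩ := T.2 t
  have h1 : g₀ ^ 2 ^ k ∈ Subgroup.centralizer (Q : Set G) := by
    refine Subgroup.mem_centralizer_iff.mpr fun x hx => ?_
    have h := hit (2 ^ k) x hx
    rw [show (t : G) ^ 2 ^ k = 1 from congrArg Subtype.val hk, one_mul, inv_one, mul_one] at h
    exact (mul_inv_eq_iff_eq_mul.1 h).symm
  obtain ⟨m, hm⟩ := exists_pow_eq_self_of_coprime (ho.symm.pow_left k)
  exact hm ▸ pow_mem h1 m

/-- The construction. -/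
theorem exists_noninner {Ω : Type u} [Group Ω] {S : Subgroup Ω} [Finite S] {a b c : ↥S} {k r p σ e : ℕ}
    (hgen : Subgroup.closure ({a, b} : Set ↥S) = ⊤) (hc : orderOf c = 2 ^ k) (hab : a * b * a⁻¹ = c * b)
    (hac : a * c * a⁻¹ = c ^ p) (hbc : b * c * b⁻¹ = c⁻¹) (hbb : b * b = c ^ e) (han : a ^ 2 ^ r = c ^ σ)
    (hcard : Nat.card ↥S = 2 * 2 ^ r * 2 ^ k) {L : Type v} [Group L] [Finite L] {C B : L} {γ : MulAut L}
    (hC : orderOf C = 2 ^ k) (hBC : B * C * B⁻¹ = C⁻¹) (hB : B ∉ Subgroup.zpowers C) (hBB : B * B = C ^ e)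
    (hγC : γ C = C ^ p) (hγB : γ B = C * B) (hγn : γ ^ 2 ^ r = MulAut.conj (C ^ σ))
    (hL : ∃ o, Odd o ∧ Nat.card L = 2 ^ (k + 1) * o) (hLc : ¬ HasNormalPComplement 2 L) :
    ∃ F : FusionSystem S, F.IsSaturated 2 ∧ ¬ ∀ P : Subgroup Ω, F.Hom P = (innerFusionSystem S).Hom P := by
  classical
  haveI : Fact (Nat.Prime 2) := ⟨Nat.prime_two⟩
  haveI : Finite (MulAut L) := Finite.of_injective (fun f => (f : L → L)) DFunLike.coe_injective
  set n := 2 ^ r with hn
  set N := 2 ^ k with hN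
  have hn0 : 0 < n := Nat.two_pow_pos r
  have hN0 : 0 < N := Nat.two_pow_pos k
  haveI : NeZero (n * N) := ⟨(Nat.mul_pos hn0 hN0).ne'⟩
  -- `Cᵖ` and `C` agree at the exponent `σ`
  have hpσ : C ^ (p * σ) = C ^ σ := by
    have h1 : c ^ (p * σ) = c ^ σ := by
      rw [pow_mul, ← hac, conj_pow, ← han, ← pow_succ', pow_succ, mul_inv_cancel_right]
    rw [pow_eq_pow_iff_modEq, hc] at h1
    rwa [pow_eq_pow_iff_modEq, hC]
  have hCN : C ^ N = 1 := by rw [← hC, pow_orderOf_eq_one]
  have hγCσ : γ (C ^ σ) = C ^ σ := by rw [map_pow, hγC, ← pow_mul, hpσ]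
  have hγM : γ ^ (n * N) = 1 := by
    rw [pow_mul, hγn, ← map_pow, ← pow_mul, mul_comm, pow_mul, ← hC, pow_orderOf_eq_one, one_pow, map_one]
  -- the cyclic group acting
  let γ' : MulAut L × Multiplicative (ZMod (n * N)) := (γ, Multiplicative.ofAdd 1)
  have hγ' : orderOf γ' = n * N := by
    rw [Prod.orderOf, orderOf_ofAdd_eq_addOrderOf, ZMod.addOrderOf_one]
    exact Nat.lcm_eq_right (orderOf_dvd_of_pow_eq_one hγM)
  let θ : Subgroup.zpowers γ' →* MulAut L := (MonoidHom.fst _ _).comp (Subgroup.zpowers γ').subtype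
  let G0 := L ⋊[θ] (Subgroup.zpowers γ')
  haveI : Finite G0 := Finite.of_equiv _ (SemidirectProduct.equivProd (φ := θ)).symm
  let x0 : Subgroup.zpowers γ' := ⟨γ', Subgroup.mem_zpowers γ'⟩
  let g0 : G0 := SemidirectProduct.inr x0
  let iL : L →* G0 := SemidirectProduct.inl
  have hconjg : ∀ l : L, g0 * iL l * g0⁻¹ = iL (γ l) := fun l => by
    rw [← map_inv]; exact (SemidirectProduct.inl_aut x0 l).symm
  have hcg : Commute (iL (C ^ σ)) g0 := by
    show iL (C ^ σ) * g0 = g0 * iL (C ^ σ)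
    conv_lhs => rw [← hγCσ, ← hconjg]
    rw [inv_mul_cancel_right]
  have hconjgn : ∀ (m : ℕ) (l : L), g0 ^ m * iL l * (g0 ^ m)⁻¹ = iL ((γ ^ m) l) := by
    intro m
    induction m with
    | zero => intro l; simp
    | succ m ih =>
      intro l
      rw [pow_succ' γ, MulAut.mul_apply, ← hconjg, ← ih l, pow_succ' g0]; group
  let z : G0 := (iL (C ^ σ))⁻¹ * g0 ^ n
  have hzg : Commute z g0 := (hcg.inv_left).mul_left ((Commute.refl g0).pow_left n)
  have hzL : ∀ l, Commute z (iL l) := fun l => by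
    show z * iL l = iL l * z
    have h1 := hconjgn n l
    rw [hγn, MulAut.conj_apply, map_mul, map_mul, map_inv] at h1
    have h2 := mul_inv_eq_iff_eq_mul.mp h1
    calc z * iL l = (iL (C ^ σ))⁻¹ * (g0 ^ n * iL l) := mul_assoc _ _ _
      _ = (iL (C ^ σ))⁻¹ * (iL (C ^ σ) * iL l * (iL (C ^ σ))⁻¹ * g0 ^ n) := by rw [h2]
      _ = iL l * z := by
        show _ = iL l * ((iL (C ^ σ))⁻¹ * g0 ^ n)
        simp only [mul_assoc]
        exact inv_mul_cancel_left _ _
  have hzc : z ∈ Subgroup.center G0 := by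
    refine Subgroup.mem_center_iff.mpr fun y => ?_
    have hx : Commute z (SemidirectProduct.inr y.right : G0) := by
      obtain ⟨i, hi⟩ := y.right.2
      have : (SemidirectProduct.inr y.right : G0) = g0 ^ i := by
        rw [show g0 ^ i = SemidirectProduct.inr (x0 ^ i) from (map_zpow _ _ _).symm]
        exact congrArg _ (Subtype.ext (by rw [SubgroupClass.coe_zpow]; exact hi.symm))
      rw [this]
      exact hzg.zpow_right i
    rw [← SemidirectProduct.inl_left_mul_inr_right y]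
    exact ((hzL _).mul_right hx).eq.symm
  haveI hZn : (Subgroup.zpowers z).Normal :=
    ⟨fun w hw y => by
      have hwc : w ∈ Subgroup.center G0 := (Subgroup.zpowers_le.mpr hzc) hw
      rwa [(Subgroup.mem_center_iff.mp hwc y), mul_inv_cancel_right]⟩
  let G := G0 ⧸ Subgroup.zpowers z
  let π : G0 →* G := QuotientGroup.mk' _
  -- powers of `z`
  have hzpow : ∀ i : ℤ, z ^ i = (iL (C ^ σ)) ^ (-i) * g0 ^ ((n : ℤ) * i) := fun i => by
    show ((iL (C ^ σ))⁻¹ * g0 ^ n) ^ i = _
    rw [(hcg.inv_left.pow_right n).mul_zpow, inv_zpow', zpow_mul, zpow_natCast]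
  have hright : ∀ i : ℤ, ((z ^ i).right : MulAut L × Multiplicative (ZMod (n * N))) = γ' ^ ((n : ℤ) * i) := by
    intro i
    rw [hzpow, ← map_zpow iL, show g0 ^ ((n : ℤ) * i) = SemidirectProduct.inr (x0 ^ ((n : ℤ) * i)) from
      (map_zpow _ _ _).symm, SemidirectProduct.mul_right, SemidirectProduct.right_inl, SemidirectProduct.right_inr,
      one_mul, SubgroupClass.coe_zpow]
  have hzN : ∀ i : ℤ, (N : ℤ) ∣ i → z ^ i = 1 := by
    rintro i ⟨t, rfl⟩
    have h1 : (iL (C ^ σ)) ^ (N : ℤ) = 1 := by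
      rw [zpow_natCast, ← map_pow, ← pow_mul, Nat.mul_comm σ N, pow_mul, hCN, one_pow, map_one]
    have h2 : g0 ^ (n * N) = 1 := by
      rw [← map_pow, show x0 ^ (n * N) = 1 from Subtype.ext (by
        rw [SubmonoidClass.coe_pow]; exact orderOf_dvd_iff_pow_eq_one.mp (by rw [hγ'])), map_one]
    rw [hzpow, ← mul_neg, zpow_mul, h1, one_zpow, one_mul, ← mul_assoc, zpow_mul, ← Nat.cast_mul, zpow_natCast, h2,
      one_zpow]
  have hzr : ∀ i : ℤ, (z ^ i).right = 1 → (N : ℤ) ∣ i := by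
    intro i h
    have h1 := hright i
    rw [h, Subgroup.coe_one, eq_comm, ← orderOf_dvd_iff_zpow_eq_one, hγ', Nat.cast_mul] at h1
    exact Int.dvd_of_mul_dvd_mul_left (by omega) h1
  let ι : L →* G := π.comp iL
  have hιinj : Function.Injective ι := by
    refine (injective_iff_map_eq_one ι).mpr fun l hl => ?_
    obtain ⟨i, hi⟩ := (QuotientGroup.eq_one_iff (iL l)).mp hl
    have hi' : z ^ i = iL l := hi
    have h1 : (z ^ i).right = 1 := by rw [hi']; rfl
    rw [hzN i (hzr i h1)] at hi'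
    exact SemidirectProduct.inl_injective (hi'.symm.trans (map_one iL).symm)
  have hordz : orderOf z = N := by
    refine Nat.dvd_antisymm (orderOf_dvd_of_pow_eq_one ?_) ?_
    · rw [← zpow_natCast]; exact hzN _ dvd_rfl
    · have h1 : (z ^ ((orderOf z : ℕ) : ℤ)).right = 1 := by
        rw [zpow_natCast, pow_orderOf_eq_one]; rfl
      exact_mod_cast hzr _ h1
  have hcardG : Nat.card G = Nat.card L * n := by
    have h := Subgroup.card_eq_card_quotient_mul_card_subgroup (Subgroup.zpowers z)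
    rw [Nat.card_zpowers, hordz, SemidirectProduct.card, Nat.card_zpowers, hγ', ← mul_assoc] at h
    exact (Nat.eq_of_mul_eq_mul_right hN0 h).symm
  -- the relations in `G`
  set g : G := π g0 with hg
  have hgconj : ∀ l, g * ι l * g⁻¹ = ι (γ l) := fun l => by
    show π g0 * π (iL l) * (π g0)⁻¹ = π (iL (γ l))
    rw [← map_mul, ← map_inv, ← map_mul, hconjg]
  have hgn : g ^ n = ι C ^ σ := by
    rw [← map_pow ι, hg, ← map_pow π]
    refine (QuotientGroup.eq.mpr ?_ : (QuotientGroup.mk (g0 ^ n) : G) = QuotientGroup.mk (iL (C ^ σ)))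
    rw [show (g0 ^ n)⁻¹ * iL (C ^ σ) = z⁻¹ by
      show _ = ((iL (C ^ σ))⁻¹ * g0 ^ n)⁻¹; group]
    exact inv_mem (Subgroup.mem_zpowers z)
  -- the graph
  let A' : ↥S × G := (a, g)
  let B' : ↥S × G := (b, ι B)
  let C' : ↥S × G := (c, ι C)
  set Γ := Subgroup.closure ({A', B'} : Set (↥S × G))
  have hΓle : Nat.card Γ ≤ 2 * n * N := by
    refine card_closure_le (C := C') (p := p) (σ := σ) (e := e) hn0 hN0 ?_ ?_ ?_ ?_ ?_ ?_
    · exact Prod.ext hab (show g * ι B * g⁻¹ = ι C * ι B by rw [hgconj, hγB, map_mul])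
    · exact Prod.ext hac (show g * ι C * g⁻¹ = ι C ^ p by rw [hgconj, hγC, map_pow])
    · exact Prod.ext hbc (show ι B * ι C * (ι B)⁻¹ = (ι C)⁻¹ by rw [← map_mul, ← map_inv, ← map_mul, hBC, map_inv])
    · exact Prod.ext hbb (show ι B * ι B = ι C ^ e by rw [← map_mul, hBB, map_pow])
    · exact Prod.ext han hgn
    · exact Prod.ext (show c ^ N = 1 by rw [← hc, pow_orderOf_eq_one])
        (show ι C ^ N = 1 by rw [← map_pow, hCN, map_one])
  let pr : Γ →* ↥S := (MonoidHom.fst _ _).comp Γ.subtype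
  have hprs : Function.Surjective pr := by
    rw [← MonoidHom.range_eq_top, eq_top_iff, ← hgen, Subgroup.closure_le]
    rintro x (rfl | rfl)
    · exact ⟨⟨A', Subgroup.subset_closure (Or.inl rfl)⟩, rfl⟩
    · exact ⟨⟨B', Subgroup.subset_closure (Or.inr rfl)⟩, rfl⟩
  have hprb : Function.Bijective pr := by
    refine (Nat.bijective_iff_surjective_and_card pr).mpr ⟨hprs, le_antisymm ?_ ?_⟩
    · rw [hcard]; exact hΓle
    · exact Nat.card_le_card_of_surjective pr hprs
  let eΓ : Γ ≃* ↥S := MulEquiv.ofBijective pr hprb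
  let h : ↥S →* G := ((MonoidHom.snd _ _).comp Γ.subtype).comp eΓ.symm.toMonoidHom
  have ha : h a = g := by
    show ((eΓ.symm a : Γ) : ↥S × G).2 = g
    rw [show eΓ.symm a = ⟨A', Subgroup.subset_closure (Or.inl rfl)⟩ from eΓ.symm_apply_eq.mpr rfl]
  have hb' : h b = ι B := by
    show ((eΓ.symm b : Γ) : ↥S × G).2 = ι B
    rw [show eΓ.symm b = ⟨B', Subgroup.subset_closure (Or.inr rfl)⟩ from eΓ.symm_apply_eq.mpr rfl]
  have hc' : h c = ι C := by
    rw [show c = a * b * a⁻¹ * b⁻¹ by rw [hab, mul_inv_cancel_right], map_mul, map_mul, map_mul, map_inv, map_inv,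
      ha, hb', hgconj, hγB, map_mul, mul_inv_cancel_right]
  -- injectivity on the normal forms
  let ψ : Fin N × Bool × Fin n → G := fun x => ι (C ^ (x.1 : ℕ) * (if x.2.1 then B else 1)) * g ^ (x.2.2 : ℕ)
  have hψr : ∀ x, ψ x ∈ h.range := by
    rintro ⟨j, t, i⟩
    refine ⟨c ^ (j : ℕ) * (if t then b else 1) * a ^ (i : ℕ), ?_⟩
    show h _ = ι (C ^ (j : ℕ) * (if t then B else 1)) * g ^ (i : ℕ)
    cases t <;> simp [ha, hb', hc']
  have hψi : Function.Injective ψ := by
    rintro ⟨j, t, i⟩ ⟨j', t', i'⟩ he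
    set l := C ^ (j : ℕ) * (if t then B else 1)
    set l' := C ^ (j' : ℕ) * (if t' then B else 1)
    have hψe : ∀ (x : L) (q : ℕ), π (iL x * g0 ^ q) = ι x * g ^ q := fun x q => by rw [map_mul, map_pow]; rfl
    have he' : π (iL l * g0 ^ (i : ℕ)) = π (iL l' * g0 ^ (i' : ℕ)) := by
      rw [hψe, hψe]; exact he
    obtain ⟨m, hm⟩ := QuotientGroup.eq.mp he'
    have hm' : z ^ m = (iL l * g0 ^ (i : ℕ))⁻¹ * (iL l' * g0 ^ (i' : ℕ)) := hm
    let rh : G0 →* MulAut L × Multiplicative (ZMod (n * N)) :=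
      (Subgroup.zpowers γ').subtype.comp SemidirectProduct.rightHom
    have hrl : ∀ x : L, rh (iL x) = 1 := fun x => rfl
    have hrg : rh g0 = γ' := rfl
    have h1 : γ' ^ ((n : ℤ) * m) = (γ' ^ (i : ℕ))⁻¹ * γ' ^ (i' : ℕ) := by
      have h := congrArg rh hm'
      have hrq : ∀ (x : L) (q : ℕ), rh (iL x * g0 ^ q) = γ' ^ q := fun x q => by
        rw [map_mul, map_pow, hrl, hrg, one_mul]
      rw [map_mul, map_inv, hrq, hrq] at h
      exact (hright m).symm.trans h
    have h2 : γ' ^ ((n : ℤ) * m - ((i' : ℕ) - (i : ℕ) : ℤ)) = 1 := by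
      rw [zpow_sub, h1, zpow_sub, zpow_natCast, zpow_natCast,
        ((Commute.refl γ').pow_pow (i : ℕ) (i' : ℕ)).inv_left.eq, mul_inv_cancel]
    rw [← orderOf_dvd_iff_zpow_eq_one, hγ', Nat.cast_mul] at h2
    have h3 : (n : ℤ) ∣ ((i' : ℕ) : ℤ) - (i : ℕ) := by
      have := dvd_sub (dvd_mul_right (n : ℤ) m) ((dvd_mul_right (n : ℤ) (N : ℤ)).trans h2)
      simpa using this
    have hii : i = i' := by
      refine Fin.ext ?_
      have hi := i.2
      have hi' := i'.2
      have h4 := Int.eq_zero_of_abs_lt_dvd h3 (by rw [abs_lt]; omega)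
      omega
    subst hii
    have hl : l = l' := hιinj (mul_right_cancel he)
    have htt : t = t' := by
      have hp : ∀ q : ℕ, C ^ q ∈ Subgroup.zpowers C := fun q => pow_mem (Subgroup.mem_zpowers C) q
      cases t <;> cases t' <;> simp only [l, l', Bool.false_eq_true, if_false, if_true, mul_one] at hl
      · rfl
      · exact absurd (by
          rw [show B = (C ^ (j' : ℕ))⁻¹ * C ^ (j : ℕ) by rw [hl, inv_mul_cancel_left]]
          exact mul_mem (inv_mem (hp _)) (hp _)) hB
      · exact absurd (by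
          rw [show B = (C ^ (j : ℕ))⁻¹ * C ^ (j' : ℕ) by rw [← hl, inv_mul_cancel_left]]
          exact mul_mem (inv_mem (hp _)) (hp _)) hB
      · rfl
    subst htt
    have hjj : j = j' := by
      refine Fin.ext ?_
      have h5 := mul_right_cancel hl
      rw [pow_eq_pow_iff_modEq, hC] at h5
      exact Nat.ModEq.eq_of_lt_of_lt h5 j.2 j'.2
    subst hjj
    rfl
  have hT : Nat.card h.range = 2 * n * N := by
    refine le_antisymm ?_ ?_
    · rw [← hcard]
      exact Nat.card_le_card_of_surjective h.rangeRestrict h.rangeRestrict_surjective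
    · calc 2 * n * N = Nat.card (Fin N × Bool × Fin n) := by
            simp only [Nat.card_eq_fintype_card, Fintype.card_prod, Fintype.card_bool, Fintype.card_fin]
            ring
        _ ≤ Nat.card h.range := Nat.card_le_card_of_injective (fun x => (⟨ψ x, hψr x⟩ : h.range))
            fun x y e => hψi (congrArg Subtype.val e)
  have hinj : Function.Injective h.rangeRestrict :=
    ((Nat.bijective_iff_surjective_and_card h.rangeRestrict).mpr ⟨h.rangeRestrict_surjective, by rw [hT, hcard]⟩).1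
  obtain ⟨o, ho, hLo⟩ := hL
  let T : Sylow 2 G := Sylow.ofCard h.range (by
    rw [hT, hcardG, hLo, hn, hN, show 2 ^ (k + 1) * o * 2 ^ r = 2 ^ (k + 1 + r) * o by ring,
      Cfsg.MetaType.factorization_pow_mul ho]
    ring)
  refine not_all_inner T (MulEquiv.ofBijective h.rangeRestrict ⟨hinj, h.rangeRestrict_surjective⟩) fun hc2 => hLc ?_
  exact hasNormalPComplement_of_equiv (MonoidHom.ofInjective hιinj).symm (hasNormalPComplement_subgroup hc2 ι.range)

end CfsgLib.Bicyclic
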