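import Cfsg.Agent.Lib.Fusion.MetaType.Witness
import Cfsg.Agent.Lib.PSL2.Aut
import Mathlib.FieldTheory.Perfect

/-!
Groups `L = SL₂(q)` and `L = PSL₂(q)` with a Sylow subgroup `⟨C, B⟩` and a semilinear diagonal
automorphism `γ` with `γ C = Cᵖ`, `γ B = C B`.
-/

set_option autoImplicit false
set_option linter.unusedSectionVars false
set_option linter.unusedVariables false
set_option linter.style.haveILetI false

namespace CfsgLib.Bicyclic

open Matrix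

/-- `pᶠ - 1` for `p ≡ 1 + 2^v` modulo `2^(v+1)`. -/
theorem pow_two_pow_sub_one {p v : ℕ} (hv : 2 ≤ v) {o : ℕ} (ho : Odd o) (hp : p = 2 ^ v * o + 1) :
    ∀ j : ℕ, ∃ o' : ℕ, Odd o' ∧ p ^ 2 ^ j = 2 ^ (v + j) * o' + 1 := by
  intro j
  induction j with
  | zero => exact ⟨o, ho, by rw [pow_zero, pow_one, hp]; rfl⟩
  | succ j ih =>
    obtain ⟨o', ho', he⟩ := ih
    refine ⟨o' * (2 ^ (v + j - 1) * o' + 1), ho'.mul (Even.add_one ?_), ?_⟩
    · exact ((Nat.even_pow' (by omega)).2 even_two).mul_right o'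
    · obtain ⟨d, hd⟩ : ∃ d, v + j = d + 1 := ⟨v + j - 1, by omega⟩
      rw [pow_succ 2 j, pow_mul, he, show v + (j + 1) = d + 2 by omega, hd, Nat.add_sub_cancel]
      ring

/-- A finite field with a root of unity and an automorphism acting on it as the `p`-th power. -/
theorem exists_field (K p r : ℕ) (hK : 2 ≤ K) (hp4 : p % 4 = 1) (hpn : p ^ 2 ^ r % 2 ^ K = 1) :
    ∃ (F : Type) (_ : Field F) (_ : Fintype F) (ζ : Fˣ) (φ : F ≃+* F),
      (∃ o : ℕ, Odd o ∧ Fintype.card F = 2 ^ K * o + 1) ∧ orderOf ζ = 2 ^ K ∧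
      φ (ζ : F) = (ζ : F) ^ p ∧ ∀ x : F, (φ ^ 2 ^ r) x = x := by
  classical
  -- the residue
  obtain ⟨v, o, hv2, hvK, ho, hres⟩ : ∃ v o : ℕ, 2 ≤ v ∧ v ≤ K ∧ Odd o ∧
      (2 ^ v * o + 1) % 2 ^ K = p % 2 ^ K := by
    by_cases h1 : p % 2 ^ K = 1
    · exact ⟨K, 1, hK, le_rfl, odd_one, by
        rw [h1, mul_one, Nat.add_mod_left, Nat.mod_eq_of_lt (Nat.one_lt_two_pow (by omega))]⟩
    have hp1 : p - 1 ≠ 0 := by
      intro h
      apply h1
      rw [show p = 1 by omega, Nat.mod_eq_of_lt (Nat.one_lt_two_pow (by omega))]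
    obtain ⟨v, o, ho, he⟩ := Nat.exists_eq_pow_mul_and_not_dvd hp1 2 (by norm_num)
    have he' : p = 2 ^ v * o + 1 := by omega
    have hvK : v < K := by
      by_contra hge
      apply h1
      obtain ⟨d, rfl⟩ := Nat.exists_eq_add_of_le (not_lt.mp hge)
      rw [he', pow_add, mul_assoc, Nat.mul_add_mod, Nat.mod_eq_of_lt (Nat.one_lt_two_pow (by omega))]
    refine ⟨v, o, ?_, hvK.le, Nat.odd_iff.2 (Nat.two_dvd_ne_zero.1 ho), by rw [← he']⟩
    by_contra hlt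
    interval_cases v <;> simp at he' <;> omega
  obtain ⟨q, -, hq, hmod⟩ := Nat.forall_exists_prime_gt_and_modEq 2 (q := 2 ^ (K + 1)) (a := 2 ^ v * o + 1)
    (pow_ne_zero _ two_ne_zero) (by
      refine Nat.Coprime.pow_right _ ((Nat.prime_two.coprime_iff_not_dvd.2 ?_).symm)
      intro h
      have : 2 ∣ 2 ^ v * o := (dvd_pow_self 2 (by omega)).mul_right o
      omega)
  haveI : Fact q.Prime := ⟨hq⟩
  -- `q = 2 ^ v * odd + 1`
  obtain ⟨o', ho', hqe⟩ : ∃ o', Odd o' ∧ q = 2 ^ v * o' + 1 := by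
    obtain ⟨d, hd⟩ := Nat.exists_eq_add_of_le (show v + 1 ≤ K + 1 by omega)
    have hm : q ≡ 2 ^ v * o + 1 [MOD 2 ^ (v + 1)] := hmod.of_dvd (by rw [hd]; exact pow_dvd_pow 2 (by omega))
    have h2 : (2 ^ v * o + 1) % 2 ^ (v + 1) = 2 ^ v + 1 := by
      obtain ⟨t, rfl⟩ := ho
      rw [show 2 ^ v * (2 * t + 1) + 1 = 2 ^ (v + 1) * t + (2 ^ v + 1) by ring, Nat.mul_add_mod,
        Nat.mod_eq_of_lt]
      rw [pow_succ]
      have : 2 ≤ 2 ^ v := Nat.le_self_pow (by omega) 2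
      omega
    refine ⟨2 * (q / 2 ^ (v + 1)) + 1, odd_two_mul_add_one _, ?_⟩
    have h3 := Nat.div_add_mod q (2 ^ (v + 1))
    rw [(show q % 2 ^ (v + 1) = _ from Eq.trans hm h2)] at h3
    have e : 2 ^ v * (2 * (q / 2 ^ (v + 1)) + 1) = 2 ^ (v + 1) * (q / 2 ^ (v + 1)) + 2 ^ v := by ring
    omega
  have hqp : q % 2 ^ K = p % 2 ^ K := by
    rw [← hres]
    exact hmod.of_dvd (pow_dvd_pow 2 (by omega))
  obtain ⟨j, rfl⟩ := Nat.exists_eq_add_of_le hvK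
  have hjr : j ≤ r := by
    by_contra hlt
    obtain ⟨o₁, ho₁, he₁⟩ := pow_two_pow_sub_one hv2 ho' hqe r
    have h1 : q ^ 2 ^ r % 2 ^ (v + j) = 1 := by rw [Nat.pow_mod, hqp, ← Nat.pow_mod, hpn]
    obtain ⟨d, hd⟩ := Nat.exists_eq_add_of_le (show v + r + 1 ≤ v + j by omega)
    have h2 : 2 ^ (v + r + 1) ∣ 2 ^ (v + r) * o₁ := by
      have h3 : 2 ^ (v + j) ∣ q ^ 2 ^ r - 1 := by
        have := Nat.div_add_mod (q ^ 2 ^ r) (2 ^ (v + j))
        rw [h1] at this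
        exact ⟨q ^ 2 ^ r / 2 ^ (v + j), by omega⟩
      rw [he₁, Nat.add_sub_cancel] at h3
      exact (pow_dvd_pow 2 (by omega)).trans h3
    rw [pow_succ] at h2
    exact Nat.not_even_iff_odd.2 ho₁ (even_iff_two_dvd.2 (Nat.dvd_of_mul_dvd_mul_left (Nat.two_pow_pos _) h2))
  let F := GaloisField q (2 ^ j)
  haveI : Fintype F := Fintype.ofFinite F
  have hcard : Fintype.card F = q ^ 2 ^ j := by
    rw [← Nat.card_eq_fintype_card]; exact GaloisField.card q (2 ^ j) (by positivity)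
  obtain ⟨o₂, ho₂, he₂⟩ := pow_two_pow_sub_one hv2 ho' hqe j
  obtain ⟨u, hu⟩ := IsCyclic.exists_ofOrder_eq_natCard (α := Fˣ)
  have hucard : orderOf u = 2 ^ (v + j) * o₂ := by
    rw [hu, Nat.card_eq_fintype_card, Fintype.card_units, hcard, he₂, Nat.add_sub_cancel]
  set φ : F ≃+* F := frobeniusEquiv F q
  refine ⟨F, inferInstance, inferInstance, u ^ o₂, φ, ⟨o₂, ho₂, hcard.trans he₂⟩, ?_, ?_, ?_⟩
  · rw [orderOf_pow' _ (by rintro rfl; simp at ho₂), hucard, Nat.gcd_mul_left_left,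
      Nat.mul_div_cancel _ ho₂.pos]
  · have hord : orderOf (u ^ o₂) = 2 ^ (v + j) := by
      rw [orderOf_pow' _ (by rintro rfl; simp at ho₂), hucard, Nat.gcd_mul_left_left,
        Nat.mul_div_cancel _ ho₂.pos]
    show ((u ^ o₂ : Fˣ) : F) ^ q = _
    rw [← Units.val_pow_eq_pow_val, ← Units.val_pow_eq_pow_val]
    refine congrArg Units.val (pow_eq_pow_iff_modEq.mpr ?_)
    rw [hord]
    exact hqp
  · intro x
    have hit : ∀ m : ℕ, (φ ^ m) x = x ^ q ^ m := by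
      intro m
      induction m with
      | zero => simp
      | succ m ih =>
        rw [pow_succ' φ, pow_succ q, pow_mul, ← ih]
        rfl
    rw [hit]
    obtain ⟨d, hd⟩ := Nat.exists_eq_add_of_le hjr
    rw [hd, pow_add, pow_mul]
    have hd' : ∀ m : ℕ, x ^ (q ^ 2 ^ j) ^ m = x := by
      intro m
      induction m with
      | zero => simp
      | succ m ih => rw [pow_succ, pow_mul, ih, ← hcard, FiniteField.pow_card]
    exact hd' _

section Maps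

variable {F : Type} [Field F] [Fintype F]

local notation "SL" => Matrix.SpecialLinearGroup (Fin 2) F
local notation "PSL" => Matrix.ProjectiveSpecialLinearGroup (Fin 2) F

theorem val_mul (A B : SL) : (A * B).1 = A.1 * B.1 := rfl

/-- The diagonal torus. -/
def diagHom : Fˣ →* SL where
  toFun t := ⟨!![(t : F), 0; 0, ((t⁻¹ : Fˣ) : F)], by simp [Matrix.det_fin_two_of]⟩
  map_one' := Subtype.ext (by simp [Matrix.one_fin_two])
  map_mul' s t := Subtype.ext (by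
    show _ = !![(s : F), 0; 0, ((s⁻¹ : Fˣ) : F)] * !![(t : F), 0; 0, ((t⁻¹ : Fˣ) : F)]
    simp [mul_comm])

theorem coe_diagHom (t : Fˣ) : (diagHom t).1 = !![(t : F), 0; 0, ((t⁻¹ : Fˣ) : F)] := rfl

/-- The reflection. -/
def weyl : SL := ⟨!![0, 1; -1, 0], by simp [Matrix.det_fin_two_of]⟩

theorem coe_weyl : (weyl : SL).1 = !![0, 1; -1, 0] := rfl

theorem weyl_conj (t : Fˣ) : weyl * diagHom t * (weyl : SL)⁻¹ = (diagHom t)⁻¹ := by
  rw [← map_inv, mul_inv_eq_iff_eq_mul]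
  refine Subtype.ext ?_
  rw [val_mul, val_mul, coe_diagHom, coe_diagHom, coe_weyl]
  simp [Matrix.mul_fin_two]

/-- The semilinear diagonal automorphism. -/
def semiDiag (ζ : Fˣ) (φ : F ≃+* F) : MulAut SL :=
  CfsgLib.PSL2.conjSL ⟨!![(ζ : F), 0; 0, 1], !![((ζ⁻¹ : Fˣ) : F), 0; 0, 1],
    by simp [Matrix.mul_fin_two, Matrix.one_fin_two], by simp [Matrix.mul_fin_two, Matrix.one_fin_two]⟩ *
  CfsgLib.PSL2.fieldSL φ

theorem coe_semiDiag (ζ : Fˣ) (φ : F ≃+* F) (A : SL) :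
    (semiDiag ζ φ A).1 = !![φ (A.1 0 0), (ζ : F) * φ (A.1 0 1); ((ζ⁻¹ : Fˣ) : F) * φ (A.1 1 0), φ (A.1 1 1)] := by
  show !![(ζ : F), 0; 0, 1] * A.1.map φ * !![((ζ⁻¹ : Fˣ) : F), 0; 0, 1] = _
  rw [Matrix.eta_fin_two (A.1.map φ)]
  simp [Matrix.mul_fin_two]
  field_simp
  trivial

variable {ζ : Fˣ} {φ : F ≃+* F} {p : ℕ} (hφζ : φ (ζ : F) = (ζ : F) ^ p)

include hφζ

theorem φ_pow_ζ (m : ℕ) : φ (((ζ ^ m : Fˣ)) : F) = ((ζ ^ (p * m) : Fˣ) : F) := by
  rw [Units.val_pow_eq_pow_val, Units.val_pow_eq_pow_val, map_pow, hφζ, ← pow_mul]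

theorem φ_pow_ζ_inv (m : ℕ) : φ (((ζ ^ m)⁻¹ : Fˣ) : F) = (((ζ ^ (p * m))⁻¹ : Fˣ) : F) := by
  rw [Units.val_inv_eq_inv_val, Units.val_inv_eq_inv_val, map_inv₀, φ_pow_ζ hφζ]

theorem semiDiag_diag : semiDiag ζ φ (diagHom ζ) = (diagHom ζ) ^ p := by
  refine Subtype.ext ?_
  rw [coe_semiDiag, ← map_pow, coe_diagHom, coe_diagHom]
  have h1 := φ_pow_ζ hφζ 1
  have h2 := φ_pow_ζ_inv hφζ 1
  rw [pow_one, mul_one] at h1 h2
  ext i j
  fin_cases i <;> fin_cases j <;> simp [h1, h2, hφζ]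

theorem semiDiag_weyl : semiDiag ζ φ weyl = diagHom ζ * weyl := by
  refine Subtype.ext ?_
  rw [coe_semiDiag, val_mul, coe_diagHom, coe_weyl]
  simp [Matrix.mul_fin_two]

theorem coe_semiDiag_pow (m : ℕ) (A : SL) :
    ((semiDiag ζ φ ^ m) A).1 = !![(φ ^ m) (A.1 0 0), ((ζ ^ (∑ i ∈ Finset.range m, p ^ i) : Fˣ) : F) * (φ ^ m) (A.1 0 1);
      (((ζ ^ (∑ i ∈ Finset.range m, p ^ i))⁻¹ : Fˣ) : F) * (φ ^ m) (A.1 1 0), (φ ^ m) (A.1 1 1)] := by
  induction m with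
  | zero =>
    simp only [pow_zero, Finset.range_zero, Finset.sum_empty, inv_one, Units.val_one, one_mul]
    show A.1 = _
    ext i j
    fin_cases i <;> fin_cases j <;> rfl
  | succ m ih =>
    have hφm : ∀ x, (φ ^ (m + 1)) x = φ ((φ ^ m) x) := fun x => by rw [pow_succ']; rfl
    rw [pow_succ', MulAut.mul_apply, coe_semiDiag, ih, geom_sum_succ]
    simp only [Matrix.of_apply, Matrix.cons_val', Matrix.cons_val_zero, Matrix.cons_val_one,
      Matrix.empty_val', Matrix.cons_val_fin_one, map_mul, φ_pow_ζ hφζ, φ_pow_ζ_inv hφζ, hφm]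
    rw [pow_succ' ζ, _root_.mul_inv_rev, Units.val_mul, Units.val_mul, ← mul_assoc, ← mul_assoc,
      mul_comm (((ζ ^ (p * ∑ i ∈ Finset.range m, p ^ i))⁻¹ : Fˣ) : F)]

theorem semiDiag_pow_eq_conj {n s : ℕ} (hφn : ∀ x : F, (φ ^ n) x = x)
    (hs : ζ ^ (2 * s) = ζ ^ (∑ i ∈ Finset.range n, p ^ i)) :
    semiDiag ζ φ ^ n = MulAut.conj (diagHom ζ ^ s) := by
  refine MulEquiv.ext fun A => Subtype.ext ?_
  rw [coe_semiDiag_pow hφζ, ← hs]
  show _ = (diagHom ζ ^ s * A * (diagHom ζ ^ s)⁻¹).1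
  rw [← map_pow, ← map_inv, val_mul, val_mul, coe_diagHom, coe_diagHom, inv_inv, hφn, hφn, hφn, hφn,
    Matrix.eta_fin_two A.1]
  simp [Matrix.mul_fin_two, two_mul, pow_add]
  repeat' apply And.intro
  all_goals first | trivial | (field_simp; done) | (field_simp; ring) | ring

end Maps

/-- The quaternion model. -/
theorem exists_model_quaternion (k p r σ : ℕ) (hk : 2 ≤ k) (hp4 : p % 4 = 1)
    (hpn : p ^ 2 ^ r % 2 ^ k = 1) (hσ : 2 * σ ≡ ∑ i ∈ Finset.range (2 ^ r), p ^ i [MOD 2 ^ k]) :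
    ∃ (L : Type) (_ : Group L) (_ : Finite L) (C B : L) (γ : MulAut L),
      orderOf C = 2 ^ k ∧ B * C * B⁻¹ = C⁻¹ ∧ B ∉ Subgroup.zpowers C ∧ B * B = C ^ 2 ^ (k - 1) ∧
      γ C = C ^ p ∧ γ B = C * B ∧ γ ^ 2 ^ r = MulAut.conj (C ^ σ) ∧
      (∃ o, Odd o ∧ Nat.card L = 2 ^ (k + 1) * o) ∧ ¬ Cfsg.HasNormalPComplement 2 L := by
  classical
  obtain ⟨F, _, _, ζ, φ, ⟨o, ho, hcard⟩, hζ, hφζ, hφn⟩ := exists_field k p r hk hp4 hpn
  have hodd : Odd (Fintype.card F) := by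
    rw [hcard]
    exact Even.add_one (((Nat.even_pow' (by omega)).2 even_two).mul_right o)
  refine ⟨SpecialLinearGroup (Fin 2) F, inferInstance, inferInstance, diagHom ζ, weyl, semiDiag ζ φ, ?_, weyl_conj ζ,
    ?_, ?_, semiDiag_diag hφζ, semiDiag_weyl hφζ, semiDiag_pow_eq_conj hφζ hφn ?_, ?_,
    Cfsg.MetaType.no_complement_of_injective hodd (MonoidHom.id _) fun _ _ h => h⟩
  · rw [orderOf_injective diagHom (fun s t h => Units.ext (by
      simpa [coe_diagHom] using congrArg (fun A : SpecialLinearGroup (Fin 2) F => A.1 0 0) h)), hζ]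
  · rintro ⟨i, hi⟩
    have hi' : diagHom (ζ ^ i) = (weyl : SpecialLinearGroup (Fin 2) F) := by rw [map_zpow]; exact hi
    have h := congrArg (fun A : SpecialLinearGroup (Fin 2) F => A.1 0 1) hi'
    rw [coe_diagHom, coe_weyl] at h
    simp at h
  · have h1 : ((ζ : F) ^ 2 ^ (k - 1)) * ((ζ : F) ^ 2 ^ (k - 1)) = 1 := by
      rw [← pow_add, ← two_mul, ← pow_succ', show k - 1 + 1 = k by omega, ← hζ, ← Units.val_pow_eq_pow_val,
        pow_orderOf_eq_one, Units.val_one]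
    have h2 : ((ζ : F) ^ 2 ^ (k - 1)) ≠ 1 := fun h => by
      have h3 : orderOf ζ ∣ 2 ^ (k - 1) := orderOf_dvd_of_pow_eq_one (Units.ext (by
        rw [Units.val_pow_eq_pow_val, h, Units.val_one]))
      rw [hζ] at h3
      have := Nat.le_of_dvd (Nat.two_pow_pos _) h3
      have h4 : 2 ^ k = 2 * 2 ^ (k - 1) := by rw [← pow_succ', show k - 1 + 1 = k by omega]
      have := Nat.two_pow_pos (k - 1)
      omega
    have h3 := (mul_self_eq_one_iff.mp h1).resolve_left h2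
    refine Subtype.ext ?_
    rw [← map_pow, val_mul, coe_diagHom, coe_weyl, Units.val_inv_eq_inv_val,
      Units.val_pow_eq_pow_val, h3]
    simp [Matrix.mul_fin_two]
  · rw [pow_eq_pow_iff_modEq, hζ]
    exact hσ
  · obtain ⟨d, rfl⟩ := Nat.exists_eq_add_of_le hk
    refine ⟨(2 ^ (2 + d) * o + 1) * o * (2 ^ (1 + d) * o + 1), ?_, ?_⟩
    · refine (Odd.mul ?_ ho).mul ?_ <;> exact Even.add_one (((Nat.even_pow' (by omega)).2 even_two).mul_right o)
    · rw [CfsgLib.SLCard.card_SL_two, hcard]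
      have e : (2 ^ (2 + d) * o + 1) ^ 2 = 2 ^ (2 + d + 1) * o * (2 ^ (1 + d) * o + 1) + 1 := by ring
      rw [e, Nat.add_sub_cancel]
      ring

/-- The dihedral model. -/
theorem exists_model_dihedral (k p r σ : ℕ) (hk : 1 ≤ k) (hp4 : p % 4 = 1)
    (hpn : p ^ 2 ^ r % 2 ^ (k + 1) = 1) (hσ : 2 * σ ≡ ∑ i ∈ Finset.range (2 ^ r), p ^ i [MOD 2 ^ (k + 1)]) :
    ∃ (L : Type) (_ : Group L) (_ : Finite L) (C B : L) (γ : MulAut L),
      orderOf C = 2 ^ k ∧ B * C * B⁻¹ = C⁻¹ ∧ B ∉ Subgroup.zpowers C ∧ B * B = C ^ 0 ∧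
      γ C = C ^ p ∧ γ B = C * B ∧ γ ^ 2 ^ r = MulAut.conj (C ^ σ) ∧
      (∃ o, Odd o ∧ Nat.card L = 2 ^ (k + 1) * o) ∧ ¬ Cfsg.HasNormalPComplement 2 L := by
  classical
  obtain ⟨F, _, _, ζ, φ, ⟨o, ho, hcard⟩, hζ, hφζ, hφn⟩ := exists_field (k + 1) p r (by omega) hp4 hpn
  have hodd : Odd (Fintype.card F) := by
    rw [hcard]
    exact Even.add_one (((Nat.even_pow' (by omega)).2 even_two).mul_right o)
  have hcard' : Nat.card (ProjectiveSpecialLinearGroup (Fin 2) F) =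
      2 ^ (k + 1) * ((2 ^ (k + 1) * o + 1) * o * (2 ^ k * o + 1)) := by
    have h := CfsgLib.SLCard.gcd_mul_card_PSL (F := F) (n := 2) (by norm_num)
    rw [CfsgLib.SLCard.card_SL_two, show Nat.gcd 2 (Fintype.card F - 1) = 2 by
      obtain ⟨t, ht⟩ := hodd; rw [ht]; simp, hcard] at h
    refine Nat.eq_of_mul_eq_mul_left two_pos (h.trans ?_)
    have e : (2 ^ (k + 1) * o + 1) ^ 2 = 2 ^ (k + 2) * o * (2 ^ k * o + 1) + 1 := by ring
    rw [e, Nat.add_sub_cancel]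
    ring
  refine ⟨ProjectiveSpecialLinearGroup (Fin 2) F, inferInstance, inferInstance, CfsgLib.PSL2.mk (diagHom ζ),
    CfsgLib.PSL2.mk weyl, CfsgLib.PSL2.centreQuotAut _ (semiDiag ζ φ), ?_, ?_, ?_, ?_, ?_, ?_, ?_,
    ⟨_, ?_, hcard'⟩, Cfsg.MetaType.no_complement_psl hodd ?_⟩
  · refine Nat.dvd_antisymm (orderOf_dvd_of_pow_eq_one ?_) ?_
    · rw [← map_pow, ← map_pow, ← map_one CfsgLib.PSL2.mk, CfsgLib.PSL2.mk_eq_mk]
      have h1 : ((ζ : F) ^ 2 ^ k) * ((ζ : F) ^ 2 ^ k) = 1 := by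
        rw [← pow_add, ← two_mul, ← pow_succ', ← hζ, ← Units.val_pow_eq_pow_val, pow_orderOf_eq_one, Units.val_one]
      rcases mul_self_eq_one_iff.mp h1 with h3 | h3
      · left
        rw [coe_diagHom, Units.val_inv_eq_inv_val, Units.val_pow_eq_pow_val, h3]
        simp [Matrix.one_fin_two]
      · right
        rw [coe_diagHom, Units.val_inv_eq_inv_val, Units.val_pow_eq_pow_val, h3]
        simp [Matrix.one_fin_two]
    · have h := pow_orderOf_eq_one (CfsgLib.PSL2.mk (diagHom ζ))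
      generalize orderOf (CfsgLib.PSL2.mk (diagHom ζ)) = m at h ⊢
      rw [← map_pow, ← map_pow, ← map_one CfsgLib.PSL2.mk, CfsgLib.PSL2.mk_eq_mk, coe_diagHom] at h
      have h2 : ((ζ ^ m : Fˣ) : F) * ((ζ ^ m : Fˣ) : F) = 1 := by
        rcases h with h | h
        · have h0 := congrArg (fun A : Matrix (Fin 2) (Fin 2) F => A 0 0) h
          simp at h0
          rw [Units.val_pow_eq_pow_val, ← h0, one_mul]
        · have h0 := congrArg (fun A : Matrix (Fin 2) (Fin 2) F => A 0 0) h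
          simp at h0
          rw [Units.val_pow_eq_pow_val, ← neg_mul_neg, ← h0, one_mul]
      rw [← Units.val_mul, ← pow_add, Units.val_eq_one, ← orderOf_dvd_iff_pow_eq_one, hζ, ← two_mul, pow_succ'] at h2
      exact Nat.dvd_of_mul_dvd_mul_left two_pos h2
  · rw [← map_inv, ← map_mul, ← map_mul, weyl_conj, map_inv]
  · rintro ⟨i, hi⟩
    have hi' : CfsgLib.PSL2.mk (diagHom (ζ ^ i)) = CfsgLib.PSL2.mk (weyl : SpecialLinearGroup (Fin 2) F) := by
      rw [map_zpow, map_zpow]; exact hi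
    rw [CfsgLib.PSL2.mk_eq_mk] at hi'
    rw [coe_diagHom, coe_weyl] at hi'
    rcases hi' with h | h <;> (have := congrArg (fun A : Matrix (Fin 2) (Fin 2) F => A 0 1) h; simp at this)
  · rw [pow_zero, ← map_mul, ← map_one CfsgLib.PSL2.mk, CfsgLib.PSL2.mk_eq_mk]
    right
    rw [val_mul, coe_weyl]
    show (1 : Matrix (Fin 2) (Fin 2) F) = _
    simp [Matrix.one_fin_two, Matrix.mul_fin_two]
  · show CfsgLib.PSL2.mk (semiDiag ζ φ (diagHom ζ)) = _
    rw [semiDiag_diag hφζ, map_pow]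
  · show CfsgLib.PSL2.mk (semiDiag ζ φ weyl) = _
    rw [semiDiag_weyl hφζ, map_mul]
  · rw [← map_pow, semiDiag_pow_eq_conj hφζ hφn (s := σ) (by rw [pow_eq_pow_iff_modEq, hζ]; exact hσ)]
    refine MulEquiv.ext fun x => ?_
    obtain ⟨A, rfl⟩ := QuotientGroup.mk'_surjective _ x
    show CfsgLib.PSL2.mk (diagHom ζ ^ σ * A * (diagHom ζ ^ σ)⁻¹) = _
    rw [map_mul, map_mul, map_inv, map_pow]
    rfl
  · refine (Odd.mul ?_ ho).mul ?_ <;> exact Even.add_one (((Nat.even_pow' (by omega)).2 even_two).mul_right o)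
  · rw [hcard']
    exact (dvd_pow_self 2 (by omega)).mul_right _

end CfsgLib.Bicyclic
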