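import Cfsg.Agent.Lib.Fusion.Bicyclic.Frame
import Cfsg.Agent.Lib.Fusion.Bicyclic.Model
import Cfsg.Agent.Lib.Fusion.Bicyclic.Extension

/-!
A bicyclic non-metacyclic `2`-group with cyclic commutator subgroup has the presentation of a model.
-/

set_option autoImplicit false
set_option linter.unusedSectionVars false
set_option linter.unusedVariables false
set_option linter.style.haveILetI false

namespace CfsgLib.Bicyclic

open scoped commutatorElement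
open Finset

universe u

variable {S : Type u} [Group S] [Finite S]

theorem pow_eq_pow_iff_int {c : S} {k : ℕ} (hc : orderOf c = 2 ^ k) (i j : ℕ) :
    c ^ i = c ^ j ↔ (2 : ℤ) ^ k ∣ (j : ℤ) - i := by
  rw [pow_eq_pow_iff_modEq, hc, Nat.modEq_iff_dvd]
  norm_num

theorem dvd_of_dvd_mul_odd {k : ℕ} {x o : ℤ} (ho : Odd o) (h : (2 : ℤ) ^ k ∣ x * o) : (2 : ℤ) ^ k ∣ x := by
  obtain ⟨y, rfl⟩ := ho
  have h2 : IsCoprime (2 : ℤ) (2 * y + 1) := ⟨-y, 1, by ring⟩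
  exact h2.pow_left.dvd_of_dvd_mul_right h

/-- The generators, with `b` inverting `S'`. -/
theorem exists_normalized {a b : S} (F : Frame a b) (hcyc : IsCyclic ↥(commutator S)) :
    ∃ (a' : S) (k p e : ℕ), Frame a' b ∧ Subgroup.zpowers ⁅a', b⁆ = commutator S ∧
      derR S ≤ Subgroup.zpowers (⁅a', b⁆ ^ 2) ∧ orderOf ⁅a', b⁆ = 2 ^ k ∧ 1 ≤ k ∧
      b * ⁅a', b⁆ * b⁻¹ = ⁅a', b⁆⁻¹ ∧ a' * ⁅a', b⁆ * a'⁻¹ = ⁅a', b⁆ ^ p ∧ p % 4 = 1 ∧ (k = 1 → p = 1) ∧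
      b * b = ⁅a', b⁆ ^ e ∧ (e = 0 ∨ e = 2 ^ (k - 1) ∧ 2 ≤ k) := by
  haveI : Fact (Nat.Prime 2) := ⟨Nat.prime_two⟩
  obtain ⟨c, hcdef⟩ : ∃ c, c = ⁅a, b⁆ := ⟨_, rfl⟩
  have hcS : c ∈ commutator S := hcdef ▸ F.c_mem
  have hcR : c ∉ derR S := hcdef ▸ F.c_not_mem
  -- `c` generates `S'`
  have hzc : Subgroup.zpowers c = commutator S := by
    obtain ⟨c0, h0⟩ := (Subgroup.isCyclic_iff_exists_zpowers_eq_top _).mp hcyc
    obtain ⟨j, hj⟩ := mem_powers_iff_mem_zpowers.mpr (h0.symm ▸ hcS : c ∈ Subgroup.zpowers c0)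
    refine le_antisymm (Subgroup.zpowers_le.mpr hcS) ?_
    rw [← h0, Subgroup.zpowers_le]
    rcases Nat.even_or_odd' j with ⟨i, rfl | rfl⟩
    · refine absurd (Subgroup.mem_sup_left ?_) hcR
      rw [← hj]
      show c0 ^ (2 * i) ∈ sqSub (commutator S)
      rw [mul_comm, pow_mul]
      exact sq_mem (h0 ▸ Subgroup.pow_mem _ (Subgroup.mem_zpowers c0) i)
    · refine mem_of_odd_pow F.two (odd_two_mul_add_one i) ?_
      rw [show c0 ^ (2 * i + 1) = c from hj]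
      exact Subgroup.mem_zpowers c
  -- conjugates of `c`
  have hconj : ∀ g : S, ∃ u : ℕ, Odd u ∧ g * c * g⁻¹ = c ^ u := by
    intro g
    obtain ⟨u, hu⟩ := mem_powers_iff_mem_zpowers.mpr
      (hzc.symm ▸ Subgroup.Normal.conj_mem inferInstance c hcS g : g * c * g⁻¹ ∈ Subgroup.zpowers c)
    refine ⟨u, ?_, hu.symm⟩
    by_contra hev
    obtain ⟨i, rfl⟩ := Nat.not_odd_iff_even.mp hev
    refine hcR ?_
    have h1 : g * c * g⁻¹ ∈ derR S := by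
      rw [← hu]
      show c ^ (i + i) ∈ _
      rw [← mul_two, pow_mul]
      exact Subgroup.mem_sup_left (sq_mem (pow_mem hcS i))
    have h2 := Subgroup.Normal.conj_mem inferInstance _ h1 g⁻¹
    rwa [show g⁻¹ * (g * c * g⁻¹) * g⁻¹⁻¹ = c by group] at h2
  have hE : derR S ≤ Subgroup.zpowers (c ^ 2) := by
    refine sup_le ?_ ?_
    · rw [sqSub, Subgroup.closure_le]
      rintro _ ⟨s, hs, rfl⟩
      obtain ⟨i, rfl⟩ := Subgroup.mem_zpowers_iff.mp (hzc.symm ▸ hs : s ∈ Subgroup.zpowers c)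
      exact ⟨i, show (c ^ 2) ^ i = (c ^ i) ^ 2 by
        rw [← zpow_natCast c 2, ← zpow_natCast (c ^ i) 2, zpow_comm]⟩
    · rw [Subgroup.commutator_le]
      intro s hs g _
      obtain ⟨i, rfl⟩ := Subgroup.mem_zpowers_iff.mp (hzc.symm ▸ hs : s ∈ Subgroup.zpowers c)
      obtain ⟨u, ⟨v, rfl⟩, hu⟩ := hconj g
      refine ⟨-((v : ℤ) * i), ?_⟩
      show (c ^ 2) ^ (-((v : ℤ) * i)) = _
      rw [commutatorElement_def, show c ^ i * g * (c ^ i)⁻¹ * g⁻¹ = c ^ i * (g * c * g⁻¹) ^ (-i) by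
        rw [conj_zpow, zpow_neg]; group, hu, ← zpow_natCast c 2, ← zpow_natCast c (2 * v + 1), ← zpow_mul, ← zpow_mul,
        ← zpow_add]
      congr 1
      push_cast
      ring
  obtain ⟨k, hk⟩ := IsPGroup.iff_orderOf.mp F.two c
  have hk1 : 1 ≤ k := by
    rcases Nat.eq_zero_or_pos k with rfl | h
    · exact absurd (orderOf_eq_one_iff.mp (by rw [hk, pow_zero]) ▸ one_mem _) hcR
    · exact h
  have hpe := pow_eq_pow_iff_int hk
  obtain ⟨t, ht, hbc⟩ := hconj b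
  obtain ⟨p, hp, hac⟩ := hconj a
  obtain ⟨m, hm⟩ := mem_powers_iff_mem_zpowers.mpr (hE F.b_sq)
  have hbb : b * b = c ^ (2 * m) := by rw [← sq, ← hm, pow_mul]
  have hab : a * b * a⁻¹ = c * b := by rw [hcdef, commutatorElement_def, inv_mul_cancel_right]
  have e1 : (2 : ℤ) ^ k ∣ ((1 + t + 2 * m : ℕ) : ℤ) - ((p * (2 * m) : ℕ) : ℤ) := by
    rw [← hpe, pow_mul c p, ← hac, conj_pow, ← hbb]
    calc a * (b * b) * a⁻¹ = (a * b * a⁻¹) * (a * b * a⁻¹) := by group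
      _ = c * (b * c * b⁻¹) * (b * b) := by rw [hab]; group
      _ = _ := by rw [hbc, hbb, pow_add, pow_add, pow_one]
  have e2 : (2 : ℤ) ^ k ∣ ((2 * m : ℕ) : ℤ) - ((t * (2 * m) : ℕ) : ℤ) := by
    rw [← hpe, pow_mul c t, ← hbc, conj_pow, ← hbb]
    group
  obtain ⟨t', rfl⟩ := ht
  obtain ⟨p', rfl⟩ := hp
  push_cast at e1 e2
  have hkey : (2 : ℤ) ^ k ∣ 4 * (m : ℤ) ∧ (2 : ℤ) ^ k ∣ (2 * (t' : ℤ) + 1) + 1 := by
    have h4m : (2 : ℤ) ^ k ∣ 4 * (m : ℤ) := by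
      rcases Nat.lt_or_ge k 2 with h | h
      · obtain rfl : k = 1 := by omega
        exact ⟨2 * m, by ring⟩
      · refine dvd_of_dvd_mul_odd (o := (2 * (m : ℤ) * p' - 1)) ⟨(m : ℤ) * p' - 1, by ring⟩ ?_
        have h1 := dvd_mul_of_dvd_right e1 (2 * (m : ℤ))
        have h2 := dvd_add h1 e2
        have h3 : (4 : ℤ) * m * (2 * (m : ℤ) * p' - 1) =
            -(2 * (m : ℤ) * ((1 : ℤ) + (2 * t' + 1) + 2 * m - (2 * p' + 1) * (2 * m)) +
              (2 * m - (2 * t' + 1) * (2 * m))) := by ring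
        rw [h3]
        exact dvd_neg.mpr h2
    refine ⟨h4m, ?_⟩
    have h2 := dvd_add e1 (dvd_mul_of_dvd_left h4m (p' : ℤ))
    have h3 : (2 * (t' : ℤ) + 1) + 1 = ((1 : ℤ) + (2 * t' + 1) + 2 * m - (2 * p' + 1) * (2 * m)) + 4 * m * p' := by ring
    rw [h3]
    exact h2
  have hbinv : b * c * b⁻¹ = c⁻¹ := by
    rw [hbc, eq_inv_iff_mul_eq_one, ← pow_succ, ← orderOf_dvd_iff_pow_eq_one, hk]
    exact_mod_cast hkey.2
  -- `b²`
  obtain ⟨e, he, hbe⟩ : ∃ e : ℕ, (e = 0 ∨ e = 2 ^ (k - 1) ∧ 2 ≤ k) ∧ b * b = c ^ e := by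
    rcases Nat.lt_or_ge k 2 with h | h
    · refine ⟨0, Or.inl rfl, ?_⟩
      rw [hbb, pow_zero, ← orderOf_dvd_iff_pow_eq_one, hk, show k = 1 by omega, pow_one]
      exact dvd_mul_right 2 m
    have h4 : 2 ^ k ∣ 2 * (2 * m) := by
      rw [← mul_assoc]
      exact_mod_cast hkey.1
    rw [show k = k - 1 + 1 by omega, pow_succ', Nat.mul_dvd_mul_iff_left (by norm_num)] at h4
    obtain ⟨d, hd⟩ := h4
    rcases Nat.even_or_odd' d with ⟨i, rfl | rfl⟩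
    · refine ⟨0, Or.inl rfl, ?_⟩
      rw [hbb, hd, pow_zero, show 2 ^ (k - 1) * (2 * i) = 2 ^ k * i by
        rw [← mul_assoc, ← pow_succ, show k - 1 + 1 = k by omega], pow_mul, ← hk, pow_orderOf_eq_one, one_pow]
    · refine ⟨2 ^ (k - 1), Or.inr ⟨rfl, h⟩, ?_⟩
      rw [hbb, hd, show 2 ^ (k - 1) * (2 * i + 1) = 2 ^ k * i + 2 ^ (k - 1) by
        rw [mul_add, mul_one, ← mul_assoc, ← pow_succ, show k - 1 + 1 = k by omega],
        pow_add, pow_mul, ← hk, pow_orderOf_eq_one, one_pow, one_mul]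
  rcases Nat.lt_or_ge k 2 with h | h
  · obtain rfl : k = 1 := by omega
    refine ⟨a, 1, 1, e, F, ?_⟩
    rw [← hcdef]
    refine ⟨hzc, hE, hk, le_rfl, hbinv, ?_, by norm_num, fun _ => rfl, hbe, he⟩
    rw [hac, hpe]
    push_cast
    exact ⟨-(p' : ℤ), by ring⟩
  rcases Nat.even_or_odd p' with hev | hodd
  · refine ⟨a, k, 2 * p' + 1, e, F, ?_⟩
    rw [← hcdef]
    exact ⟨hzc, hE, hk, hk1, hbinv, hac, by rw [Nat.even_iff] at hev; omega, fun hk' => by omega, hbe, he⟩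
  · -- replace `a` by `a b`
    refine ⟨a * b, k, (2 * p' + 1) * (2 ^ k - 1), e, F.swap, ?_⟩
    have hc' : ⁅a * b, b⁆ = c := by
      rw [hcdef, commutatorElement_def, commutatorElement_def]; group
    rw [hc']
    refine ⟨hzc, hE, hk, hk1, hbinv, ?_, ?_, fun hk' => by omega, hbe, he⟩
    · have hneg : c ^ ((2 * p' + 1) * (2 ^ k - 1)) = (c ^ (2 * p' + 1))⁻¹ := by
        rw [eq_inv_iff_mul_eq_one, ← pow_add, ← Nat.mul_add_one, Nat.sub_add_cancel (Nat.two_pow_pos k), mul_comm,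
          pow_mul, ← hk, pow_orderOf_eq_one, one_pow]
      calc a * b * c * (a * b)⁻¹ = a * (b * c * b⁻¹) * a⁻¹ := by group
        _ = (a * c * a⁻¹)⁻¹ := by rw [hbinv]; group
        _ = _ := by rw [hac, hneg]
    · obtain ⟨d, rfl⟩ := Nat.exists_eq_add_of_le h
      obtain ⟨i, rfl⟩ := hodd
      obtain ⟨q, hq⟩ : ∃ q, 2 ^ (2 + d) = 4 * (q + 1) :=
        ⟨2 ^ d - 1, by rw [Nat.sub_add_cancel (Nat.two_pow_pos d), pow_add]; norm_num⟩
      rw [hq, show 4 * (q + 1) - 1 = 4 * q + 3 by omega,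
        show (2 * (2 * i + 1) + 1) * (4 * q + 3) = 4 * (4 * i * q + 3 * i + 3 * q + 2) + 1 by ring]
      omega

theorem geom_sum_even {p h : ℕ} (hp : Odd p) : Even h → Even (∑ i ∈ range h, p ^ i) := by
  rintro ⟨j, rfl⟩
  induction j with
  | zero => simp
  | succ j ih =>
    rw [show j + 1 + (j + 1) = j + j + 2 by ring, sum_range_succ, sum_range_succ, add_assoc]
    exact ih.add (hp.pow.add_odd hp.pow)

theorem pow_mod_four {p : ℕ} (hp : p % 4 = 1) (h : ℕ) : p ^ h % 4 = 1 := by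
  simp [Nat.pow_mod, hp]

/-- The data of a model. -/
theorem exists_data {a0 b0 : S} (F0 : Frame a0 b0) (hcyc : IsCyclic ↥(commutator S)) :
    ∃ (a b c : S) (k r p σ e : ℕ), Subgroup.closure ({a, b} : Set S) = ⊤ ∧ orderOf c = 2 ^ k ∧
      a * b * a⁻¹ = c * b ∧ a * c * a⁻¹ = c ^ p ∧ b * c * b⁻¹ = c⁻¹ ∧ b * b = c ^ e ∧ a ^ 2 ^ r = c ^ σ ∧
      Nat.card S = 2 * 2 ^ r * 2 ^ k ∧
      (e = 2 ^ (k - 1) ∧ 2 ≤ k ∧ p % 4 = 1 ∧ p ^ 2 ^ r % 2 ^ k = 1 ∧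
          2 * σ ≡ ∑ i ∈ range (2 ^ r), p ^ i [MOD 2 ^ k] ∨
        e = 0 ∧ 1 ≤ k ∧ p % 4 = 1 ∧ p ^ 2 ^ r % 2 ^ (k + 1) = 1 ∧
          2 * σ ≡ ∑ i ∈ range (2 ^ r), p ^ i [MOD 2 ^ (k + 1)]) := by
  haveI : Fact (Nat.Prime 2) := ⟨Nat.prime_two⟩
  obtain ⟨a, k, p, e, F, hzc, hE, hk, hk1, hbc, hac, hp, hpk, hbb, he⟩ := exists_normalized F0 hcyc
  revert hzc hE hk hbc hac hbb
  generalize hcdef : ⁅a, b0⁆ = c
  intro hzc hE hk hbc hac hbb
  have hab : a * b0 * a⁻¹ = c * b0 := by rw [← hcdef, commutatorElement_def, inv_mul_cancel_right]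
  obtain ⟨r, hr2, hiff, haR⟩ := F.exists_r
  obtain ⟨s, hs⟩ := mem_powers_iff_mem_zpowers.mpr (hE haR)
  obtain ⟨σ, hσdef⟩ : ∃ σ, σ = 2 * s := ⟨_, rfl⟩
  have han : a ^ 2 ^ r = c ^ σ := by rw [hσdef, pow_mul]; exact hs.symm
  -- the order of `S`
  have hcard : Nat.card S = 2 * 2 ^ r * 2 ^ k := by
    refine le_antisymm ?_ ?_
    · have h := card_closure_le (Nat.two_pow_pos r) (Nat.two_pow_pos k) hab hac hbc hbb han
        (by rw [← hk]; exact pow_orderOf_eq_one c)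
      rwa [F.gen, Subgroup.card_top] at h
    · set π := QuotientGroup.mk' F.D
      have hord : orderOf (π a) = 2 ^ r := by
        have h1 : ∀ i, π a ^ i = 1 ↔ 2 ^ r ∣ i := fun i => by
          rw [← map_pow, ← hiff]; exact QuotientGroup.eq_one_iff _
        exact Nat.dvd_antisymm (orderOf_dvd_of_pow_eq_one ((h1 _).mpr dvd_rfl)) ((h1 _).mp (pow_orderOf_eq_one _))
      let f : Fin (2 ^ r) × Fin 2 × ↥(commutator S) → S := fun x => a ^ (x.1 : ℕ) * b0 ^ (x.2.1 : ℕ) * x.2.2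
      have hf : Function.Injective f := by
        rintro ⟨i, ε, u⟩ ⟨i', ε', u'⟩ h
        change a ^ (i : ℕ) * b0 ^ (ε : ℕ) * (u : S) = a ^ (i' : ℕ) * b0 ^ (ε' : ℕ) * (u' : S) at h
        have hD : ∀ (e : ℕ) (w : ↥(commutator S)), π (b0 ^ e * w) = 1 := fun e w => (QuotientGroup.eq_one_iff _).mpr
          (mul_mem (Subgroup.mem_sup_left (Subgroup.pow_mem _ (Subgroup.mem_zpowers b0) e))
            (Subgroup.mem_sup_right w.2))
        have hii : i = i' := by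
          have h1 := congrArg π h
          rw [mul_assoc, mul_assoc, map_mul, map_mul π (a ^ (i' : ℕ)), hD, hD, mul_one, mul_one, map_pow, map_pow,
            pow_eq_pow_iff_modEq, hord] at h1
          exact Fin.ext (h1.eq_of_lt_of_lt i.2 i'.2)
        subst hii
        rw [mul_assoc, mul_assoc, mul_left_cancel_iff] at h
        have hεε : ε = ε' := by
          have hb : b0 ∉ commutator S := fun hb => F.b_not_frattini (F.comm_le_frattini hb)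
          fin_cases ε <;> fin_cases ε' <;> simp at h ⊢
          · exact hb (by
              rw [show b0 = (u : S) * (u' : S)⁻¹ by rw [h, mul_inv_cancel_right]]
              exact mul_mem u.2 (inv_mem u'.2))
          · exact hb (by
              rw [show b0 = (u' : S) * (u : S)⁻¹ by rw [← h, mul_inv_cancel_right]]
              exact mul_mem u'.2 (inv_mem u.2))
        subst hεε
        rw [mul_left_cancel_iff] at h
        rw [Subtype.ext h]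
      calc 2 * 2 ^ r * 2 ^ k = Nat.card (Fin (2 ^ r) × Fin 2 × ↥(commutator S)) := by
            rw [Nat.card_prod, Nat.card_prod, Nat.card_fin, Nat.card_fin, ← hzc, Nat.card_zpowers, hk]; ring
        _ ≤ Nat.card S := Nat.card_le_card_of_injective f hf
  -- conjugation by powers of `a`
  have hca : ∀ i : ℕ, a ^ i * c * (a ^ i)⁻¹ = c ^ p ^ i := by
    intro i
    induction i with
    | zero => simp
    | succ i ih =>
      calc a ^ (i + 1) * c * (a ^ (i + 1))⁻¹ = a * (a ^ i * c * (a ^ i)⁻¹) * a⁻¹ := by rw [pow_succ']; group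
        _ = _ := by rw [ih, ← conj_pow, hac, ← pow_mul, ← pow_succ']
  have hba : ∀ i : ℕ, a ^ i * b0 * (a ^ i)⁻¹ = c ^ (∑ j ∈ range i, p ^ j) * b0 := by
    intro i
    induction i with
    | zero => simp
    | succ i ih =>
      calc a ^ (i + 1) * b0 * (a ^ (i + 1))⁻¹ = a * (a ^ i * b0 * (a ^ i)⁻¹) * a⁻¹ := by rw [pow_succ']; group
        _ = _ := by rw [ih, ← conj_mul, ← conj_pow, hac, hab, ← pow_mul, ← mul_assoc, ← pow_succ, geom_sum_succ]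
  set Sn := ∑ j ∈ range (2 ^ r), p ^ j with hSn
  have hpe := pow_eq_pow_iff_int hk
  have h2σ : (2 : ℤ) ^ k ∣ (Sn : ℤ) - (2 * σ : ℕ) := by
    rw [← hpe]
    refine mul_right_cancel (b := b0) ?_
    rw [← hba, han]
    have h1 : b0 * c ^ σ * b0⁻¹ = (c ^ σ)⁻¹ := by rw [← conj_pow, hbc, inv_pow]
    calc c ^ (2 * σ) * b0 = c ^ σ * c ^ σ * b0 := by rw [two_mul, pow_add]
      _ = c ^ σ * (b0 * c ^ σ * b0⁻¹)⁻¹ * b0 := by rw [h1, inv_inv]
      _ = _ := by group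
  have hpσ : (2 : ℤ) ^ k ∣ (σ : ℤ) - (p * σ : ℕ) := by
    rw [← hpe, pow_mul, ← hac, conj_pow, ← han]
    rw [← pow_succ', pow_succ, mul_inv_cancel_right]
  obtain ⟨q, rfl⟩ : ∃ q, p = q + 1 := ⟨p - 1, by omega⟩
  have hgeom : ∀ j, (q + 1) ^ j = (∑ i ∈ range j, (q + 1) ^ i) * q + 1 := fun j => (geom_sum_mul_add q j).symm
  push_cast at h2σ hpσ
  obtain ⟨x, hx⟩ := h2σ
  obtain ⟨y, hy⟩ := hpσ
  have hSx : (Sn : ℤ) = 2 * σ + 2 ^ k * x := by linarith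
  have hqσ : (q : ℤ) * σ = -(2 ^ k * y) := by linarith
  have hmod : ∀ j (P : ℕ), 1 ≤ j → (2 : ℤ) ^ j ∣ (P : ℤ) - 1 → P % 2 ^ j = 1 := by
    intro j P hj hd
    have h1 : 1 ≡ P [MOD 2 ^ j] := by
      rw [Nat.modEq_iff_dvd]
      exact_mod_cast hd
    exact (Eq.trans h1.symm (Nat.mod_eq_of_lt (Nat.one_lt_two_pow (by omega))))
  have hN2 : (2 : ℤ) ^ (k + 1) = 2 * 2 ^ k := pow_succ' 2 k
  have hSz : (∑ i ∈ range (2 ^ r), ((q : ℤ) + 1) ^ i) = (Sn : ℤ) := by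
    rw [hSn]
    push_cast
    rfl
  obtain ⟨q', hq'⟩ : ∃ q', q = 2 * q' := ⟨q / 2, by omega⟩
  have hpn : (((q + 1) ^ 2 ^ r : ℕ) : ℤ) - 1 = 2 ^ (k + 1) * (-y + q' * x) := by
    rw [hgeom]
    push_cast
    rw [hSz, hSx, hN2]
    have : (q : ℤ) = 2 * q' := by exact_mod_cast hq'
    linear_combination 2 * hqσ + 2 ^ k * x * this
  have hp1 : (q + 1) ^ 2 ^ r % 2 ^ k = 1 := hmod k _ hk1 ⟨2 * (-y + q' * x), by rw [hpn, hN2]; ring⟩
  rcases he with rfl | ⟨rfl, hk2⟩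
  swap
  · refine ⟨a, b0, c, k, r, q + 1, σ, _, F.gen, hk, hab, hac, hbc, hbb, han, hcard,
      Or.inl ⟨rfl, hk2, hp, hp1, ?_⟩⟩
    rw [Nat.modEq_iff_dvd]
    push_cast
    exact ⟨x, by rw [hSz]; linarith⟩
  by_cases hd : (2 : ℤ) ^ (k + 1) ∣ (Sn : ℤ) - 2 * σ
  · refine ⟨a, b0, c, k, r, q + 1, σ, 0, F.gen, hk, hab, hac, hbc, hbb, han, hcard,
      Or.inr ⟨rfl, hk1, hp, hmod _ _ (by omega) ⟨_, hpn⟩, ?_⟩⟩
    rw [Nat.modEq_iff_dvd]
    push_cast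
    rw [hSz]
    exact hd
  -- the exceptional case
  obtain ⟨d, rfl⟩ : ∃ d, r = d + 2 := ⟨r - 2, by omega⟩
  have hk2 : 2 ≤ k := by
    by_contra hlt
    obtain rfl : k = 1 := by omega
    obtain rfl : q = 0 := by have := hpk rfl; omega
    refine hd ?_
    rw [hSn]
    simp only [zero_add, one_pow, sum_const, card_range, smul_eq_mul, mul_one]
    rw [hσdef]
    push_cast
    exact ⟨(2 : ℤ) ^ d - s, by ring⟩
  set h := 2 ^ (d + 1) with hh
  have hn : 2 ^ (d + 2) = h + h := by rw [hh]; ring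
  set Sh := ∑ j ∈ range h, (q + 1) ^ j with hSh
  -- `p ^ h ≡ 1`
  obtain ⟨z, hz⟩ : (2 : ℤ) ^ k ∣ (((q + 1) ^ h : ℕ) : ℤ) - 1 := by
    have h4 : (q + 1) ^ h % 4 = 1 := pow_mod_four hp h
    refine dvd_of_dvd_mul_odd (o := (((q + 1) ^ h / 2 + 1 : ℕ) : ℤ)) ?_ ?_
    · exact_mod_cast (Nat.odd_iff.mpr (by omega) : Odd ((q + 1) ^ h / 2 + 1))
    · have hhalf : (((q + 1) ^ h : ℕ) : ℤ) + 1 = 2 * (((q + 1) ^ h / 2 + 1 : ℕ) : ℤ) := by
        exact_mod_cast (by omega : (q + 1) ^ h + 1 = 2 * ((q + 1) ^ h / 2 + 1))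
      rw [← mul_dvd_mul_iff_left (two_ne_zero (α := ℤ)), ← pow_succ']
      refine ⟨-y + q' * x, ?_⟩
      rw [← hpn, hn, pow_add, Nat.cast_mul, mul_left_comm, ← hhalf]
      ring
  have hS2 : (Sn : ℤ) = Sh * (1 + (((q + 1) ^ h : ℕ) : ℤ)) := by
    rw [hSn, hn, sum_range_add, ← hSh]
    simp only [pow_add, ← mul_sum, ← hSh]
    push_cast
    ring
  obtain ⟨x', hx'⟩ : ∃ x', x = 2 * x' + 1 := by
    rcases Int.even_or_odd' x with ⟨x', rfl | rfl⟩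
    · exact absurd ⟨x', by rw [hSx, hN2]; ring⟩ hd
    · exact ⟨x', rfl⟩
  have hσh : Even Sh := geom_sum_even (Nat.odd_iff.mpr (by omega)) ((Nat.even_pow' (by omega)).mpr even_two)
  obtain ⟨u, hu⟩ := hσh
  have hkk : (2 : ℤ) ^ k = 2 * 2 ^ (k - 1) := by rw [← pow_succ', show k - 1 + 1 = k by omega]
  have hw : c ^ σ = c ^ (Sh + 2 ^ (k - 1)) := by
    rw [hpe]
    refine ⟨-(u : ℤ) * z + x' + 1, ?_⟩
    push_cast
    have hu' : (Sh : ℤ) = u + u := by exact_mod_cast hu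
    have hcast : (((q + 1) ^ h : ℕ) : ℤ) = 1 + 2 ^ k * z := by linarith
    rw [hS2, hcast, hx', hu', hkk] at hSx
    rw [hu', hkk]
    linarith [hSx, mul_comm (u : ℤ) z]
  refine ⟨a, b0 * a ^ h, c, k, d + 2, q + 1, σ, 2 ^ (k - 1), ?_, hk, ?_, hac, ?_, ?_, han, hcard,
    Or.inl ⟨rfl, hk2, hp, hp1, ?_⟩⟩
  · rw [eq_top_iff, ← F.gen, Subgroup.closure_le]
    have h1 : a ∈ Subgroup.closure ({a, b0 * a ^ h} : Set S) := Subgroup.subset_closure (Or.inl rfl)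
    rintro w (rfl | rfl)
    · exact h1
    · simpa using mul_mem (Subgroup.subset_closure (k := ({a, w * a ^ h} : Set S)) (Or.inr rfl))
        (inv_mem (pow_mem h1 h))
  · calc a * (b0 * a ^ h) * a⁻¹ = (a * b0 * a⁻¹) * a ^ h := by group
      _ = _ := by rw [hab, mul_assoc]
  · have h1 : a ^ h * c * (a ^ h)⁻¹ = c := by
      rw [hca]
      conv_rhs => rw [← pow_one c]
      rw [hpe]
      exact ⟨-z, by push_cast at hz ⊢; linarith⟩
    calc b0 * a ^ h * c * (b0 * a ^ h)⁻¹ = b0 * (a ^ h * c * (a ^ h)⁻¹) * b0⁻¹ := by group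
      _ = _ := by rw [h1, hbc]
  · have h1 : b0 * c ^ Sh * b0⁻¹ = (c ^ Sh)⁻¹ := by rw [← conj_pow, hbc, inv_pow]
    calc b0 * a ^ h * (b0 * a ^ h) = b0 * (a ^ h * b0 * (a ^ h)⁻¹) * (a ^ (h + h)) := by rw [pow_add]; group
      _ = (b0 * c ^ Sh * b0⁻¹) * (b0 * b0) * a ^ (h + h) := by rw [hba, ← hSh]; group
      _ = _ := by rw [h1, hbb, pow_zero, mul_one, ← hn, han, hw, pow_add, inv_mul_cancel_left]
  · rw [Nat.modEq_iff_dvd]
    push_cast
    exact ⟨x, by rw [hSz]; linarith⟩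

open Cfsg Cfsg.FusionSystem in
/-- A cyclic commutator subgroup gives a system which is not inner. -/
theorem exists_noninner_of_cyclic {Ω : Type u} [Group Ω] {T : Subgroup Ω} [Finite T] (hS : IsPGroup 2 T)
    (hb : ∃ x y : ↥T, ∀ g : ↥T, ∃ i j : ℤ, g = x ^ i * y ^ j) (hm : ¬ Cfsg.IsMetacyclic ↥T)
    (hc : IsCyclic ↥(commutator ↥T)) :
    ∃ F : FusionSystem T, F.IsSaturated 2 ∧ ¬ ∀ P : Subgroup Ω, F.Hom P = (innerFusionSystem T).Hom P := by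
  obtain ⟨a0, b0, F0⟩ := exists_frame hS hb hm
  obtain ⟨a, b, c, k, r, p, σ, e, hgen, hk, hab, hac, hbc, hbb, han, hcard, hcase⟩ := exists_data F0 hc
  rcases hcase with ⟨rfl, hk2, hp, hpn, hs⟩ | ⟨rfl, hk1, hp, hpn, hs⟩
  · obtain ⟨L, _, _, C, B, γ, hC, hBC, hB, hBB, hγC, hγB, hγn, hL, hLc⟩ :=
      exists_model_quaternion k p r σ hk2 hp hpn hs
    exact exists_noninner hgen hk hab hac hbc hbb han hcard hC hBC hB hBB hγC hγB hγn hL hLc
  · obtain ⟨L, _, _, C, B, γ, hC, hBC, hB, hBB, hγC, hγB, hγn, hL, hLc⟩ :=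
      exists_model_dihedral k p r σ hk1 hp hpn hs
    exact exists_noninner hgen hk hab hac hbc hbb han hcard hC hBC hB hBB hγC hγB hγn hL hLc

end CfsgLib.Bicyclic
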