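import Cfsg.Agent.Lib.Elementary
import Cfsg.Agent.Lib.MetacyclicTwoAut
import Mathlib

/-!
An automorphism of odd order of a non-abelian `2`-group `Q` with `|Q / Φ(Q)| ≤ 8` fixing `Φ(Q)`
pointwise forces `|Q'| ≤ 2`.
-/

set_option autoImplicit false
set_option linter.unusedSectionVars false
set_option linter.unusedVariables false
set_option linter.style.haveILetI false

namespace CfsgLib.Bicyclic

open scoped commutatorElement

universe u

/-- A fixed-point-free map of odd order on a group of order eight of exponent two is transitive on the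
involutions. -/
theorem fpf_transitive {V : Type u} [CommGroup V] [Finite V] (h8 : Nat.card V = 8) (h2 : ∀ v : V, v * v = 1)
    (f : V →* V) {n : ℕ} (hn : Odd n) (hper : ∀ v, f^[n] v = v) (hfix : ∀ v, f v = v → v = 1)
    {x : V} (hx : x ≠ 1) : f^[7] x = x ∧ ∀ v : V, v ≠ 1 → ∃ i < 7, f^[i] x = v := by
  classical
  haveI : Fintype V := Fintype.ofFinite V
  have hinj : Function.Injective f := by
    obtain ⟨m, hm⟩ : ∃ m, n = m + 1 := ⟨n - 1, by have := hn.pos; omega⟩
    intro u v h
    rw [← hper u, ← hper v, hm, Function.iterate_succ_apply, Function.iterate_succ_apply, h]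
  have hne : ∀ i v, v ≠ 1 → f^[i] v ≠ 1 := fun i v hv h =>
    hv (hinj.iterate i (h.trans (iterate_map_one f i).symm))
  set k := Function.minimalPeriod f x with hk
  have hk0 : 0 < k := Function.IsPeriodicPt.minimalPeriod_pos hn.pos (hper x)
  have hkn : k ∣ n := Function.IsPeriodicPt.minimalPeriod_dvd (hper x)
  have hkodd : Odd k := hn.of_dvd_nat hkn
  have hkx : f^[k] x = x := Function.iterate_minimalPeriod
  set O := (Finset.range k).image (fun i => f^[i] x) with hO
  have hOcard : O.card = k := by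
    rw [hO, Finset.card_image_of_injOn, Finset.card_range]
    intro i hi j hj h
    exact Function.iterate_injOn_Iio_minimalPeriod (Finset.mem_range.mp hi) (Finset.mem_range.mp hj) h
  have hcard : Fintype.card V = 8 := by rw [← Nat.card_eq_fintype_card, h8]
  have herase : ((Finset.univ : Finset V).erase 1).card = 7 := by
    rw [Finset.card_erase_of_mem (Finset.mem_univ _), Finset.card_univ, hcard]
  have hOsub : O ⊆ (Finset.univ : Finset V).erase 1 := by
    intro v hv
    obtain ⟨i, -, rfl⟩ := Finset.mem_image.mp hv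
    exact Finset.mem_erase.mpr ⟨hne i x hx, Finset.mem_univ _⟩
  have hk7 : k ≤ 7 := by
    rw [← hOcard, ← herase]
    exact Finset.card_le_card hOsub
  have hfO : ∀ v, f v ∈ O ↔ v ∈ O := by
    intro v
    constructor
    · intro h
      obtain ⟨i, hi, e⟩ := Finset.mem_image.mp h
      rw [Finset.mem_range] at hi
      rcases Nat.eq_zero_or_pos i with rfl | hi0
      · refine Finset.mem_image.mpr ⟨k - 1, Finset.mem_range.mpr (by omega), hinj ?_⟩
        show f (f^[k - 1] x) = f v
        rw [← Function.iterate_succ_apply' f, show (k - 1).succ = k by omega, hkx, ← e]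
        rfl
      · refine Finset.mem_image.mpr ⟨i - 1, Finset.mem_range.mpr (by omega), hinj ?_⟩
        show f (f^[i - 1] x) = f v
        rw [← Function.iterate_succ_apply' f, show (i - 1).succ = i by omega]
        exact e
    · intro h
      obtain ⟨i, hi, rfl⟩ := Finset.mem_image.mp h
      rw [Finset.mem_range] at hi
      rw [← Function.iterate_succ_apply' f]
      rcases Nat.lt_or_ge (i + 1) k with h1 | h1
      · exact Finset.mem_image.mpr ⟨i + 1, Finset.mem_range.mpr h1, rfl⟩
      · exact Finset.mem_image.mpr ⟨0, Finset.mem_range.mpr hk0, by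
          show x = f^[i + 1] x
          rw [show i + 1 = k by omega, hkx]⟩
  have hk1 : k ≠ 1 := fun h => hx (hfix x (by rw [h] at hkx; exact hkx))
  have hk357 : k = 3 ∨ k = 5 ∨ k = 7 := by
    obtain ⟨j, hj⟩ := hkodd
    omega
  clear_value k
  obtain rfl | rfl | hk7' := hk357
  · -- an invariant plane
    exfalso
    have h3 : f (f (f x)) = x := hkx
    have hsum : x * f x * f (f x) = 1 := hfix _ (by
      rw [map_mul, map_mul, h3, mul_comm (f x * f (f x)) x, mul_assoc])
    have e1 : f (f x) = x * f x := by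
      rw [← mul_one (x * f x), ← h2 (f (f x)), ← mul_assoc (x * f x), hsum, one_mul]
    let P : Finset V := insert 1 O
    have hPcard : P.card = 4 := by
      rw [Finset.card_insert_of_notMem (fun h => Finset.notMem_erase 1 _ (hOsub h)), hOcard]
    obtain ⟨y, hy⟩ : ∃ y, y ∉ P := by
      by_contra h
      push Not at h
      have := Finset.card_le_card (show (Finset.univ : Finset V) ⊆ P from fun v _ => h v)
      rw [Finset.card_univ, hcard, hPcard] at this
      omega
    have hmem : ∀ v, v ∈ P ↔ v = 1 ∨ v = x ∨ v = f x ∨ v = x * f x := by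
      intro v
      have : Finset.range 3 = {0, 1, 2} := rfl
      simp only [P, O, this, Finset.image_insert, Finset.image_singleton, Finset.mem_insert,
        Finset.mem_singleton, Function.iterate_zero, id, Function.iterate_succ, Function.comp_apply, e1]
    have hclosed : ∀ u ∈ P, ∀ v ∈ P, u * v ∈ P := by
      intro u hu v hv
      rw [hmem] at hu hv ⊢
      have hxy : ∀ w : V, x * (x * w) = w := fun w => by rw [← mul_assoc, h2, one_mul]
      rcases hu with rfl | rfl | rfl | rfl <;> rcases hv with rfl | rfl | rfl | rfl <;>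
        simp [h2, hxy, mul_comm, mul_left_comm]
    have hdisj : Disjoint P (P.image (y * ·)) := by
      rw [Finset.disjoint_left]
      intro v hv hv'
      obtain ⟨q, hq, rfl⟩ := Finset.mem_image.mp hv'
      have := hclosed _ hv q hq
      rw [mul_assoc, h2, mul_one] at this
      exact hy this
    have hcover : P ∪ P.image (y * ·) = Finset.univ := by
      refine Finset.eq_univ_of_card _ ?_
      rw [Finset.card_union_of_disjoint hdisj, Finset.card_image_of_injective _ (mul_right_injective y), hPcard, hcard]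
    have hfy : f y ∈ P.image (y * ·) := by
      rcases Finset.mem_union.mp (hcover ▸ Finset.mem_univ (f y)) with h | h
      · refine absurd ?_ hy
        rcases Finset.mem_insert.mp h with h | h
        · exact Finset.mem_insert.mpr (Or.inl (hinj (h.trans (map_one f).symm)))
        · exact Finset.mem_insert_of_mem ((hfO y).mp h)
      · exact h
    obtain ⟨p, hp, hfy⟩ := Finset.mem_image.mp hfy
    obtain ⟨q, hq, hqp⟩ : ∃ q ∈ P, f q * q = p := by
      rcases (hmem p).mp hp with h | h | h | h <;> simp only [h]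
      · exact ⟨1, (hmem _).mpr (Or.inl rfl), by simp⟩
      · exact ⟨f x, (hmem _).mpr (Or.inr (Or.inr (Or.inl rfl))), by rw [e1, mul_assoc, h2, mul_one]⟩
      · exact ⟨x * f x, (hmem _).mpr (Or.inr (Or.inr (Or.inr rfl))), by
          rw [← e1, h3, e1, ← mul_assoc, h2, one_mul]⟩
      · exact ⟨x, (hmem _).mpr (Or.inr (Or.inl rfl)), mul_comm _ _⟩
    have h1 : y * q = 1 := hfix _ (by
      rw [map_mul, ← hfy, ← hqp, mul_assoc, mul_assoc (f q), mul_comm q (f q), ← mul_assoc (f q), h2, one_mul])
    refine hy ?_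
    have : y = q := by rw [← mul_one y, ← h2 q, ← mul_assoc, h1, one_mul]
    rwa [this]
  · -- an invariant pair
    exfalso
    obtain ⟨u, w, huw, hR⟩ := Finset.card_eq_two.mp (show (((Finset.univ : Finset V).erase 1) \ O).card = 2 by
      rw [Finset.card_sdiff_of_subset hOsub, herase, hOcard])
    have hfR : ∀ v ∈ ((Finset.univ : Finset V).erase 1) \ O, f v ∈ ((Finset.univ : Finset V).erase 1) \ O := by
      intro v hv
      simp only [Finset.mem_sdiff, Finset.mem_erase, Finset.mem_univ, and_true] at hv ⊢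
      exact ⟨fun h => hv.1 (hinj (h.trans (map_one f).symm)), fun h => hv.2 ((hfO v).mp h)⟩
    rw [hR] at hfR
    have hu1 : u ≠ 1 := by
      have : u ∈ ((Finset.univ : Finset V).erase 1) \ O := hR ▸ Finset.mem_insert_self _ _
      exact (Finset.mem_erase.mp (Finset.mem_sdiff.mp this).1).1
    have hu : f u = w := by
      rcases Finset.mem_insert.mp (hfR u (Finset.mem_insert_self _ _)) with h | h
      · exact absurd (hfix u h) hu1
      · exact Finset.mem_singleton.mp h
    have hw : f w = u := by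
      rcases Finset.mem_insert.mp (hfR w (Finset.mem_insert_of_mem (Finset.mem_singleton_self _))) with h | h
      · exact h
      · exact absurd (hinj (hu.trans (Finset.mem_singleton.mp h).symm)) huw
    obtain ⟨j, hj⟩ := hn
    have h2p : ∀ i, f^[2 * i] u = u := by
      intro i
      induction i with
      | zero => rfl
      | succ i ih => rw [Nat.mul_succ, Function.iterate_add_apply]; show f^[2 * i] (f (f u)) = u; rw [hu, hw, ih]
    have h3 := hper u
    rw [hj] at h3
    have h4 : f (f^[2 * j] u) = u := (Function.iterate_succ_apply' f (2 * j) u).symm.trans h3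
    rw [h2p] at h4
    exact hu1 (hfix u h4)
  · refine ⟨hk7' ▸ hkx, fun v hv => ?_⟩
    have hOeq : O = (Finset.univ : Finset V).erase 1 :=
      Finset.eq_of_subset_of_card_le hOsub (by rw [herase, hOcard, hk7'])
    obtain ⟨i, hi, e⟩ := Finset.mem_image.mp (hOeq.ge (Finset.mem_erase.mpr ⟨hv, Finset.mem_univ v⟩))
    exact ⟨i, by rw [← hk7']; exact Finset.mem_range.mp hi, e⟩

/-- The lemma. -/
theorem key_odd {Q : Type u} [Group Q] [Finite Q] (hQ : IsPGroup 2 Q) (hna : ¬ ∀ x y : Q, x * y = y * x)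
    (h8 : (frattini Q).index ≤ 8) (γ : MulAut Q) (hodd : Odd (orderOf γ)) (hne : γ ≠ 1)
    (hfix : ∀ x ∈ frattini Q, γ x = x) :
    ∃ ζ : Q, (∀ x y : Q, ⁅x, y⁆ = 1 ∨ ⁅x, y⁆ = ζ) ∧ ∃ x, γ x * x⁻¹ ∉ Subgroup.center Q := by
  classical
  haveI : Fact (Nat.Prime 2) := ⟨Nat.prime_two⟩
  obtain ⟨ev, hev⟩ := hQ.exists_card_eq
  set n := orderOf γ with hn
  have hcomm : ∀ x y : Q, ⁅x, y⁆ ∈ frattini Q := fun x y =>
    CfsgLib.commutator_le_frattini_pGroup hQ (Subgroup.commutator_mem_commutator (Subgroup.mem_top x) (Subgroup.mem_top y))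
  have hsq : ∀ x : Q, x * x ∈ frattini Q := fun x => by
    rw [← pow_two]; exact CfsgLib.pow_mem_frattini_pGroup hQ x
  -- a fixed displacement is trivial
  have hdisp : ∀ x φ : Q, γ x = x * φ → γ φ = φ → φ = 1 := by
    intro x φ hx hφ
    have hit : ∀ m : ℕ, (γ ^ m) x = x * φ ^ m := by
      intro m
      induction m with
      | zero => simp
      | succ m ih => rw [pow_succ', MulAut.mul_apply, ih, map_mul, map_pow, hφ, hx, pow_succ', mul_assoc]
    have h1 := hit n
    rw [pow_orderOf_eq_one, MulAut.one_apply, eq_comm, mul_eq_left] at h1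
    have h2 : orderOf φ ∣ 2 ^ ev := hev ▸ orderOf_dvd_natCard φ
    exact orderOf_eq_one_iff.mp (Nat.eq_one_of_dvd_coprimes ((Nat.coprime_two_right.mpr hodd).pow_right ev)
      (orderOf_dvd_of_pow_eq_one h1) h2)
  let C : Subgroup Q := MonoidHom.eqLocus γ.toMonoidHom (MonoidHom.id Q)
  have hC : ∀ x, x ∈ C ↔ γ x = x := fun x => Iff.rfl
  have hΦC : frattini Q ≤ C := hfix
  haveI : C.Normal := ⟨fun f hf g => by
    rw [show g * f * g⁻¹ = ⁅g, f⁆ * f by rw [commutatorElement_def]; group]
    exact mul_mem (hΦC (hcomm g f)) hf⟩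
  set d : Q → Q := fun x => x⁻¹ * γ x with hd
  have hγd : ∀ x, γ x = x * d x := fun x => (mul_inv_cancel_left x _).symm
  have hdC : ∀ x, d x ∈ C → x ∈ C := fun x h => by
    rw [hC]
    rw [hγd x, hdisp x (d x) (hγd x) h, mul_one]
  have hdΦ : ∀ x, ∀ v ∈ frattini Q, Commute (d x) v := by
    intro x v hv
    have h1 := hfix _ ((inferInstance : (frattini Q).Normal).conj_mem v hv x)
    rw [map_mul, map_mul, map_inv, hfix v hv, hγd] at h1
    show d x * v = v * d x
    have h2 : d x * v * (d x)⁻¹ = v := by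
      have := congrArg (fun z => x⁻¹ * z * x) h1
      simpa [mul_assoc] using this
    exact mul_inv_eq_iff_eq_mul.mp h2
  have hdf : ∀ x, ∀ f ∈ C, Commute (d x) f := by
    intro x f hf
    have h1 := hfix _ (hcomm f x)
    rw [map_commutatorElement, (hC f).mp hf, hγd] at h1
    show d x * f = f * d x
    have h2 : d x * f⁻¹ * (d x)⁻¹ = f⁻¹ := by
      have := congrArg (fun z => x⁻¹ * (f⁻¹ * z) * x) h1
      simpa [commutatorElement_def, mul_assoc] using this
    have h3 := mul_inv_eq_iff_eq_mul.mp h2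
    calc d x * f = f * (f⁻¹ * d x) * f := by group
      _ = f * (d x * f⁻¹) * f := by rw [h3]
      _ = f * d x := by group
  -- every element is a displacement times a fixed element
  set π := QuotientGroup.mk' C with hπ
  have hπc : ∀ u v : Q ⧸ C, u * v = v * u := by
    intro u v
    obtain ⟨x, rfl⟩ := QuotientGroup.mk'_surjective C u
    obtain ⟨y, rfl⟩ := QuotientGroup.mk'_surjective C v
    rw [← commutatorElement_eq_one_iff_mul_comm, ← map_commutatorElement]
    exact (QuotientGroup.eq_one_iff _).mpr (hΦC (hcomm x y))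
  letI : CommGroup (Q ⧸ C) := { (inferInstance : Group (Q ⧸ C)) with mul_comm := hπc }
  let γb : Q ⧸ C →* Q ⧸ C := QuotientGroup.map C C γ.toMonoidHom fun f hf => by
    show γ (γ f) = γ f
    rw [(hC f).mp hf]
    exact hf
  have hγb : ∀ x, γb (π x) = π (γ x) := fun x => rfl
  have hπ2 : ∀ u : Q ⧸ C, u * u = 1 := by
    intro u
    obtain ⟨x, rfl⟩ := QuotientGroup.mk'_surjective C u
    rw [← map_mul]
    exact (QuotientGroup.eq_one_iff _).mpr (hΦC (hsq x))
  have hfpf : ∀ u : Q ⧸ C, γb u = u → u = 1 := by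
    intro u
    obtain ⟨x, rfl⟩ := QuotientGroup.mk'_surjective C u
    intro h
    refine (QuotientGroup.eq_one_iff x).mpr (hdC x ?_)
    exact QuotientGroup.eq.mp h.symm
  let δ : Q ⧸ C →* Q ⧸ C :=
    { toFun := fun u => u⁻¹ * γb u
      map_one' := by simp
      map_mul' := fun u v => by rw [map_mul, mul_inv, mul_mul_mul_comm] }
  have hδs : Function.Surjective δ := by
    refine Finite.surjective_of_injective ((injective_iff_map_eq_one δ).mpr fun u hu => hfpf u ?_)
    exact (inv_mul_eq_one.mp hu).symm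
  have hcover : ∀ x : Q, ∃ y f, f ∈ C ∧ x = d y * f := by
    intro x
    obtain ⟨u, hu⟩ := hδs (π x)
    obtain ⟨y, rfl⟩ := QuotientGroup.mk'_surjective C u
    have h1 : π (d y) = π x := by rw [← hu, hd, map_mul, map_inv, ← hγb]; rfl
    exact ⟨y, (d y)⁻¹ * x, QuotientGroup.eq.mp h1, (mul_inv_cancel_left _ _).symm⟩
  -- the index of `C`
  have hmul : (frattini Q).relIndex C * C.index = (frattini Q).index := Subgroup.relIndex_mul_index hΦC
  obtain ⟨p₀, hp₀⟩ : ∃ p₀, p₀ ∉ C := by
    by_contra h
    push Not at h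
    exact hne (MulEquiv.ext fun x => (hC x).mp (h x))
  have hV : Nat.card (Q ⧸ C) = C.index := rfl
  have hp₁ : π p₀ ≠ 1 := fun h => hp₀ ((QuotientGroup.eq_one_iff p₀).mp h)
  have hp₂ : γb (π p₀) ≠ π p₀ := fun h => hp₁ (hfpf _ h)
  have hp₃ : γb (π p₀) ≠ 1 := fun h => hp₂ (by
    rw [h]
    exact (hfpf (π p₀) (by
      by_contra hne'
      exact hp₁ (((injective_iff_map_eq_one δ).mp (Finite.injective_iff_surjective.mpr hδs)) _ (by
        exfalso
        have hiter : γb^[n] (π p₀) = π p₀ := by
          have hit : ∀ m : ℕ, γb^[m] (π p₀) = π ((γ ^ m) p₀) := by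
            intro m
            induction m with
            | zero => rfl
            | succ m ih => rw [Function.iterate_succ_apply', ih, hγb, pow_succ', MulAut.mul_apply]
          rw [hit, pow_orderOf_eq_one]; rfl
        obtain ⟨m, hm⟩ : ∃ m, n = m + 1 := ⟨n - 1, by have := hodd.pos; omega⟩
        rw [hm, Function.iterate_succ_apply, h, iterate_map_one] at hiter
        exact hp₁ hiter.symm)))).symm)
  obtain ⟨j, hj, hjc⟩ : ∃ j, 2 ≤ j ∧ C.index = 2 ^ j := by
    obtain ⟨j, -, hj⟩ := (Nat.dvd_prime_pow Nat.prime_two).mp (hev ▸ Subgroup.index_dvd_card C)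
    refine ⟨j, ?_, hj⟩
    by_contra hlt
    have hle : Nat.card (Q ⧸ C) ≤ 2 := by
      rw [hV, hj]
      calc 2 ^ j ≤ 2 ^ 1 := Nat.pow_le_pow_right two_pos (by omega)
        _ = 2 := rfl
    haveI : Fintype (Q ⧸ C) := Fintype.ofFinite _
    rw [Nat.card_eq_fintype_card] at hle
    have h3 := Finset.card_le_univ ({1, π p₀, γb (π p₀)} : Finset (Q ⧸ C))
    rw [Finset.card_insert_of_notMem (by simp [hp₁.symm, hp₃.symm]),
      Finset.card_pair hp₂.symm] at h3
    omega
  have hj3 : j ≤ 3 := by
    have h1 : C.index ≤ 8 := by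
      refine le_trans ?_ h8
      rw [← hmul]
      refine Nat.le_mul_of_pos_left _ (Nat.pos_of_ne_zero fun h => ?_)
      rw [h, zero_mul] at hmul
      exact Subgroup.index_ne_zero_of_finite hmul.symm
    rw [hjc] at h1
    exact (Nat.pow_le_pow_iff_right one_lt_two).mp (h1.trans_eq (by norm_num : (8 : ℕ) = 2 ^ 3))
  -- `C` is central
  obtain ⟨z, hz, hzgen⟩ : ∃ z ∈ C, ∀ f ∈ C, f ∈ frattini Q ∨ z⁻¹ * f ∈ frattini Q := by
    by_cases hCΦ : ∀ f ∈ C, f ∈ frattini Q
    · exact ⟨1, one_mem C, fun f hf => Or.inl (hCΦ f hf)⟩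
    push Not at hCΦ
    obtain ⟨z, hz, hzΦ⟩ := hCΦ
    refine ⟨z, hz, fun f hf => ?_⟩
    have hr2 : (frattini Q).relIndex C ≤ 2 := by
      have h4 : 4 ≤ C.index := by
        rw [hjc]
        exact le_trans (by norm_num) (Nat.pow_le_pow_right two_pos hj)
      by_contra h
      have : 3 * 4 ≤ (frattini Q).relIndex C * C.index := Nat.mul_le_mul (by omega) h4
      omega
    by_contra hcon
    push Not at hcon
    haveI : Fintype (C ⧸ (frattini Q).subgroupOf C) := Fintype.ofFinite _
    have hr' : Fintype.card (C ⧸ (frattini Q).subgroupOf C) ≤ 2 := by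
      rw [← Nat.card_eq_fintype_card]; exact hr2
    have h3 := Finset.card_le_univ ({QuotientGroup.mk 1, QuotientGroup.mk ⟨z, hz⟩, QuotientGroup.mk ⟨f, hf⟩} :
      Finset (C ⧸ (frattini Q).subgroupOf C))
    rw [Finset.card_insert_of_notMem, Finset.card_pair] at h3
    · omega
    · exact fun h => hcon.2 (by simpa [Subgroup.mem_subgroupOf] using QuotientGroup.eq.mp h)
    · simp only [Finset.mem_insert, Finset.mem_singleton, not_or]
      exact ⟨fun h => hzΦ (by simpa [Subgroup.mem_subgroupOf] using QuotientGroup.eq.mp h),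
        fun h => hcon.1 (by simpa [Subgroup.mem_subgroupOf] using QuotientGroup.eq.mp h)⟩
  have htop : Subgroup.closure (Set.range d ∪ {z}) = ⊤ := frattini_nongenerating (by
    rw [eq_top_iff]
    intro x _
    obtain ⟨y, f, hf, rfl⟩ := hcover x
    refine mul_mem (Subgroup.mem_sup_left (Subgroup.subset_closure (Or.inl ⟨y, rfl⟩))) ?_
    rcases hzgen f hf with h | h
    · exact Subgroup.mem_sup_right h
    · have := mul_mem (Subgroup.mem_sup_left (T := frattini Q)
        (Subgroup.subset_closure (k := Set.range d ∪ {z}) (Or.inr rfl)))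
        (Subgroup.mem_sup_right (S := Subgroup.closure (Set.range d ∪ {z})) h)
      rwa [mul_inv_cancel_left] at this)
  have hcent : ∀ v : Q, (∀ y, Commute (d y) v) → Commute z v → v ∈ Subgroup.center Q := by
    intro v h1 h2
    rw [Subgroup.mem_center_iff]
    intro g
    have hle : Subgroup.closure (Set.range d ∪ {z}) ≤ Subgroup.centralizer ({v} : Set Q) := by
      rw [Subgroup.closure_le]
      rintro _ (⟨y, rfl⟩ | rfl)
      · exact Subgroup.mem_centralizer_singleton_iff.mpr (h1 y).eq
      · exact Subgroup.mem_centralizer_singleton_iff.mpr h2.eq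
    exact Subgroup.mem_centralizer_singleton_iff.mp (hle (htop ▸ Subgroup.mem_top g))
  have hzZ : z ∈ Subgroup.center Q := hcent z (fun y => hdf y z hz) (Commute.refl z)
  have hCZ : C ≤ Subgroup.center Q := fun f hf =>
    hcent f (fun y => hdf y f hf) ((Subgroup.mem_center_iff.mp hzZ f).symm)
  have hbr : ∀ {x x' y y' : Q}, π x = π x' → π y = π y' → ⁅x, y⁆ = ⁅x', y'⁆ := by
    intro x x' y y' hx hy
    obtain ⟨f, hf, rfl⟩ : ∃ f ∈ C, x' = x * f := ⟨x⁻¹ * x', QuotientGroup.eq.mp hx, (mul_inv_cancel_left _ _).symm⟩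
    obtain ⟨f', hf', rfl⟩ : ∃ f' ∈ C, y' = y * f' := ⟨y⁻¹ * y', QuotientGroup.eq.mp hy, (mul_inv_cancel_left _ _).symm⟩
    have c1 := Subgroup.mem_center_iff.mp (hCZ hf)
    have c2 := Subgroup.mem_center_iff.mp (hCZ hf')
    have s1 : ⁅x * f, y * f'⁆ = ⁅x, y * f'⁆ := by
      rw [commutatorElement_def, commutatorElement_def, mul_assoc x f, ← c1 (y * f')]; group
    have s2 : ⁅x, y * f'⁆ = ⁅x, y⁆ := by
      calc ⁅x, y * f'⁆ = x * y * (f' * x⁻¹) * f'⁻¹ * y⁻¹ := by rw [commutatorElement_def]; group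
        _ = x * y * (x⁻¹ * f') * f'⁻¹ * y⁻¹ := by rw [← c2 x⁻¹]
        _ = ⁅x, y⁆ := by rw [commutatorElement_def]; group
    rw [s1, s2]
  have hinv : ∀ x y : Q, ⁅x, y⁆ = ⁅y, x⁆ := by
    intro x y
    have hc := Subgroup.mem_center_iff.mp (hCZ (hΦC (hsq x))) y
    have hq := Subgroup.mem_center_iff.mp (hCZ (hΦC (hcomm x y))) x
    have h2 : ⁅x, y⁆ * ⁅x, y⁆ = 1 := by
      calc ⁅x, y⁆ * ⁅x, y⁆ = x * ⁅x, y⁆ * (y * x⁻¹ * y⁻¹) := by
            rw [hq, commutatorElement_def]; group
        _ = (x * x) * y * (x * x)⁻¹ * y⁻¹ := by rw [commutatorElement_def]; group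
        _ = 1 := by rw [← hc]; group
    rw [← commutatorElement_inv y x]
    exact inv_eq_of_mul_eq_one_left (by
      rw [← commutatorElement_inv x y, ← mul_inv_rev, h2, inv_one])
  have hnotcent : ∃ x, γ x * x⁻¹ ∉ Subgroup.center Q := by
    by_contra h
    push Not at h
    refine hna fun x y => ?_
    have hdZ : ∀ y, d y ∈ Subgroup.center Q := fun y => by
      have h1 := (inferInstance : (Subgroup.center Q).Normal).conj_mem _ (h y) y⁻¹
      rwa [show y⁻¹ * (γ y * y⁻¹) * y⁻¹⁻¹ = d y by rw [hd]; group] at h1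
    obtain ⟨t, f, hf, rfl⟩ := hcover y
    exact Subgroup.mem_center_iff.mp (mul_mem (hdZ t) (hCZ hf)) x
  have hequiv : ∀ x y : Q, ⁅γ x, γ y⁆ = ⁅x, y⁆ := fun x y => by
    rw [← map_commutatorElement]; exact hfix _ (hcomm x y)
  refine Exists.elim (?_ : ∃ ζ : Q, ∀ x y : Q, ⁅x, y⁆ = 1 ∨ ⁅x, y⁆ = ζ) fun ζ hζ => ⟨ζ, hζ, hnotcent⟩
  obtain rfl | rfl : j = 2 ∨ j = 3 := by omega
  · -- four cosets
    haveI : Fintype (Q ⧸ C) := Fintype.ofFinite _
    have hc4 : Fintype.card (Q ⧸ C) = 4 := by rw [← Nat.card_eq_fintype_card, hV, hjc]; rfl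
    have hp₄ : π (p₀ * γ p₀) ≠ 1 ∧ π (p₀ * γ p₀) ≠ π p₀ ∧ π (p₀ * γ p₀) ≠ γb (π p₀) := by
      rw [map_mul, ← hγb]
      refine ⟨fun h => hp₂ ?_, fun h => hp₃ (mul_eq_left.mp h), fun h => hp₁ (mul_eq_right.mp h)⟩
      rw [← mul_one (γb (π p₀)), ← hπ2 (π p₀), ← mul_assoc, mul_comm (γb (π p₀)), h, one_mul]
    have hall : ∀ x, π x = 1 ∨ π x = π p₀ ∨ π x = π (γ p₀) ∨ π x = π (p₀ * γ p₀) := by
      intro x
      have huniv : ({1, π p₀, γb (π p₀), π (p₀ * γ p₀)} : Finset (Q ⧸ C)) = Finset.univ := by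
        refine Finset.eq_univ_of_card _ ?_
        rw [hc4, Finset.card_insert_of_notMem, Finset.card_insert_of_notMem, Finset.card_pair]
        · exact hp₄.2.2.symm
        · simp only [Finset.mem_insert, Finset.mem_singleton, not_or]
          exact ⟨hp₂.symm, hp₄.2.1.symm⟩
        · simp only [Finset.mem_insert, Finset.mem_singleton, not_or]
          exact ⟨hp₁.symm, hp₃.symm, hp₄.1.symm⟩
      have := huniv ▸ Finset.mem_univ (π x)
      simpa [hγb] using this
    refine ⟨⁅p₀, γ p₀⁆, fun x y => ?_⟩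
    have hone : ∀ t : Q, ⁅(1 : Q), t⁆ = 1 := commutatorElement_one_left
    have e1 : ⁅p₀, p₀ * γ p₀⁆ = ⁅p₀, γ p₀⁆ := by
      have hq := Subgroup.mem_center_iff.mp (hCZ (hΦC (hcomm p₀ (γ p₀)))) p₀
      calc ⁅p₀, p₀ * γ p₀⁆ = p₀ * ⁅p₀, γ p₀⁆ * p₀⁻¹ := by simp only [commutatorElement_def]; group
        _ = _ := by rw [hq, mul_inv_cancel_right]
    have e2 : ⁅γ p₀, p₀ * γ p₀⁆ = ⁅p₀, γ p₀⁆ := by
      rw [hinv p₀ (γ p₀)]; simp only [commutatorElement_def]; group
    rcases hall x with hx | hx | hx | hx <;> rcases hall y with hy | hy | hy | hy <;>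
      (try rw [← map_one π] at hx) <;> (try rw [← map_one π] at hy) <;> rw [hbr hx hy] <;>
      first
        | (left; simp)
        | (right; rfl)
        | (right; exact hinv _ _)
        | (right; exact e1)
        | (right; exact e2)
        | (right; rw [hinv]; exact e1)
        | (right; rw [hinv]; exact e2)
  · -- eight cosets
    have hit : ∀ (m : ℕ) (x : Q), γb^[m] (π x) = π ((γ ^ m) x) := by
      intro m x
      induction m with
      | zero => rfl
      | succ m ih => rw [Function.iterate_succ_apply', ih, hγb, pow_succ', MulAut.mul_apply]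
    obtain ⟨h7, htr⟩ := fpf_transitive (hV.trans hjc) hπ2 γb hodd
      (fun v => by
        obtain ⟨x, rfl⟩ := QuotientGroup.mk'_surjective C v
        rw [hit, pow_orderOf_eq_one]; rfl) hfpf hp₁
    rw [hit] at h7
    have hmod : ∀ m : ℕ, π ((γ ^ m) p₀) = π ((γ ^ (m % 7)) p₀) := by
      intro m
      induction m using Nat.strong_induction_on with
      | _ m ih =>
        rcases Nat.lt_or_ge m 7 with h | h
        · rw [Nat.mod_eq_of_lt h]
        · rw [Nat.mod_eq_sub_mod h, ← ih (m - 7) (by omega)]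
          conv_lhs => rw [← Nat.sub_add_cancel h, pow_add, MulAut.mul_apply, ← hit, h7, hit]
    set g : ℕ → Q := fun i => ⁅p₀, (γ ^ i) p₀⁆ with hg
    have hshift : ∀ i k : ℕ, i < 7 → k < 7 → ⁅(γ ^ i) p₀, (γ ^ k) p₀⁆ = g ((k + 7 - i) % 7) := by
      intro i k hi hk
      have hgen : ∀ (m : ℕ) (u v : Q), ⁅(γ ^ m) u, (γ ^ m) v⁆ = ⁅u, v⁆ := by
        intro m u v
        induction m with
        | zero => rfl
        | succ m ih => rw [pow_succ', MulAut.mul_apply, MulAut.mul_apply, hequiv, ih]
      rw [hg]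
      dsimp only
      rw [← hgen i p₀]
      refine hbr rfl ?_
      rw [← MulAut.mul_apply, ← pow_add, hmod, hmod (i + _)]
      congr 3
      omega
    have hsym : ∀ i, 1 ≤ i → i < 7 → g i = g (7 - i) := by
      intro i h1 h2
      have := hshift i 0 h2 (by norm_num)
      rw [show (0 + 7 - i) % 7 = 7 - i by omega, pow_zero, MulAut.one_apply, hinv] at this
      exact this
    have hrel : ∀ i, 1 ≤ i → i < 7 → ∃ m, 1 ≤ m ∧ m < 7 ∧ m ≠ i ∧ g m = g i ∧ g ((m + 7 - i) % 7) = g i := by
      intro i h1 h2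
      have hne1 : π ((γ ^ i) p₀) ≠ π p₀ := by
        intro h
        have hh : γb^[i] (π p₀) = π p₀ := by rw [hit]; exact h
        have : γb (π p₀) = π p₀ := by
          have hp7 : γb^[7] (π p₀) = π p₀ := by rw [hit]; exact h7
          have hd1 := Function.IsPeriodicPt.gcd hh hp7
          rwa [show Nat.gcd i 7 = 1 by interval_cases i <;> rfl] at hd1
        exact hp₂ this
      have hne2 : π (p₀ * (γ ^ i) p₀) ≠ 1 := by
        rw [map_mul]
        intro h
        exact hne1 (by rw [← mul_one (π ((γ ^ i) p₀)), ← hπ2 (π p₀), ← mul_assoc, mul_comm (π ((γ ^ i) p₀)), h, one_mul])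
      obtain ⟨m, hm, e⟩ := htr _ hne2
      rw [hit] at e
      have em : ⁅p₀, p₀ * (γ ^ i) p₀⁆ = g i := by
        have hq := Subgroup.mem_center_iff.mp (hCZ (hΦC (hcomm p₀ ((γ ^ i) p₀)))) p₀
        calc ⁅p₀, p₀ * (γ ^ i) p₀⁆ = p₀ * ⁅p₀, (γ ^ i) p₀⁆ * p₀⁻¹ := by simp only [commutatorElement_def]; group
          _ = _ := by rw [hq, mul_inv_cancel_right]
      have em' : ⁅(γ ^ i) p₀, p₀ * (γ ^ i) p₀⁆ = g i := by
        rw [hg]; simp only
        rw [hinv p₀ ((γ ^ i) p₀)]; simp only [commutatorElement_def]; group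
      refine ⟨m, ?_, hm, ?_, ?_, ?_⟩
      · rcases Nat.eq_zero_or_pos m with rfl | h
        · rw [pow_zero, MulAut.one_apply, map_mul, eq_comm, mul_eq_left] at e
          refine absurd ?_ hp₁
          have hi : (γb^[i]) (π p₀) = (γb^[i]) 1 := by rw [hit, e, iterate_map_one]
          exact (Function.Injective.iterate
            (fun u v huv => by
              have h7' : ∀ w : Q ⧸ C, γb^[orderOf γ] w = w := fun w => by
                obtain ⟨x, rfl⟩ := QuotientGroup.mk'_surjective C w
                rw [hit, pow_orderOf_eq_one]; rfl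
              obtain ⟨l, hl⟩ : ∃ l, orderOf γ = l + 1 := ⟨orderOf γ - 1, by have := hodd.pos; omega⟩
              rw [← h7' u, ← h7' v, hl, Function.iterate_succ_apply, Function.iterate_succ_apply, huv]) i) hi
        · exact h
      · rintro rfl
        rw [map_mul, eq_comm, mul_eq_right] at e
        exact hp₁ e
      · rw [← em]; exact hbr rfl e
      · rw [← hshift i m h2 hm, ← em']; exact hbr rfl e
    have h12 : g 1 = g 2 ∧ g 1 = g 3 := by
      have s4 := hsym 4 (by norm_num) (by norm_num)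
      have s5 := hsym 5 (by norm_num) (by norm_num)
      have s6 := hsym 6 (by norm_num) (by norm_num)
      norm_num at s4 s5 s6
      have r1 : g 1 = g 2 ∨ g 1 = g 3 := by
        obtain ⟨m, hm1, hm7, hmi, e1, e2⟩ := hrel 1 (by norm_num) (by norm_num)
        interval_cases m <;> (first | exact absurd rfl hmi | skip) <;> norm_num at e1 e2 <;>
          (try simp only [s4, s5, s6] at e1 e2) <;>
          (first | exact Or.inl e1 | exact Or.inl e1.symm | exact Or.inr e1 | exact Or.inr e1.symm |
            exact Or.inl e2 | exact Or.inl e2.symm | exact Or.inr e2 | exact Or.inr e2.symm)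
      have r2 : g 1 = g 2 ∨ g 2 = g 3 := by
        obtain ⟨m, hm1, hm7, hmi, e1, e2⟩ := hrel 2 (by norm_num) (by norm_num)
        interval_cases m <;> (first | exact absurd rfl hmi | skip) <;> norm_num at e1 e2 <;>
          (try simp only [s4, s5, s6] at e1 e2) <;>
          (first | exact Or.inl e1 | exact Or.inl e1.symm | exact Or.inr e1 | exact Or.inr e1.symm |
            exact Or.inl e2 | exact Or.inl e2.symm | exact Or.inr e2 | exact Or.inr e2.symm)
      have r3 : g 1 = g 3 ∨ g 2 = g 3 := by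
        obtain ⟨m, hm1, hm7, hmi, e1, e2⟩ := hrel 3 (by norm_num) (by norm_num)
        interval_cases m <;> (first | exact absurd rfl hmi | skip) <;> norm_num at e1 e2 <;>
          (try simp only [s4, s5, s6] at e1 e2) <;>
          (first | exact Or.inl e1 | exact Or.inl e1.symm | exact Or.inr e1 | exact Or.inr e1.symm |
            exact Or.inl e2 | exact Or.inl e2.symm | exact Or.inr e2 | exact Or.inr e2.symm)
      rcases r1 with r1 | r1
      · rcases r3 with r3 | r3
        · exact ⟨r1, r3⟩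
        · exact ⟨r1, r1.trans r3⟩
      · rcases r2 with r2 | r2
        · exact ⟨r2, r1⟩
        · exact ⟨r1.trans r2.symm, r1⟩
    have hg0 : g 0 = 1 := by rw [hg]; simp
    have hall : ∀ i < 7, g i = 1 ∨ g i = g 1 := by
      intro i hi
      interval_cases i
      · exact Or.inl hg0
      · exact Or.inr rfl
      · exact Or.inr h12.1.symm
      · exact Or.inr h12.2.symm
      · exact Or.inr ((hsym 4 (by norm_num) (by norm_num)).trans h12.2.symm)
      · exact Or.inr ((hsym 5 (by norm_num) (by norm_num)).trans h12.1.symm)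
      · exact Or.inr (hsym 6 (by norm_num) (by norm_num))
    refine ⟨g 1, fun x y => ?_⟩
    have hclass : ∀ x, π x = π 1 ∨ ∃ i < 7, π x = π ((γ ^ i) p₀) := by
      intro x
      by_cases hx : π x = 1
      · exact Or.inl (hx.trans (map_one π).symm)
      · obtain ⟨i, hi, e⟩ := htr _ hx
        exact Or.inr ⟨i, hi, by rw [← e, hit]⟩
    rcases hclass x with hx | ⟨i, hi, hx⟩ <;> rcases hclass y with hy | ⟨k, hk, hy⟩ <;> rw [hbr hx hy]
    iterate 3 exact Or.inl (by simp)
    rw [hshift i k hi hk]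
    exact hall _ (Nat.mod_lt _ (by norm_num))

end CfsgLib.Bicyclic
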