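import Cfsg.Agent.Lib.Fusion.Bicyclic.Y
import Cfsg.Agent.Lib.Fusion.Bicyclic.Key
import Cfsg.Agent.Lib.RankFrattini
import Cfsg.Agent.Lib.Fusion.MetaType.Main
import Cfsg.Agent.S5212

/-!
What an essential subgroup provides, stated inside a `2`-group.
-/

set_option autoImplicit false
set_option linter.unusedSectionVars false
set_option linter.unusedVariables false
set_option linter.style.haveILetI false

namespace CfsgLib.Bicyclic

open scoped commutatorElement

universe u

variable {S : Type u} [Group S] [Finite S]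

/-- The data of an essential subgroup `Q` with automizer `H`. -/
structure Ess (Q : Subgroup S) (H : Subgroup (MulAut ↥Q)) : Prop where
  two : IsPGroup 2 S
  cent : Subgroup.centralizer (Q : Set S) ≤ Q
  ne_top : Q ≠ ⊤
  conj_mem : ∀ g : ↥(Subgroup.normalizer (Q : Set S)), Q.normalizerMonoidHom g ∈ H
  sylow : ∀ K : Subgroup (MulAut ↥Q), K ≤ H → IsPGroup 2 K →
    Nat.card K ≤ Nat.card Q.normalizerMonoidHom.range
  core : ∀ K : Subgroup (MulAut ↥Q), K ≤ H → (∀ α ∈ H, ∀ k ∈ K, α * k * α⁻¹ ∈ K) → IsPGroup 2 K →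
    ∀ k ∈ K, ∃ q : Q, k = MulAut.conj q
  exists_odd : ∃ γ ∈ H, Odd (orderOf γ) ∧ γ ≠ 1

namespace Ess

variable {Q : Subgroup S} {H : Subgroup (MulAut ↥Q)} (E : Ess Q H)

include E

theorem isPGroup : IsPGroup 2 Q := E.two.to_subgroup Q

theorem not_two_group : ¬ IsPGroup 2 (MulAut ↥Q) := by
  intro h
  obtain ⟨γ, -, hodd, hne⟩ := E.exists_odd
  obtain ⟨k, hk⟩ := h γ
  exact hne (orderOf_eq_one_iff.mp (Nat.eq_one_of_dvd_coprimes
    ((Nat.coprime_two_right.mpr hodd).pow_right k) dvd_rfl (orderOf_dvd_of_pow_eq_one hk)))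

/-- An element inducing an automorphism in an invariant subgroup without elements of odd order lies in `Q`. -/
theorem mem_of_stab (P : Subgroup (MulAut ↥Q)) (hP : ∀ α ∈ H, ∀ k ∈ P, α * k * α⁻¹ ∈ P)
    (hodd : ∀ k ∈ H, k ∈ P → Odd (orderOf k) → k = 1) {g : S} (hg : g ∈ Subgroup.normalizer (Q : Set S))
    (hgP : Q.normalizerMonoidHom ⟨g, hg⟩ ∈ P) : g ∈ Q := by
  haveI : Finite (MulAut ↥Q) := Finite.of_injective (fun f => (f : ↥Q → ↥Q)) DFunLike.coe_injective
  obtain ⟨q, hq⟩ := E.core (P ⊓ H) inf_le_right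
    (fun α hα k hk => ⟨hP α hα k hk.1, H.mul_mem (H.mul_mem hα hk.2) (H.inv_mem hα)⟩)
    (fun k => by
      obtain ⟨v, m, hm, hv⟩ := Nat.exists_eq_pow_mul_and_not_dvd (orderOf_pos (k : MulAut ↥Q)).ne' 2 (by norm_num)
      refine ⟨v, Subtype.ext (hodd _ ((H.pow_mem k.2.2) _) (P.pow_mem k.2.1 _) ?_)⟩
      rw [show ((k ^ 2 ^ v : ↥(P ⊓ H)) : MulAut ↥Q) = (k : MulAut ↥Q) ^ 2 ^ v from rfl,
        orderOf_pow' _ (pow_ne_zero _ two_ne_zero), hv, Nat.gcd_mul_right_left,
        Nat.mul_div_cancel_left _ (Nat.two_pow_pos _)]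
      exact Nat.odd_iff.2 (Nat.two_dvd_ne_zero.1 hm))
    _ ⟨hgP, E.conj_mem ⟨g, hg⟩⟩
  have hc : (q : S)⁻¹ * g ∈ Q := by
    refine E.cent (Subgroup.mem_centralizer_iff.mpr fun x hx => ?_)
    have h1 := congrArg (fun f : MulAut ↥Q => ((f ⟨x, hx⟩ : ↥Q) : S)) hq
    simp only [Subgroup.normalizerMonoidHom, MulAut.conj_apply] at h1
    have h2 : g * x * g⁻¹ = (q : S) * x * (q : S)⁻¹ := h1
    calc x * ((q : S)⁻¹ * g) = (q : S)⁻¹ * ((q : S) * x * (q : S)⁻¹) * g := by group
      _ = (q : S)⁻¹ * (g * x * g⁻¹) * g := by rw [h2]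
      _ = (q : S)⁻¹ * g * x := by group
  have := mul_mem q.2 hc
  rwa [mul_inv_cancel_left] at this

/-- For `Q` abelian: an element normalizing `Q` and fixing its involutions lies in `Q`, if these form
an invariant set. -/
theorem mem_of_fix_invol (hab : ∀ x y : ↥Q, x * y = y * x) {g : S} (hg : g ∈ Subgroup.normalizer (Q : Set S))
    (hfix : ∀ x ∈ Q, x * x = 1 → g * x = x * g) : g ∈ Q := by
  let P : Subgroup (MulAut ↥Q) :=
    { carrier := {α | ∀ x : ↥Q, x * x = 1 → α x = x}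
      one_mem' := fun x _ => rfl
      mul_mem' := fun {α β} hα hβ x hx => by
        show α (β x) = x
        rw [hβ x hx, hα x hx]
      inv_mem' := fun {α} hα x hx => by
        conv_lhs => rw [← hα x hx]
        exact α.symm_apply_apply x }
  refine E.mem_of_stab P (fun α hα k hk x hx => ?_) (fun k hkH hk hodd => ?_) hg fun x hx => Subtype.ext ?_
  · show α (k (α⁻¹ x)) = x
    rw [hk _ (by rw [← map_mul, hx, map_one])]
    exact α.apply_symm_apply x
  · exact Cfsg.Agent.S5212.eq_one_of_fix_involutions E.isPGroup hab k hodd hk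
  · show g * x * g⁻¹ = x
    rw [hfix x x.2 (congrArg Subtype.val hx), mul_inv_cancel_right]

end Ess

/-- A subgroup equal to its normalizer in an overgroup equals the overgroup. -/
theorem eq_of_normalizer_le (hS : IsPGroup 2 S) {Q M : Subgroup S} (hQM : Q ≤ M)
    (h : ∀ g ∈ M, g ∈ Subgroup.normalizer (Q : Set S) → g ∈ Q) : Q = M := by
  haveI : Fact (Nat.Prime 2) := ⟨Nat.prime_two⟩
  by_contra hne
  haveI : Group.IsNilpotent ↥M := (hS.to_subgroup M).isNilpotent
  have hlt : Q.subgroupOf M < ⊤ := lt_of_le_of_ne le_top fun e => hne (le_antisymm hQM (Subgroup.subgroupOf_eq_top.mp e))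
  have h2 := Group.normalizerCondition_of_isNilpotent (G := ↥M) _ hlt
  obtain ⟨g, hg, hgQ⟩ := SetLike.exists_of_lt h2
  refine hgQ (h g g.2 (Subgroup.mem_normalizer_iff.mpr fun x => ?_))
  by_cases hx : x ∈ M
  · exact Subgroup.mem_normalizer_iff.mp hg ⟨x, hx⟩
  · exact iff_of_false (fun h' => hx (hQM h')) fun h' => hx (by
      have h1 := M.mul_mem (M.mul_mem (M.inv_mem g.2) (hQM h')) g.2
      rwa [show (g : S)⁻¹ * ((g : S) * x * (g : S)⁻¹) * g = x by group] at h1)

/-- The Frattini quotient of a group with a metacyclic normal subgroup of index at most two. -/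
theorem frattini_index_le_eight {Q : Type u} [Group Q] [Finite Q] (hQ : IsPGroup 2 Q) {P : Subgroup Q}
    (hm : Cfsg.IsMetacyclic ↥P) (hi : P.index ≤ 2) : (frattini Q).index ≤ 8 := by
  haveI : Fact (Nat.Prime 2) := ⟨Nat.prime_two⟩
  have h1 : frattini ↥P ≤ (frattini Q).subgroupOf P :=
    CfsgLib.RankFrattini.frattini_le_of_elementary (hQ.to_subgroup P) _
      (fun x y => CfsgLib.commutator_le_frattini_pGroup hQ
        (Subgroup.commutator_mem_commutator (Subgroup.mem_top (x : Q)) (Subgroup.mem_top (y : Q))))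
      (fun x => CfsgLib.pow_mem_frattini_pGroup hQ (x : Q))
  have h2 : (frattini Q).relIndex P ≤ 4 := by
    have h3 := Cfsg.MetaType.index_frattini_le (hQ.to_subgroup P) hm
    exact (Nat.le_of_dvd (Nat.pos_of_ne_zero Subgroup.index_ne_zero_of_finite) (Subgroup.index_dvd_of_le h1)).trans
      (h3.trans_eq (by norm_num))
  have h4 : (frattini Q ⊓ P).index = (frattini Q).relIndex P * P.index := by
    rw [← Subgroup.relIndex_mul_index (inf_le_right : frattini Q ⊓ P ≤ P), Subgroup.inf_relIndex_right]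
  calc (frattini Q).index ≤ (frattini Q ⊓ P).index :=
        Nat.le_of_dvd (Nat.pos_of_ne_zero Subgroup.index_ne_zero_of_finite) (Subgroup.index_dvd_of_le inf_le_left)
    _ ≤ 4 * 2 := h4 ▸ Nat.mul_le_mul h2 hi
    _ = 8 := rfl

end CfsgLib.Bicyclic
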