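import Cfsg.Agent.Lib.Fusion.Bicyclic.Structure

/-!
Bicyclic non-metacyclic `2`-groups with non-cyclic derived subgroup, in multiplicative terms:
`W = Ω₁(S')` and the reflections in `b Φ(S)`.
-/

set_option autoImplicit false
set_option linter.unusedSectionVars false
set_option linter.unusedVariables false
set_option linter.style.haveILetI false

namespace CfsgLib.Bicyclic.Frame

open scoped commutatorElement

universe u

variable {S : Type u} [Group S] [Finite S] {a b : S}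

/-- `M = ⟨b⟩ Φ(S)`. -/
def M (_F : Frame a b) : Subgroup S := Subgroup.zpowers b ⊔ frattini S

variable (F : Frame a b)

/-- `W = Ω₁(S')`. -/
def W : Subgroup S where
  carrier := {s | s ∈ commutator S ∧ s * s = 1}
  one_mem' := ⟨one_mem _, one_mul 1⟩
  mul_mem' := by
    rintro s t ⟨hs, hs2⟩ ⟨ht, ht2⟩
    refine ⟨mul_mem hs ht, ?_⟩
    calc s * t * (s * t) = s * (t * s) * t := by group
      _ = s * (s * t) * t := by rw [F.comm_comm ht hs]
      _ = (s * s) * (t * t) := by group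
      _ = 1 := by rw [hs2, ht2, one_mul]
  inv_mem' := by
    rintro s ⟨hs, hs2⟩
    exact ⟨inv_mem hs, by rw [← mul_inv_rev, hs2, inv_one]⟩

theorem mem_W {s : S} : s ∈ F.W ↔ s ∈ commutator S ∧ s * s = 1 := Iff.rfl

instance W_normal : F.W.Normal :=
  ⟨fun s hs g => ⟨Subgroup.Normal.conj_mem inferInstance _ hs.1 g, by
    rw [show g * s * g⁻¹ * (g * s * g⁻¹) = g * (s * s) * g⁻¹ by group, hs.2, mul_one, mul_inv_cancel]⟩⟩

theorem val_mem_W {x : F.L} : F.val x ∈ F.W ↔ x + x = 0 := by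
  rw [mem_W, ← val_add, ← F.val_zero, and_iff_right (F.val_mem x)]
  exact F.val_injective.eq_iff

theorem frattini_le_M : frattini S ≤ F.M := le_sup_right

theorem b_mem_M : b ∈ F.M := Subgroup.mem_sup_left (Subgroup.mem_zpowers b)

theorem mem_M_iff {g : S} : g ∈ F.M ↔ g ∈ frattini S ∨ b⁻¹ * g ∈ frattini S := by
  constructor
  · intro hg
    have h' : g ∈ ((Subgroup.zpowers b ⊔ frattini S : Subgroup S) : Set S) := hg
    rw [Subgroup.mul_normal] at h'
    obtain ⟨u, hu, p, hp, rfl⟩ := h'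
    obtain ⟨j, rfl⟩ := Subgroup.mem_zpowers_iff.mp hu
    rcases Int.even_or_odd' j with ⟨k, rfl | rfl⟩
    · left
      rw [zpow_mul, zpow_ofNat]
      exact mul_mem (zpow_mem (F.sq_mem_frattini b) k) hp
    · right
      rw [add_comm, zpow_add, zpow_one, zpow_mul, zpow_ofNat, show b⁻¹ * (b * (b ^ 2) ^ k * p) = (b ^ 2) ^ k * p by group]
      exact mul_mem (zpow_mem (F.sq_mem_frattini b) k) hp
  · rintro (h | h)
    · exact F.frattini_le_M h
    · have := mul_mem F.b_mem_M (F.frattini_le_M h)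
      rwa [mul_inv_cancel_left] at this

include F in
theorem refl_not_frattini {g : S} (hg : b⁻¹ * g ∈ frattini S) : g ∉ frattini S := fun h => by
  refine F.b_not_frattini ?_
  have := mul_mem h (inv_mem hg)
  rwa [mul_inv_rev, inv_inv, mul_inv_cancel_left] at this

theorem commutator_le_M : commutator S ≤ F.M := F.comm_le_frattini.trans F.frattini_le_M

instance M_normal : F.M.Normal := Subgroup.Normal.of_commutator_le S F.commutator_le_M

theorem a_not_mem_M : a ∉ F.M := fun h => F.not_cyclic b (by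
  show F.M = ⊤
  rw [eq_top_iff, ← F.gen, Subgroup.closure_le]
  rintro z (rfl | rfl)
  · exact h
  · exact F.b_mem_M)

theorem comm_sub (g : S) (x : F.L) : ⁅g, F.val x⁆ = F.val (F.act (F.T g - 1) x) := by
  rw [sub_act, one_act, val_sub, val_T, commutatorElement_def]

section NonCyclic

variable (hnc : ¬ IsCyclic ↥(commutator S))

include F hnc

theorem card_W : Nat.card F.W = 4 := by
  classical
  have hW : ∀ x : F.L, x + x = 0 ↔ F.val x ∈ F.W := fun x => F.val_mem_W.symm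
  let d : F.L →+ F.L := nsmulAddMonoidHom 2
  have hd : ∀ x, d x = x + x := fun x => two_nsmul x
  have e : ↥d.ker ≃ ↥F.W :=
    { toFun := fun x => ⟨F.val x, (hW x).mp (by rw [← hd]; exact x.2)⟩
      invFun := fun s => ⟨F.el s s.2.1, by
        rw [AddMonoidHom.mem_ker, hd, hW, val_el]
        exact s.2⟩
      left_inv := fun x => Subtype.ext (F.val_injective rfl)
      right_inv := fun s => rfl }
  rw [← Nat.card_congr e]
  have hker : Nat.card d.ker = d.range.index := by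
    have h1 := d.ker.card_mul_index
    rw [AddSubgroup.index_ker] at h1
    have h2 := d.range.card_mul_index
    rw [mul_comm] at h1
    exact Nat.eq_of_mul_eq_mul_left Nat.card_pos (h1.trans h2.symm)
  rw [hker, AddSubgroup.index_eq_card]
  let ψ : Fin 2 × Fin 2 → F.L ⧸ d.range := fun ij =>
    QuotientAddGroup.mk (ij.1.1 • F.c + ij.2.1 • F.act F.ξ F.c)
  have hψ : Function.Bijective ψ := by
    refine ⟨?_, fun z => ?_⟩
    · rintro ⟨i, j⟩ ⟨i', j'⟩ h
      obtain ⟨f, hf⟩ := QuotientAddGroup.eq.mp h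
      rw [hd] at hf
      have hi : i = i' := by
        by_contra hne
        apply F.c_not_mRange
        rcases (show (i = 0 ∧ i' = 1) ∨ (i = 1 ∧ i' = 0) by omega) with ⟨rfl, rfl⟩ | ⟨rfl, rfl⟩
        · refine ⟨f, (j.1 : ℤ) • F.c - (j'.1 : ℤ) • F.c, ?_⟩
          show f + f + F.act F.ξ ((j.1 : ℤ) • F.c - (j'.1 : ℤ) • F.c) = F.c
          rw [act_sub, show F.act F.ξ ((j.1 : ℤ) • F.c) = j.1 • F.act F.ξ F.c from
            (map_zsmul F.X _ _).trans (natCast_zsmul _ _),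
            show F.act F.ξ ((j'.1 : ℤ) • F.c) = j'.1 • F.act F.ξ F.c from
            (map_zsmul F.X _ _).trans (natCast_zsmul _ _), hf]
          simp only [Fin.val_zero, Fin.val_one, zero_nsmul, one_nsmul, zero_add]
          abel
        · refine ⟨-f, (j'.1 : ℤ) • F.c - (j.1 : ℤ) • F.c, ?_⟩
          show -f + -f + F.act F.ξ ((j'.1 : ℤ) • F.c - (j.1 : ℤ) • F.c) = F.c
          rw [act_sub, show F.act F.ξ ((j.1 : ℤ) • F.c) = j.1 • F.act F.ξ F.c from
            (map_zsmul F.X _ _).trans (natCast_zsmul _ _),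
            show F.act F.ξ ((j'.1 : ℤ) • F.c) = j'.1 • F.act F.ξ F.c from
            (map_zsmul F.X _ _).trans (natCast_zsmul _ _), ← neg_add, hf]
          simp only [Fin.val_zero, Fin.val_one, zero_nsmul, one_nsmul, zero_add]
          abel
      subst hi
      refine Prod.ext rfl (?_ : j = j')
      by_contra hne
      rcases (show (j = 0 ∧ j' = 1) ∨ (j = 1 ∧ j' = 0) by omega) with ⟨rfl, rfl⟩ | ⟨rfl, rfl⟩
      · refine F.Xc_not_two hnc f ?_
        rw [hf]
        simp only [Fin.val_zero, Fin.val_one, zero_nsmul, one_nsmul, add_zero]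
        abel
      · refine F.Xc_not_two hnc (-f) ?_
        rw [← neg_add, hf]
        simp only [Fin.val_zero, Fin.val_one, zero_nsmul, one_nsmul, add_zero]
        abel
    · obtain ⟨x, rfl⟩ := QuotientAddGroup.mk_surjective z
      obtain ⟨P, hP⟩ := F.exists_act x
      obtain ⟨k, Q, rfl⟩ := F.O_decomp P
      obtain ⟨l, Q', rfl⟩ := F.O_decomp Q
      obtain ⟨E, hE⟩ := F.exists_E hnc
      have hx : x = k • F.c + l • F.act F.ξ F.c + (F.act (F.ξ * E * Q') F.c + F.act (F.ξ * E * Q') F.c) := by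
        rw [← hP, show (k : F.O) + F.ξ * ((l : F.O) + F.ξ * Q') = (k : F.O) + (l : F.O) * F.ξ + 2 * (F.ξ * E * Q') by
          rw [mul_add, ← mul_assoc, hE]; ring, add_act, add_act, F.mul_act (l : F.O), F.mul_act 2, two_act]
        rfl
      refine ⟨(⟨(k % 2).toNat, by omega⟩, ⟨(l % 2).toNat, by omega⟩), QuotientAddGroup.eq.mpr
        ⟨(k / 2) • F.c + (l / 2) • F.act F.ξ F.c + F.act (F.ξ * E * Q') F.c, ?_⟩⟩
      rw [hd, hx]
      have hk : k • F.c = (k % 2).toNat • F.c + ((k / 2) • F.c + (k / 2) • F.c) := by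
        rw [← natCast_zsmul, ← add_zsmul, ← add_zsmul]; congr 1; omega
      have hl : l • F.act F.ξ F.c = (l % 2).toNat • F.act F.ξ F.c + ((l / 2) • F.act F.ξ F.c + (l / 2) • F.act F.ξ F.c) := by
        rw [← natCast_zsmul, ← add_zsmul, ← add_zsmul]; congr 1; omega
      rw [hk, hl]
      abel
  rw [← Nat.card_congr (Equiv.ofBijective ψ hψ), Nat.card_prod, Nat.card_fin]

theorem W_comm_M {g w : S} (hg : g ∈ F.M) (hw : w ∈ F.W) : g * w = w * g := by
  obtain ⟨x, hx, rfl⟩ : ∃ x : F.L, x + x = 0 ∧ F.val x = w :=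
    ⟨F.el w hw.1, F.val_mem_W.mp hw, rfl⟩
  rw [← commutatorElement_eq_one_iff_mul_comm, comm_sub, ← F.val_zero]
  congr 1
  rcases F.mem_M_iff.mp hg with h | h
  · obtain ⟨G, hG⟩ := F.exists_T_frattini hnc h
    rw [hG, add_sub_cancel_left, mul_assoc, mul_act, two_act, ← act_add, hx, act_zero]
  · obtain ⟨V, -, hV⟩ := F.exists_T_refl hnc h
    rw [hV, sub_sub_cancel_left, neg_act, mul_act, two_act, ← act_add, hx, act_zero, neg_zero]

section Refl

variable {g : S} (hg : b⁻¹ * g ∈ frattini S)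

include hg

theorem refl_comm_sq_eq {x : S} (hx : x ∈ commutator S) : ⁅g, x⁆ ∈ sqSub (commutator S) := by
  obtain ⟨V, -, hV⟩ := F.exists_T_refl hnc hg
  rw [← F.val_el x hx, comm_sub]
  refine (F.mem_sqSub_iff _).mpr ⟨-F.act V (F.el x hx), ?_⟩
  rw [hV, sub_sub_cancel_left, neg_act, mul_act, two_act, neg_add]

theorem refl_inj {x x' : S} (hx : x ∈ commutator S) (hx' : x' ∈ commutator S) (h : ⁅g, x⁆ = ⁅g, x'⁆) :
    x * x = x' * x' := by
  obtain ⟨V, hV1, hV⟩ := F.exists_T_refl hnc hg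
  rw [← F.val_el x hx, ← F.val_el x' hx', comm_sub, comm_sub] at h
  have h' := F.val_injective h
  rw [hV, sub_sub_cancel_left, neg_act, neg_act, neg_inj, mul_comm, mul_act, mul_act, two_act, two_act] at h'
  have h0 := F.act_unit_inj hV1 (x := F.el x hx + F.el x hx - (F.el x' hx' + F.el x' hx'))
    (by rw [act_sub, h', sub_self])
  have := congrArg F.val (sub_eq_zero.mp h0)
  simpa using this

theorem refl_fix {x : S} (hx : x ∈ commutator S) (h : g * x = x * g) : x ∈ F.W := by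
  refine ⟨hx, ?_⟩
  have := F.refl_inj hnc hg hx (one_mem _) (by
    rw [commutatorElement_one_right, commutatorElement_eq_one_iff_mul_comm]; exact h)
  rwa [one_mul] at this

theorem refl_comm_W_iff {x : S} (hx : x ∈ commutator S) : ⁅g, x⁆ ∈ F.W ↔ x * x * (x * x) = 1 := by
  obtain ⟨V, hV1, hV⟩ := F.exists_T_refl hnc hg
  have e : F.act (F.T g - 1) (F.el x hx) + F.act (F.T g - 1) (F.el x hx) =
      -F.act V (F.el x hx + F.el x hx + (F.el x hx + F.el x hx)) := by
    rw [hV, sub_sub_cancel_left, neg_act, mul_comm, mul_act, two_act, act_add, act_add, act_add, neg_add]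
    abel
  have hiff : ⁅g, F.val (F.el x hx)⁆ ∈ F.W ↔ F.val (F.el x hx + F.el x hx + (F.el x hx + F.el x hx)) = F.val 0 := by
    rw [comm_sub, val_mem_W, e, neg_eq_zero, F.val_injective.eq_iff]
    exact ⟨F.act_unit_inj hV1, fun h => by rw [h, act_zero]⟩
  simpa using hiff

theorem refl_surj {u : S} (hu : u ∈ sqSub (commutator S)) : ∃ x ∈ commutator S, ⁅g, x⁆ = u := by
  obtain ⟨V, hV1, hV⟩ := F.exists_T_refl hnc hg
  obtain ⟨f, hf⟩ := (F.mem_sqSub_iff (F.el u (sq_le _ hu))).mp hu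
  obtain ⟨y, hy⟩ := F.act_unit_surj hV1 (-f)
  refine ⟨F.val y, F.val_mem y, ?_⟩
  rw [comm_sub, hV, sub_sub_cancel_left, neg_act, mul_act, two_act, hy, ← neg_add, neg_neg, ← hf, val_el]

theorem comm_a2_not_sq : ⁅a ^ 2, g⁆ ∉ sqSub (commutator S) := by
  obtain ⟨f, hf⟩ := F.el_comm_a2 hnc hg
  intro h
  rw [← F.val_el ⁅a ^ 2, g⁆ (comm_mem _ _), hf, mem_sqSub_iff] at h
  obtain ⟨f', hf'⟩ := h
  refine F.Xc_not_two hnc (f' - f) ?_
  rw [eq_sub_of_add_eq hf']
  abel

theorem comm_a2_derR : ⁅a ^ 2, g⁆ ∈ derR S := by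
  obtain ⟨f, hf⟩ := F.el_comm_a2 hnc hg
  rw [← F.val_el ⁅a ^ 2, g⁆ (comm_mem _ _), hf, mem_derR_iff]
  exact add_mem (F.X_apply_mem F.c) (F.two_mem f)

end Refl

theorem frattini_comm_W {v x : S} (hv : v ∈ frattini S) (hx : x ∈ commutator S) (h4 : x * x * (x * x) = 1) :
    ⁅v, x⁆ ∈ F.W := by
  obtain ⟨G, hG⟩ := F.exists_T_frattini hnc hv
  rw [← F.val_el x hx, comm_sub, val_mem_W, hG, add_sub_cancel_left, mul_assoc, mul_comm 2, mul_act, ← act_add]
  have h0 : F.el x hx + F.el x hx + (F.el x hx + F.el x hx) = 0 := F.val_injective (by simpa using h4)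
  rw [two_act, h0, act_zero]

/-- `[a, R] ⊆ R²`. -/
theorem comm_a_derR {y : S} (hy : y ∈ derR S) : ∃ z ∈ derR S, ⁅a, y⁆ = z * z := by
  obtain ⟨E, hE⟩ := F.exists_E hnc
  obtain ⟨P, Q, hPQ⟩ := (F.mRange_iff _).mp ((F.mem_derR_iff (F.el y (derR_le hy))).mp hy)
  refine ⟨F.val (F.act (F.ξ * (P + E * Q)) F.c), (F.mem_derR_iff _).mpr ?_, ?_⟩
  · rw [mul_act]; exact F.X_apply_mem _
  · rw [← F.val_el y (derR_le hy), ← val_ξ, ← val_add, hPQ, ← mul_act, ← two_act, ← mul_act]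
    congr 2
    calc F.ξ * (2 * P + F.ξ * Q) = 2 * F.ξ * P + F.ξ * F.ξ * Q := by ring
      _ = _ := by rw [hE]; ring

theorem W_le_derR (h : ∃ x ∈ commutator S, x * x ≠ 1) : F.W ≤ derR S := by
  intro w hw
  obtain ⟨P, hP⟩ := F.exists_act (F.el w hw.1)
  obtain ⟨k, Q, rfl⟩ := F.O_decomp P
  rcases Int.even_or_odd' k with ⟨l, rfl | rfl⟩
  · rw [← F.val_el w hw.1, mem_derR_iff, ← hP]
    refine (F.mRange_iff _).mpr ⟨(l : F.O), Q, ?_⟩
    push_cast; rfl
  exfalso
  obtain ⟨x, hx, hx2⟩ := h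
  have hu : IsUnit (((2 * l + 1 : ℤ) : F.O) + F.ξ * Q) := by
    have := F.isUnit_one_add (l : F.O) Q
    convert this using 1
    push_cast; ring
  have hc : F.c + F.c = 0 := F.act_unit_inj hu (by rw [act_add, hP]; exact F.val_mem_W.mp hw)
  obtain ⟨R, hR⟩ := F.exists_act (F.el x hx)
  have : F.el x hx + F.el x hx = 0 := by rw [← hR, ← act_add, hc, act_zero]
  exact hx2 (by simpa using congrArg F.val this)

/-- If the squares of the elements of order four of `S'` agree, some `y ∈ Φ(S)` has `[y, g] ∈ W ∖ S'²`. -/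
theorem exists_y {g : S} (hg : b⁻¹ * g ∈ frattini S) (h : ∃ x ∈ commutator S, x * x ≠ 1)
    (h2 : ∀ x ∈ commutator S, ∀ x' ∈ commutator S, x * x * (x * x) = 1 → x' * x' * (x' * x') = 1 →
      x * x ≠ 1 → x' * x' ≠ 1 → x * x = x' * x') :
    ∃ y ∈ frattini S, ⁅y, g⁆ ∈ F.W ∧ ⁅y, g⁆ ∉ sqSub (commutator S) := by
  classical
  haveI : Fintype S := Fintype.ofFinite S
  obtain ⟨E, hE⟩ := F.exists_E hnc
  -- an element of `W` outside the squares
  obtain ⟨w, hw, hwsq⟩ : ∃ w ∈ F.W, w ∉ sqSub (commutator S) := by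
    by_contra hcon
    push Not at hcon
    have hroot : ∀ w ∈ F.W, ∃ x ∈ commutator S, x * x = w ∧ x * x * (x * x) = 1 := by
      intro w hw
      obtain ⟨f, hf⟩ := (F.mem_sqSub_iff (F.el w hw.1)).mp (hcon w hw)
      have e : F.val f * F.val f = w := by rw [← val_add, ← hf, val_el]
      exact ⟨F.val f, F.val_mem f, e, by rw [e]; exact hw.2⟩
    have hle : Nat.card F.W ≤ 2 := by
      obtain ⟨ζ, hζ⟩ : ∃ ζ : S, ∀ w ∈ F.W, w = 1 ∨ w = ζ := by
        by_cases hex : ∃ w ∈ F.W, w ≠ 1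
        · obtain ⟨ζ, hζW, hζ1⟩ := hex
          refine ⟨ζ, fun w hw => ?_⟩
          by_cases hw1 : w = 1
          · exact Or.inl hw1
          obtain ⟨x, hx, rfl, hx4⟩ := hroot w hw
          obtain ⟨x', hx', rfl, hx4'⟩ := hroot ζ hζW
          exact Or.inr (h2 x hx x' hx' hx4 hx4' hw1 hζ1)
        · push Not at hex
          exact ⟨1, fun w hw => Or.inl (hex w hw)⟩
      rw [Nat.card_eq_fintype_card]
      calc Fintype.card F.W ≤ ({1, ζ} : Finset S).card := by
            rw [← Finset.card_univ]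
            exact Finset.card_le_card_of_injOn (fun w => (w : S)) (fun w _ => by
              rcases hζ w w.2 with e | e <;> simp [e]) fun w _ w' _ e => Subtype.ext e
        _ ≤ 2 := (Finset.card_insert_le _ _).trans (by simp)
    rw [F.card_W hnc] at hle
    omega
  obtain ⟨P, Q, hPQ⟩ := (F.mRange_iff _).mp ((F.mem_derR_iff (F.el w hw.1)).mp (F.W_le_derR hnc h hw))
  obtain ⟨k, Q', rfl⟩ := F.O_decomp Q
  obtain ⟨f, hf⟩ := F.el_comm_a2 hnc hg
  rcases Int.even_or_odd' k with ⟨l, rfl | rfl⟩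
  · refine absurd ((F.mem_sqSub_iff (F.el w hw.1)).mpr ⟨F.act (P + F.ξ * (l : F.O) + F.ξ * E * Q') F.c, ?_⟩) hwsq
    rw [hPQ, ← two_act, ← mul_act]; congr 1
    push_cast
    rw [mul_add F.ξ, ← mul_assoc F.ξ F.ξ, hE]
    ring
  obtain ⟨R, hR⟩ : ∃ R : F.L, F.el w hw.1 = F.act F.ξ F.c + (R + R) := by
    refine ⟨F.act (P + F.ξ * (l : F.O) + F.ξ * E * Q') F.c, ?_⟩
    rw [hPQ, ← two_act, ← mul_act, ← add_act]; congr 1
    push_cast
    rw [mul_add F.ξ, ← mul_assoc F.ξ F.ξ, hE]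
    ring
  -- correct `a²` by an element of `S'`
  obtain ⟨G, hG⟩ := F.exists_T_frattini hnc (F.sq_mem_frattini a)
  obtain ⟨V, hV1, hV⟩ := F.exists_T_refl hnc hg
  obtain ⟨U, hU⟩ : IsUnit (F.T (a ^ 2)) := by
    rw [hG, show 2 * F.ξ * G = F.ξ * (2 * G) by ring]
    exact ((Commute.all _ _).isNilpotent_mul_right F.ξ_nilpotent).isUnit_one_add
  obtain ⟨x, hx⟩ := F.act_unit_surj ((Units.isUnit U).mul hV1) (R - f)
  refine ⟨a ^ 2 * F.val x, mul_mem (F.sq_mem_frattini a) (F.comm_le_frattini (F.val_mem x)), ?_⟩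
  have e : ⁅a ^ 2 * F.val x, g⁆ = w := by
    have e1 : ⁅a ^ 2 * F.val x, g⁆ = a ^ 2 * (⁅g, F.val x⁆)⁻¹ * (a ^ 2)⁻¹ * ⁅a ^ 2, g⁆ := by
      simp only [commutatorElement_def]; group
    have e2 : F.act (F.T (a ^ 2)) (-F.act (F.T g - 1) x) = (R - f) + (R - f) := by
      rw [hV, sub_sub_cancel_left, neg_act, neg_neg, mul_comm, mul_act, two_act, act_add, act_add, ← hU, ← mul_act, hx]
    rw [e1, comm_sub, ← F.val_el ⁅a ^ 2, g⁆ (comm_mem _ _), hf, ← val_neg, ← val_T, ← val_add, e2,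
      ← F.val_el w hw.1, hR]
    congr 1
    abel
  rw [e]
  exact ⟨hw, hwsq⟩

end NonCyclic

end CfsgLib.Bicyclic.Frame
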