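import Cfsg.Agent.Lib.Fusion.Bicyclic.CaseMNab
import Cfsg.Agent.Lib.Fusion.Inner
import Cfsg.Agent.Lib.Fusion.Saturation

/-!
A bicyclic non-metacyclic `2`-group with non-cyclic derived subgroup has only its inner system.
-/

set_option autoImplicit false
set_option linter.unusedSectionVars false
set_option linter.unusedVariables false
set_option linter.style.haveILetI false

namespace CfsgLib.Bicyclic

open Cfsg Cfsg.FusionSystem
open scoped commutatorElement

universe u

theorem Frame.isPGroup_mulAut {S : Type u} [Group S] [Finite S] {a b : S} (F : Frame a b) :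
    IsPGroup 2 (MulAut S) := by
  haveI : Fact (Nat.Prime 2) := ⟨Nat.prime_two⟩
  obtain ⟨r, hr, hiff, hR⟩ := F.exists_r
  obtain ⟨q, rfl⟩ : ∃ q, r = q + 2 := ⟨r - 2, by omega⟩
  intro α₀
  obtain ⟨v, m, hm, hv⟩ := Nat.exists_eq_pow_mul_and_not_dvd (orderOf_pos α₀).ne' 2 (by norm_num)
  refine ⟨v, ?_⟩
  have hodd : Odd (orderOf (α₀ ^ 2 ^ v)) := by
    rw [orderOf_pow' _ (pow_ne_zero _ two_ne_zero), hv, Nat.gcd_mul_right_left,
      Nat.mul_div_cancel_left _ (Nat.two_pow_pos _)]
    exact Nat.odd_iff.2 (Nat.two_dvd_ne_zero.1 hm)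
  generalize α₀ ^ 2 ^ v = α at hodd
  set π := QuotientGroup.mk' (commutator S)
  have hpow : ∀ x : S, π x ^ 2 ^ (q + 1) = 1 ↔ x ∈ F.M := by
    intro x
    obtain ⟨i, ε, hε, s, hs, rfl⟩ := F.exists_form x
    have hb : π b ^ 2 = 1 := by rw [← map_pow]; exact (QuotientGroup.eq_one_iff _).mpr F.bb_mem
    have hc : Commute (π a) (π b) := by
      show π a * π b = π b * π a
      rw [← commutatorElement_eq_one_iff_mul_comm, ← map_commutatorElement]
      exact (QuotientGroup.eq_one_iff _).mpr F.c_mem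
    have e : π (a ^ i * b ^ ε * s) ^ 2 ^ (q + 1) = π a ^ (i * 2 ^ (q + 1)) := by
      rw [map_mul, show π s = 1 from (QuotientGroup.eq_one_iff s).mpr hs, mul_one, map_mul, map_pow, map_pow,
        (hc.pow_pow i ε).mul_pow, ← pow_mul, ← pow_mul, show ε * 2 ^ (q + 1) = 2 * (ε * 2 ^ q) by ring,
        pow_mul (π b), hb, one_pow, mul_one]
    rw [e]
    constructor
    · intro h
      have h1 : a ^ (i * 2 ^ (q + 1)) ∈ F.D := Subgroup.mem_sup_right ((QuotientGroup.eq_one_iff _).mp (by
        show π _ = 1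
        rw [map_pow]; exact h))
      rw [hiff, show 2 ^ (q + 2) = 2 * 2 ^ (q + 1) by ring] at h1
      obtain ⟨k, rfl⟩ := Nat.dvd_of_mul_dvd_mul_right (Nat.two_pow_pos _) h1
      refine mul_mem (mul_mem ?_ (pow_mem F.b_mem_M ε)) (F.commutator_le_M hs)
      rw [pow_mul]
      exact F.frattini_le_M (pow_mem (F.sq_mem_frattini a) k)
    · intro h
      have hai : a ^ i ∈ F.M := by
        have := mul_mem (mul_mem h (inv_mem (F.commutator_le_M hs))) (inv_mem (pow_mem F.b_mem_M ε))
        rwa [mul_inv_cancel_right, mul_inv_cancel_right] at this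
      obtain ⟨k, rfl⟩ : Even i := by
        by_contra hi
        exact F.a_not_mem_M (mem_of_odd_pow F.two (Nat.not_even_iff_odd.mp hi) hai)
      rw [show (k + k) * 2 ^ (q + 1) = 2 ^ (q + 2) * k by ring, pow_mul,
        show π a ^ 2 ^ (q + 2) = 1 by rw [← map_pow]; exact (QuotientGroup.eq_one_iff _).mpr (derR_le hR), one_pow]
  have hinvM : ∀ (β : MulAut S) (x : S), x ∈ F.M → β x ∈ F.M := by
    intro β x hx
    have h1 : x ^ 2 ^ (q + 1) ∈ commutator S :=
      (QuotientGroup.eq_one_iff _).mp (by show π _ = 1; rw [map_pow]; exact (hpow x).mpr hx)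
    refine (hpow _).mp ?_
    rw [← map_pow, ← map_pow]
    exact (QuotientGroup.eq_one_iff _).mpr
      ((Subgroup.characteristic_iff_le_comap.1 (inferInstanceAs (commutator S).Characteristic) β :
        commutator S ≤ (commutator S).comap β.toMonoidHom) h1)
  set p := QuotientGroup.mk' (frattini S)
  have hp2 : ∀ x, p x * p x = 1 := fun x => by
    rw [← map_mul, ← pow_two]; exact (QuotientGroup.eq_one_iff _).mpr (F.sq_mem_frattini x)
  have hpM : ∀ x ∈ F.M, p x = 1 ∨ p x = p b := by
    intro x hx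
    rcases F.mem_M_iff.mp hx with h | h
    · exact Or.inl ((QuotientGroup.eq_one_iff _).mpr h)
    · exact Or.inr (QuotientGroup.eq.mpr h).symm
  have hpα : ∀ x y, p x = p y → p (α x) = p (α y) := fun x y h => by
    refine QuotientGroup.eq.mpr ?_
    rw [← map_inv, ← map_mul]
    exact (Subgroup.characteristic_iff_le_comap.1 (inferInstance : (frattini S).Characteristic) α :
      frattini S ≤ (frattini S).comap α.toMonoidHom) (QuotientGroup.eq.mp h)
  have hb : p (α b) = p b := by
    refine (hpM _ (hinvM α b F.b_mem_M)).resolve_left fun h => F.b_not_frattini ?_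
    have h1 := (Subgroup.characteristic_iff_le_comap.1 (inferInstance : (frattini S).Characteristic) α⁻¹ :
      frattini S ≤ (frattini S).comap (α⁻¹).toMonoidHom) ((QuotientGroup.eq_one_iff _).mp h)
    show b ∈ frattini S
    rwa [Subgroup.mem_comap, show (α⁻¹).toMonoidHom (α b) = b from MulAut.inv_apply_self _ α b] at h1
  have haM : a⁻¹ * α a ∈ F.M := by
    obtain ⟨i, ε, hε, s, hs, he⟩ := F.exists_form (α a)
    rcases Nat.even_or_odd' i with ⟨k, rfl | rfl⟩
    · exfalso
      refine F.a_not_mem_M ?_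
      have : α a ∈ F.M := by
        rw [he, pow_mul]
        exact mul_mem (mul_mem (F.frattini_le_M (pow_mem (F.sq_mem_frattini a) k)) (pow_mem F.b_mem_M ε))
          (F.commutator_le_M hs)
      have := hinvM α⁻¹ _ this
      rwa [MulAut.inv_apply_self] at this
    · rw [he, show a⁻¹ * (a ^ (2 * k + 1) * b ^ ε * s) = (a ^ 2) ^ k * b ^ ε * s by
        rw [pow_succ', pow_mul]; group]
      exact mul_mem (mul_mem (F.frattini_le_M (pow_mem (F.sq_mem_frattini a) k)) (pow_mem F.b_mem_M ε))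
        (F.commutator_le_M hs)
  have ha2 : p (α (α a)) = p a := by
    rcases hpM _ haM with h | h
    · have h1 : p (α a) = p a := by
        rw [map_mul, map_inv, inv_mul_eq_one] at h; exact h.symm
      rw [hpα _ _ h1, h1]
    · have h1 : p (α a) = p (a * b) := by
        rw [map_mul, map_inv, inv_mul_eq_iff_eq_mul] at h; rw [h, map_mul]
      rw [hpα _ _ h1, map_mul α, map_mul, h1, hb, map_mul, mul_assoc, hp2, mul_one]
  have hα2 : α ^ 2 = 1 := by
    refine CfsgLib.MetacyclicTwo.eq_one_of_trivial_mod_frattini F.two _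
      (Odd.of_dvd_nat hodd (orderOf_pow_dvd 2)) fun x => ?_
    let K : Subgroup S := MonoidHom.eqLocus (p.comp (α ^ 2).toMonoidHom) p
    have hK : Subgroup.closure ({a, b} : Set S) ≤ K := by
      rw [Subgroup.closure_le]
      rintro z (rfl | rfl)
      · show p (α (α z)) = p z
        exact ha2
      · show p (α (α z)) = p z
        rw [hpα _ _ hb, hb]
    have h1 : p ((α ^ 2) x) = p x := hK (F.gen ▸ Subgroup.mem_top x)
    refine (QuotientGroup.eq_one_iff _).mp ?_
    show p _ = 1
    rw [map_mul, map_inv, h1, mul_inv_cancel]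
  exact eq_one_of_odd_two hodd (e := 1) (by rw [pow_one]; exact hα2)

variable {Ω : Type u} [Group Ω] {S : Subgroup Ω} [Finite S]

/-- An essential subgroup gives the data used above. -/
theorem exists_ess {F : FusionSystem S} (hS : IsPGroup 2 S) (hF : F.IsSaturated 2) {P : Subgroup Ω}
    (hE : F.IsEssential 2 P) : ∃ H : Subgroup (MulAut ↥(P.subgroupOf S)), Ess (P.subgroupOf S) H := by
  classical
  haveI : Fact (Nat.Prime 2) := ⟨Nat.prime_two⟩
  have hPS : P ≤ S := hE.1.1
  haveI : Finite P := finite_of_le hPS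
  haveI := finite_autGroup (F := F) hPS
  set Q := P.subgroupOf S
  set e : ↥Q ≃* ↥P := Subgroup.subgroupOfEquivOfLe hPS
  set c : MulAut ↥Q ≃* MulAut ↥P := MulAut.congr e
  refine ⟨(F.autGroup P).comap c.toMonoidHom, ⟨hS, ?_, ?_, ?_, ?_, ?_, ?_⟩⟩
  · intro x hx
    refine hE.1.centralizerIn_le_self ⟨x.2, Subgroup.mem_centralizer_iff.2 fun w hw => ?_⟩
    exact congrArg Subtype.val (Subgroup.mem_centralizer_iff.1 hx ⟨w, hPS hw⟩ hw)
  · intro h
    exact (hE.lt hS hF).not_ge (Subgroup.subgroupOf_eq_top.mp h)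
  · intro g
    refine autInducedBy_le_autGroup (F := F) hPS ?_
    exact Subgroup.subset_closure ⟨((g : ↥S) : Ω), (g : ↥S).2, fun x => rfl⟩
  · intro K hK h2
    obtain ⟨-, T, hT⟩ := hF.isFullyAutomized_of_isFullyNormalized hS hE.2.1
    have hK' : K.map c.toMonoidHom ≤ F.autGroup P := by
      rw [Subgroup.map_le_iff_le_comap]; exact hK
    obtain ⟨T', hT'⟩ := (((h2.map c.toMonoidHom)).of_equiv (Subgroup.subgroupOfEquivOfLe hK').symm).exists_le_sylow
    have h1 : Nat.card K ≤ Nat.card (T' : Subgroup (F.autGroup P)) := by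
      refine le_trans (le_of_eq ?_) (Subgroup.card_le_of_le hT')
      rw [Nat.card_congr (Subgroup.subgroupOfEquivOfLe hK').toEquiv,
        Subgroup.card_map_of_injective (f := c.toMonoidHom) c.injective]
    rw [T'.card_eq_multiplicity, ← T.card_eq_multiplicity, hT] at h1
    refine h1.trans ?_
    rw [Nat.card_congr (Subgroup.subgroupOfEquivOfLe (autInducedBy_le_autGroup (F := F) hPS)).toEquiv]
    have hle : autInducedBy S P ≤ Q.normalizerMonoidHom.range.map c.toMonoidHom := by
      intro α hα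
      obtain ⟨g, hgS, hgN, he⟩ := mem_autInducedBy_iff.mp hα
      have hgQ : (⟨g, hgS⟩ : ↥S) ∈ Subgroup.normalizer (Q : Set ↥S) :=
        Subgroup.mem_normalizer_iff.mpr fun x => Subgroup.mem_normalizer_iff.mp hgN (x : Ω)
      refine ⟨Q.normalizerMonoidHom ⟨_, hgQ⟩, ⟨_, rfl⟩, MulEquiv.ext fun x => Subtype.ext ?_⟩
      rw [he x]; rfl
    exact (Subgroup.card_le_of_le hle).trans
      (le_of_eq (Subgroup.card_map_of_injective (f := c.toMonoidHom) c.injective))
  · intro K hK hnorm h2 k hk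
    have hK' : K.map c.toMonoidHom ≤ F.autGroup P := by
      rw [Subgroup.map_le_iff_le_comap]; exact hK
    haveI : ((K.map c.toMonoidHom).subgroupOf (F.autGroup P)).Normal := by
      refine ⟨fun x hx α => ?_⟩
      obtain ⟨y, hy, hyx⟩ := hx
      refine ⟨c.symm α * y * (c.symm α)⁻¹, hnorm _ ?_ y hy, ?_⟩
      · show c (c.symm α) ∈ F.autGroup P
        rw [c.apply_symm_apply]; exact α.2
      · show c (c.symm α * y * (c.symm α)⁻¹) = (α : MulAut P) * x * (α : MulAut P)⁻¹
        rw [map_mul, map_mul, map_inv, c.apply_symm_apply, show c y = (x : MulAut P) from hyx]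
    have hmem : c k ∈ (pCore 2 (F.autGroup P)).map (F.autGroup P).subtype :=
      ⟨⟨c k, hK' ⟨k, hk, rfl⟩⟩, CfsgLib.le_pCore ((h2.map c.toMonoidHom).of_equiv
        (Subgroup.subgroupOfEquivOfLe hK').symm) ⟨k, hk, rfl⟩, rfl⟩
    rw [(hE.isRadical hS hF).2, inn_eq_autInducedBy, mem_autInducedBy_iff] at hmem
    obtain ⟨g, hgP, -, he⟩ := hmem
    refine ⟨⟨⟨g, hPS hgP⟩, hgP⟩, MulEquiv.ext fun x => Subtype.ext (Subtype.ext ?_)⟩
    have h1 := he (e x)
    rw [show (c k) (e x) = e (k x) from by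
      show e (k (e.symm (e x))) = _
      rw [e.symm_apply_apply]] at h1
    exact h1
  · by_contra hno
    push Not at hno
    have hp : IsPGroup 2 (F.autGroup P) := by
      intro a
      obtain ⟨v, m, hm, hv⟩ := Nat.exists_eq_pow_mul_and_not_dvd (orderOf_pos a).ne' 2 (by norm_num)
      refine ⟨v, Subtype.ext ?_⟩
      have h1 := hno (c.symm ((a ^ 2 ^ v : F.autGroup P) : MulAut P))
        (by show c (c.symm _) ∈ F.autGroup P; rw [c.apply_symm_apply]; exact SetLike.coe_mem _) (by
          rw [c.symm.orderOf_eq, Subgroup.orderOf_coe, orderOf_pow' _ (pow_ne_zero _ two_ne_zero), hv,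
            Nat.gcd_mul_right_left, Nat.mul_div_cancel_left _ (Nat.two_pow_pos _)]
          exact Nat.odd_iff.2 (Nat.two_dvd_ne_zero.1 hm))
      exact c.symm.injective (h1.trans (map_one c.symm).symm)
    obtain ⟨-, -, hnorm, D, hD⟩ := hE
    have hp' : IsPGroup 2 (⊤ : Subgroup (F.autGroup P ⧸ (Inn P).subgroupOf (F.autGroup P))) :=
      (hp.to_quotient _).of_equiv Subgroup.topEquiv.symm
    have htop := Cfsg.IsStronglyPEmbedded.eq_bot_of_normal_pGroup hD ⊤ hp'
    obtain ⟨hdvd, -⟩ := hD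
    have h1 : Nat.card (F.autGroup P ⧸ (Inn P).subgroupOf (F.autGroup P)) = 1 := by
      rw [← Subgroup.card_top, htop, Subgroup.card_bot]
    rw [h1] at hdvd
    exact Nat.prime_two.not_dvd_one hdvd

/-- Only the inner system. -/
theorem inner_of_not_cyclic (hS : IsPGroup 2 S) (hb : ∃ x y : ↥S, ∀ g : ↥S, ∃ i j : ℤ, g = x ^ i * y ^ j)
    (hm : ¬ Cfsg.IsMetacyclic ↥S) (hnc : ¬ IsCyclic ↥(commutator ↥S)) (F : FusionSystem S) (hF : F.IsSaturated 2) :
    ∀ P : Subgroup Ω, F.Hom P = (innerFusionSystem S).Hom P := by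
  haveI : Fact (Nat.Prime 2) := ⟨Nat.prime_two⟩
  obtain ⟨a, b, Fr⟩ := exists_frame hS hb hm
  suffices hle : F ≤ innerFusionSystem S from fun P => Set.Subset.antisymm (hle P) (innerFusionSystem_le F P)
  refine hF.le_of_autGroup_le hS _ fun P hP => ?_
  rcases hP with rfl | hP
  · rw [hF.autGroup_self_eq_inn hS (Fr.isPGroup_mulAut.to_subgroup _), autGroup_innerFusionSystem le_rfl,
      inn_eq_autInducedBy]
  · obtain ⟨H, E⟩ := exists_ess hS hF hP
    exact (Fr.false_of_ess hnc E).elim

end CfsgLib.Bicyclic
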