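import Cfsg.Agent.Lib.Fusion.Bicyclic.Basic

/-!
Bicyclic non-metacyclic `2`-groups: `S = ⟨a, b⟩` with `b² ∈ R`, `S / S' ≅ C_{2^r} × C_2`, `r ≥ 2`.
-/

set_option autoImplicit false
set_option linter.unusedSectionVars false
set_option linter.style.haveILetI false

namespace CfsgLib.Bicyclic

open scoped commutatorElement

universe u

variable {S : Type u} [Group S] [Finite S]

/-- The standing hypotheses. -/
structure Frame (a b : S) : Prop where
  two : IsPGroup 2 S
  bic : ∃ x y : S, ∀ g : S, ∃ i j : ℤ, g = x ^ i * y ^ j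
  gen : Subgroup.closure ({a, b} : Set S) = ⊤
  b_sq : b ^ 2 ∈ derR S
  not_meta : ¬ Cfsg.IsMetacyclic S

theorem ne_zero_pow_decomp (n : ℕ) (hn : n ≠ 0) : ∃ k m : ℕ, Odd m ∧ n = 2 ^ k * m := by
  obtain ⟨k, m, hm, rfl⟩ := Nat.exists_eq_pow_mul_and_not_dvd hn 2 (by norm_num)
  exact ⟨k, m, Nat.odd_iff.mpr (Nat.two_dvd_ne_zero.mp hm), rfl⟩

theorem commutator_ne_bot {x y : S} (hgen : Subgroup.closure ({x, y} : Set S) = ⊤)
    (hm : ¬ Cfsg.IsMetacyclic S) : commutator S ≠ ⊥ := by
  intro h0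
  haveI : (Subgroup.zpowers x).Normal := by
    refine ⟨fun u hu g => ?_⟩
    have h1 : ⁅g, u⁆ ∈ commutator S := Subgroup.commutator_mem_commutator (Subgroup.mem_top _) (Subgroup.mem_top _)
    rw [h0, Subgroup.mem_bot, commutatorElement_eq_one_iff_mul_comm] at h1
    rwa [h1, mul_inv_cancel_right]
  refine hm ⟨Subgroup.zpowers x, inferInstance, inferInstance, ⟨⟨QuotientGroup.mk y, fun z => ?_⟩⟩⟩
  obtain ⟨k, rfl⟩ := QuotientGroup.mk_surjective z
  have hle : Subgroup.closure ({x, y} : Set S) ≤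
      (Subgroup.zpowers (QuotientGroup.mk y : S ⧸ Subgroup.zpowers x)).comap (QuotientGroup.mk' _) := by
    rw [Subgroup.closure_le]
    rintro w (rfl | rfl) <;> rw [SetLike.mem_coe, Subgroup.mem_comap]
    · have e1 : QuotientGroup.mk' (Subgroup.zpowers w) w = 1 :=
        (QuotientGroup.eq_one_iff w).mpr (Subgroup.mem_zpowers w)
      rw [e1]
      exact one_mem _
    · exact Subgroup.mem_zpowers _
  exact hle (hgen ▸ Subgroup.mem_top k)

theorem comm_not_mem_derR (hS : IsPGroup 2 S) {x y : S} (hgen : Subgroup.closure ({x, y} : Set S) = ⊤)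
    (hne : commutator S ≠ ⊥) : ⁅x, y⁆ ∉ derR S := fun h =>
  sq_commutator_lt hS hne ((commutator_le_zpowers_sup hgen).trans (sup_le (Subgroup.zpowers_le.mpr h) le_rfl))

/-- The frame exists. -/
theorem exists_frame (hS : IsPGroup 2 S) (hb : ∃ x y : S, ∀ g : S, ∃ i j : ℤ, g = x ^ i * y ^ j)
    (hm : ¬ Cfsg.IsMetacyclic S) : ∃ a b : S, Frame a b := by
  haveI : Fact (Nat.Prime 2) := ⟨Nat.prime_two⟩
  obtain ⟨x, y, hxy⟩ := hb
  have hgen : Subgroup.closure ({x, y} : Set S) = ⊤ := eq_top_iff.mpr fun g _ => by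
    obtain ⟨i, j, rfl⟩ := hxy g
    exact mul_mem (zpow_mem (Subgroup.subset_closure (k := ({x, y} : Set S)) (Or.inl rfl)) i)
      (zpow_mem (Subgroup.subset_closure (k := ({x, y} : Set S)) (Or.inr rfl)) j)
  have hne := commutator_ne_bot hgen hm
  set c := ⁅x, y⁆ with hc
  have hcS : c ∈ commutator S := Subgroup.commutator_mem_commutator (Subgroup.mem_top _) (Subgroup.mem_top _)
  have hcR : c ∉ derR S := comm_not_mem_derR hS hgen hne
  -- `c = xⁱ yʲ` with positive exponents
  obtain ⟨i, j, hi0, hj0, hij⟩ : ∃ i j : ℕ, 0 < i ∧ 0 < j ∧ c = x ^ i * y ^ j := by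
    obtain ⟨i, j, h⟩ := hxy c
    obtain ⟨i', hi'⟩ := mem_powers_iff_mem_zpowers.mpr (Subgroup.mem_zpowers_iff.mpr ⟨i, rfl⟩ : x ^ i ∈ _)
    obtain ⟨j', hj'⟩ := mem_powers_iff_mem_zpowers.mpr (Subgroup.mem_zpowers_iff.mpr ⟨j, rfl⟩ : y ^ j ∈ _)
    refine ⟨i' + orderOf x, j' + orderOf y, Nat.add_pos_right _ (orderOf_pos x),
      Nat.add_pos_right _ (orderOf_pos y), ?_⟩
    rw [pow_add, pow_add, pow_orderOf_eq_one, pow_orderOf_eq_one, mul_one, mul_one, h]
    exact congrArg₂ (· * ·) hi'.symm hj'.symm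
  have hpar : ∀ {u w : S} {m n : ℕ}, Subgroup.closure ({u, w} : Set S) = ⊤ → u ^ m * w ^ n ∈ commutator S →
      Even m := by
    intro u w m n hg hmem
    by_contra hodd
    rw [Nat.not_even_iff_odd] at hodd
    have htop : Subgroup.zpowers w = ⊤ := frattini_nongenerating (by
      rw [eq_top_iff, ← hg, Subgroup.closure_le]
      rintro z (rfl | rfl)
      · refine mem_of_odd_pow hS hodd ?_
        have h1 : z ^ m * w ^ n ∈ Subgroup.zpowers w ⊔ frattini S :=
          Subgroup.mem_sup_right (CfsgLib.commutator_le_frattini_pGroup hS hmem)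
        have h2 : w ^ n ∈ Subgroup.zpowers w ⊔ frattini S :=
          Subgroup.mem_sup_left (Subgroup.pow_mem _ (Subgroup.mem_zpowers w) n)
        simpa using mul_mem h1 (inv_mem h2)
      · exact Subgroup.mem_sup_left (Subgroup.mem_zpowers z))
    refine hne (le_bot_iff.mp ?_)
    rw [commutator_def, Subgroup.commutator_le]
    intro p _ q _
    obtain ⟨k, rfl⟩ := Subgroup.mem_zpowers_iff.mp (htop.ge (Subgroup.mem_top p))
    obtain ⟨l, rfl⟩ := Subgroup.mem_zpowers_iff.mp (htop.ge (Subgroup.mem_top q))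
    rw [Subgroup.mem_bot, commutatorElement_eq_one_iff_mul_comm]
    exact (Commute.zpow_zpow_self w k l).eq
  have hie : Even i := hpar hgen (hij ▸ hcS)
  have hje : Even j := hpar (u := y) (w := x) (n := i) (by rwa [Set.pair_comm]) (by
    have h1 : ⁅y ^ j, x ^ i⁆ * (x ^ i * y ^ j) = y ^ j * x ^ i := by rw [commutatorElement_def]; group
    rw [← h1, ← hij]
    exact mul_mem (Subgroup.commutator_mem_commutator (Subgroup.mem_top _) (Subgroup.mem_top _)) hcS)
  obtain ⟨α, i', hi', rfl⟩ := ne_zero_pow_decomp i hi0.ne'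
  obtain ⟨β, j', hj', rfl⟩ := ne_zero_pow_decomp j hj0.ne'
  have hα : 1 ≤ α := by
    by_contra h
    rw [show α = 0 by omega, pow_zero, one_mul] at hie
    exact Nat.not_even_iff_odd.mpr hi' hie
  have hβ : 1 ≤ β := by
    by_contra h
    rw [show β = 0 by omega, pow_zero, one_mul] at hje
    exact Nat.not_even_iff_odd.mpr hj' hje
  rcases lt_trichotomy α β with hlt | heq | hgt
  · refine absurd (isMetacyclic_of_pow hS hgen hα hi' (q := 2 ^ (β - α) * j') (Or.inr ?_) ?_ ?_) hm
    · exact ((Nat.even_pow' (by omega)).mpr even_two).mul_right _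
    · rw [← mul_assoc, ← pow_add, Nat.add_sub_cancel' hlt.le, ← hij]; exact hcS
    · rw [← mul_assoc, ← pow_add, Nat.add_sub_cancel' hlt.le, ← hij]; exact hcR
  · subst heq
    by_cases h2 : 2 ≤ α
    · exact absurd (isMetacyclic_of_pow hS hgen hα hi' (q := j') (Or.inl h2) (hij ▸ hcS) (hij ▸ hcR)) hm
    have hα1 : α = 1 := by omega
    subst hα1
    rw [pow_one] at hij
    set h := x ^ i' * y ^ j' with hh
    refine ⟨x, h, hS, ⟨x, y, hxy⟩, ?_, ?_, hm⟩
    · rw [eq_top_iff, ← hgen, Subgroup.closure_le]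
      rintro z (rfl | rfl)
      · exact Subgroup.subset_closure (Or.inl rfl)
      · refine mem_of_odd_pow hS hj' ?_
        have h1 := mul_mem (inv_mem (pow_mem (Subgroup.subset_closure (k := ({x, h} : Set S)) (Or.inl rfl)) i'))
          (Subgroup.subset_closure (k := ({x, h} : Set S)) (Or.inr rfl))
        simpa [hh] using h1
    · set π := QuotientGroup.mk' (derR S)
      refine (QuotientGroup.eq_one_iff _).mp ?_
      show π (h ^ 2) = 1
      obtain ⟨-, hzc, hsqc⟩ := quot_facts (S := S) (y ^ j') (x ^ i')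
      have hce : π ⁅y ^ j', x ^ i'⁆ = π c := by
        have hmem : ⁅y ^ j', x ^ i'⁆ ∈ commutator S :=
          Subgroup.commutator_mem_commutator (Subgroup.mem_top _) (Subgroup.mem_top _)
        have hgen' : Subgroup.closure ({x ^ i', y ^ j'} : Set S) = ⊤ := by
          rw [eq_top_iff, ← hgen, Subgroup.closure_le]
          rintro z (rfl | rfl)
          · exact mem_of_odd_pow hS hi' (Subgroup.subset_closure (Or.inl rfl))
          · exact mem_of_odd_pow hS hj' (Subgroup.subset_closure (Or.inr rfl))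
        have hnR : ⁅y ^ j', x ^ i'⁆ ∉ derR S := fun hR => comm_not_mem_derR hS hgen' hne (by
          rw [← commutatorElement_inv]; exact inv_mem hR)
        have h1 : π (⁅y ^ j', x ^ i'⁆ * c) = 1 :=
          (QuotientGroup.eq_one_iff _).mpr (mem_derR_mul hgen hmem hcS hnR hcR)
        have h2 : π c ^ 2 = 1 := by
          rw [← map_pow]
          exact (QuotientGroup.eq_one_iff _).mpr (Subgroup.mem_sup_left (sq_mem hcS))
        rw [map_mul, mul_eq_one_iff_eq_inv] at h1
        rw [h1]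
        exact inv_eq_of_mul_eq_one_left (by rw [← pow_two]; exact h2)
      have hBA : π (y ^ j') * π (x ^ i') = π ⁅y ^ j', x ^ i'⁆ * (π (x ^ i') * π (y ^ j')) := by
        rw [map_commutatorElement, commutatorElement_def]; group
      calc π (h ^ 2) = π (x ^ i') * (π (y ^ j') * π (x ^ i')) * π (y ^ j') := by
            rw [hh, pow_two, map_mul, map_mul]; group
        _ = π c * (π (x ^ (2 * i')) * π (y ^ (2 * j'))) := by
            rw [hBA, hce, two_mul i', two_mul j', pow_add, pow_add, map_mul, map_mul]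
            have hcomm : Commute (π c) (π (x ^ i')) := by
              have := hzc (x ^ i')
              rwa [hce] at this
            rw [← mul_assoc (π (x ^ i')) (π c), ← hcomm.eq]; group
        _ = π c * π c := by rw [← map_mul, ← hij]
        _ = 1 := by
          rw [← map_mul, ← pow_two]
          exact (QuotientGroup.eq_one_iff _).mpr (Subgroup.mem_sup_left (sq_mem hcS))
  · refine absurd (isMetacyclic_of_pow' hS hgen hβ hj' (q := 2 ^ (α - β) * i') (Or.inr ?_) ?_ ?_) hm
    · exact ((Nat.even_pow' (by omega)).mpr even_two).mul_right _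
    · rw [← mul_assoc, ← pow_add, Nat.add_sub_cancel' hgt.le, ← hij]; exact hcS
    · rw [← mul_assoc, ← pow_add, Nat.add_sub_cancel' hgt.le, ← hij]; exact hcR

namespace Frame

variable {a b : S} (F : Frame a b)

/-- `D = ⟨b⟩ S'`. -/
def D (_F : Frame a b) : Subgroup S := Subgroup.zpowers b ⊔ commutator S

include F

instance D_normal : F.D.Normal := Subgroup.Normal.of_commutator_le S le_sup_right

theorem swap : Frame (a * b) b := by
  refine ⟨F.two, F.bic, eq_top_iff.mpr ?_, F.b_sq, F.not_meta⟩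
  rw [← F.gen, Subgroup.closure_le]
  have hb : b ∈ Subgroup.closure ({a * b, b} : Set S) := Subgroup.subset_closure (Or.inr rfl)
  have hab : a * b ∈ Subgroup.closure ({a * b, b} : Set S) := Subgroup.subset_closure (Or.inl rfl)
  rintro z (rfl | rfl)
  · simpa using mul_mem hab (inv_mem hb)
  · exact hb

theorem comm_ne_bot : commutator S ≠ ⊥ := commutator_ne_bot F.gen F.not_meta

theorem c_not_mem : ⁅a, b⁆ ∉ derR S := comm_not_mem_derR F.two F.gen F.comm_ne_bot

theorem c_mem : ⁅a, b⁆ ∈ commutator S := Subgroup.commutator_mem_commutator (Subgroup.mem_top _) (Subgroup.mem_top _)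

theorem comm_comm {u v : S} (hu : u ∈ commutator S) (hv : v ∈ commutator S) : u * v = v * u := by
  obtain ⟨x, y, h⟩ := F.bic
  exact commutator_comm x y h u hu v hv

theorem bb_mem : b ^ 2 ∈ commutator S := derR_le F.b_sq

theorem mem_D_iff {g : S} : g ∈ F.D ↔ ∃ ε : ℕ, ε < 2 ∧ ∃ s ∈ commutator S, g = b ^ ε * s := by
  constructor
  · intro h
    have h' : g ∈ ((Subgroup.zpowers b ⊔ commutator S : Subgroup S) : Set S) := h
    rw [Subgroup.mul_normal] at h'
    obtain ⟨u, hu, s, hs, rfl⟩ := h'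
    obtain ⟨j, rfl⟩ := Subgroup.mem_zpowers_iff.mp hu
    rcases Int.even_or_odd' j with ⟨k, rfl | rfl⟩
    · refine ⟨0, by norm_num, (b ^ 2) ^ k * s, mul_mem (zpow_mem F.bb_mem k) hs, ?_⟩
      rw [pow_zero, one_mul, zpow_mul, zpow_ofNat]
    · refine ⟨1, by norm_num, (b ^ 2) ^ k * s, mul_mem (zpow_mem F.bb_mem k) hs, ?_⟩
      simp only [pow_one, ← mul_assoc]
      congr 1
      rw [← zpow_natCast b 2, ← zpow_mul, ← zpow_one_add, add_comm]; rfl
  · rintro ⟨ε, -, s, hs, rfl⟩
    exact mul_mem (Subgroup.mem_sup_left (Subgroup.pow_mem _ (Subgroup.mem_zpowers b) ε)) (Subgroup.mem_sup_right hs)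

/-- Normal form. -/
theorem exists_form (g : S) : ∃ i ε : ℕ, ε < 2 ∧ ∃ s ∈ commutator S, g = a ^ i * b ^ ε * s := by
  have htop : Subgroup.zpowers a ⊔ F.D = ⊤ := by
    rw [eq_top_iff, ← F.gen, Subgroup.closure_le]
    rintro z (rfl | rfl)
    · exact Subgroup.mem_sup_left (Subgroup.mem_zpowers _)
    · exact Subgroup.mem_sup_right (Subgroup.mem_sup_left (Subgroup.mem_zpowers _))
  have h' : g ∈ ((Subgroup.zpowers a ⊔ F.D : Subgroup S) : Set S) := by rw [htop]; trivial
  rw [Subgroup.mul_normal] at h'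
  obtain ⟨u, hu, d, hd, rfl⟩ := h'
  obtain ⟨i, rfl⟩ := mem_powers_iff_mem_zpowers.mpr hu
  obtain ⟨ε, hε, s, hs, rfl⟩ := F.mem_D_iff.mp hd
  exact ⟨i, ε, hε, s, hs, by group⟩

theorem sq_mem_frattini (g : S) : g ^ 2 ∈ frattini S :=
  haveI : Fact (Nat.Prime 2) := ⟨Nat.prime_two⟩
  CfsgLib.pow_mem_frattini_pGroup F.two g

theorem comm_le_frattini : commutator S ≤ frattini S :=
  haveI : Fact (Nat.Prime 2) := ⟨Nat.prime_two⟩
  CfsgLib.commutator_le_frattini_pGroup F.two

theorem not_cyclic (g : S) : Subgroup.zpowers g ⊔ frattini S ≠ ⊤ := by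
  intro h
  have htop : Subgroup.zpowers g = ⊤ := frattini_nongenerating h
  refine F.comm_ne_bot (le_bot_iff.mp ?_)
  rw [commutator_def, Subgroup.commutator_le]
  intro p _ q _
  obtain ⟨k, rfl⟩ := Subgroup.mem_zpowers_iff.mp (htop.ge (Subgroup.mem_top p))
  obtain ⟨l, rfl⟩ := Subgroup.mem_zpowers_iff.mp (htop.ge (Subgroup.mem_top q))
  rw [Subgroup.mem_bot, commutatorElement_eq_one_iff_mul_comm]
  exact (Commute.zpow_zpow_self g k l).eq

theorem b_not_frattini : b ∉ frattini S := fun h => F.not_cyclic a (by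
  rw [eq_top_iff, ← F.gen, Subgroup.closure_le]
  rintro z (rfl | rfl)
  · exact Subgroup.mem_sup_left (Subgroup.mem_zpowers _)
  · exact Subgroup.mem_sup_right h)

theorem a_not_frattini : a ∉ frattini S := fun h => F.not_cyclic b (by
  rw [eq_top_iff, ← F.gen, Subgroup.closure_le]
  rintro z (rfl | rfl)
  · exact Subgroup.mem_sup_right h
  · exact Subgroup.mem_sup_left (Subgroup.mem_zpowers _))

/-- Membership in the Frattini subgroup by exponents. -/
theorem form_frattini {i ε : ℕ} (hε : ε < 2) {s : S} (hs : s ∈ commutator S) :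
    a ^ i * b ^ ε * s ∈ frattini S ↔ Even i ∧ ε = 0 := by
  have hs' := F.comm_le_frattini hs
  constructor
  · intro h
    have h1 : a ^ i * b ^ ε ∈ frattini S := by simpa using mul_mem h (inv_mem hs')
    rcases Nat.even_or_odd' i with ⟨k, rfl | rfl⟩
    · refine ⟨even_two_mul k, ?_⟩
      by_contra h0
      have hε1 : ε = 1 := by omega
      subst hε1
      rw [pow_one, pow_mul] at h1
      have := mul_mem (inv_mem (pow_mem (F.sq_mem_frattini a) k)) h1
      rw [inv_mul_cancel_left] at this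
      exact F.b_not_frattini this
    · exfalso
      rw [pow_succ', pow_mul] at h1
      have h2 : b ^ ε * a ∈ frattini S := by
        have h3 : a⁻¹ * (a * (a ^ 2) ^ k * b ^ ε) * a ∈ frattini S := by
          have := Subgroup.Normal.conj_mem inferInstance _ h1 a⁻¹
          rwa [inv_inv] at this
        have := mul_mem (inv_mem (pow_mem (F.sq_mem_frattini a) k)) h3
        simpa [mul_assoc] using this
      interval_cases ε
      · rw [pow_zero, one_mul] at h2
        exact F.a_not_frattini h2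
      · rw [pow_one] at h2
        refine F.not_cyclic b (eq_top_iff.mpr ?_)
        rw [← F.gen, Subgroup.closure_le]
        rintro z (rfl | rfl)
        · have := mul_mem (Subgroup.mem_sup_left (T := frattini S) (inv_mem (Subgroup.mem_zpowers b)))
            (Subgroup.mem_sup_right (S := Subgroup.zpowers b) h2)
          rwa [inv_mul_cancel_left] at this
        · exact Subgroup.mem_sup_left (Subgroup.mem_zpowers _)
  · rintro ⟨⟨k, rfl⟩, rfl⟩
    rw [pow_zero, mul_one, ← two_mul, pow_mul]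
    exact mul_mem (pow_mem (F.sq_mem_frattini a) k) hs'

theorem frattini_form {g : S} (hg : g ∈ frattini S) : ∃ i : ℕ, ∃ s ∈ commutator S, g = a ^ (2 * i) * s := by
  obtain ⟨i, ε, hε, s, hs, rfl⟩ := F.exists_form g
  obtain ⟨⟨k, rfl⟩, rfl⟩ := (F.form_frattini hε hs).mp hg
  exact ⟨k, s, hs, by rw [pow_zero, mul_one, two_mul]⟩

/-- `S / D` is cyclic of order `2^r`, `r ≥ 2`, and `a^{2^r} ∈ R`. -/
theorem exists_r : ∃ r : ℕ, 2 ≤ r ∧ (∀ i : ℕ, a ^ i ∈ F.D ↔ 2 ^ r ∣ i) ∧ a ^ 2 ^ r ∈ derR S := by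
  haveI : Fact (Nat.Prime 2) := ⟨Nat.prime_two⟩
  set π := QuotientGroup.mk' F.D
  obtain ⟨r, hr⟩ : ∃ r, orderOf (π a) = 2 ^ r := by
    obtain ⟨r, hr⟩ := IsPGroup.iff_orderOf.mp (F.two.to_quotient F.D) (π a)
    exact ⟨r, hr⟩
  have hiff : ∀ i : ℕ, a ^ i ∈ F.D ↔ 2 ^ r ∣ i := fun i => by
    rw [← hr, orderOf_dvd_iff_pow_eq_one, ← map_pow]
    exact (QuotientGroup.eq_one_iff _).symm
  have hpow : a ^ 2 ^ r ∈ commutator S := by
    obtain ⟨ε, hε, s, hs, h⟩ := F.mem_D_iff.mp ((hiff _).mpr dvd_rfl)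
    rcases Nat.eq_zero_or_pos r with hr0 | hr0
    · exfalso
      subst hr0
      rw [pow_zero, pow_one] at h
      refine F.not_cyclic b (eq_top_iff.mpr ?_)
      rw [← F.gen, Subgroup.closure_le]
      rintro z (rfl | rfl)
      · exact h ▸ mul_mem (Subgroup.mem_sup_left (Subgroup.pow_mem _ (Subgroup.mem_zpowers b) ε))
          (Subgroup.mem_sup_right (F.comm_le_frattini hs))
      · exact Subgroup.mem_sup_left (Subgroup.mem_zpowers _)
    have hf : a ^ 0 * b ^ ε * s ∈ frattini S := by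
      rw [pow_zero, one_mul, ← h]
      obtain ⟨k, rfl⟩ : ∃ k, r = k + 1 := ⟨r - 1, by omega⟩
      rw [pow_succ, pow_mul]
      exact F.sq_mem_frattini _
    rw [h, ((F.form_frattini hε hs).mp hf).2, pow_zero, one_mul]
    exact hs
  have hR : a ^ 2 ^ r ∈ derR S := by
    by_contra hout
    exact F.not_meta (isMetacyclic_of_gen F.two F.gen hpow hout)
  refine ⟨r, ?_, hiff, hR⟩
  by_contra hr2
  rcases Nat.eq_zero_or_pos r with hr0 | hr0
  · subst hr0
    rw [pow_zero, pow_one] at hpow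
    exact F.a_not_frattini (F.comm_le_frattini hpow)
  have hr1 : r = 1 := by omega
  subst hr1
  -- the quotient by `R` is dihedral of order eight
  rw [pow_one] at hR
  set ρ := QuotientGroup.mk' (derR S)
  obtain ⟨hz2, hzc, -⟩ := quot_facts (S := S) b a
  have ha2 : ρ a ^ 2 = 1 := by rw [← map_pow]; exact (QuotientGroup.eq_one_iff _).mpr hR
  have hb2 : ρ b ^ 2 = 1 := by rw [← map_pow]; exact (QuotientGroup.eq_one_iff _).mpr F.b_sq
  have hsq : ρ ((a * b) ^ 2) = ρ ⁅b, a⁆ := by
    calc ρ ((a * b) ^ 2) = ρ a * ρ ⁅b, a⁆ * (ρ a * (ρ b * ρ b)) := by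
          rw [map_commutatorElement, commutatorElement_def, map_pow, map_mul, pow_two]; group
      _ = ρ ⁅b, a⁆ := by
        rw [← pow_two (ρ b), hb2, mul_one, ← (hzc a).eq, mul_assoc, ← pow_two, ha2, mul_one]
  have hd : ((a * b) ^ 2)⁻¹ * ⁅b, a⁆ ∈ derR S := QuotientGroup.eq.mp hsq
  have hnR : ⁅b, a⁆ ∉ derR S := fun h => F.c_not_mem (by rw [← commutatorElement_inv]; exact inv_mem h)
  refine F.not_meta (isMetacyclic_of_gen F.two F.swap.gen (e := 2) ?_ ?_)
  · have hc : ⁅b, a⁆ ∈ commutator S :=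
      Subgroup.commutator_mem_commutator (Subgroup.mem_top b) (Subgroup.mem_top a)
    have := mul_mem hc (inv_mem (derR_le hd))
    rwa [mul_inv_rev, inv_inv, mul_inv_cancel_left] at this
  · intro h
    exact hnR (by simpa using mul_mem h hd)

/-- The Frattini subgroup is generated by two elements. -/
theorem frattini_two_gen : ∃ p q : S, frattini S = Subgroup.closure ({p, q} : Set S) := by
  obtain ⟨x, y, hxy⟩ := F.bic
  have hgen : Subgroup.closure ({x, y} : Set S) = ⊤ := eq_top_iff.mpr fun g _ => by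
    obtain ⟨i, j, rfl⟩ := hxy g
    exact mul_mem (zpow_mem (Subgroup.subset_closure (k := ({x, y} : Set S)) (Or.inl rfl)) i)
      (zpow_mem (Subgroup.subset_closure (k := ({x, y} : Set S)) (Or.inr rfl)) j)
  refine ⟨x ^ 2, y ^ 2, le_antisymm (fun g hg => ?_) ?_⟩
  · obtain ⟨i, j, rfl⟩ := hxy g
    have hmem : ∀ (z : S) (k : ℤ), z ^ (2 * k) ∈ frattini S := fun z k => by
      rw [zpow_mul, zpow_ofNat]; exact zpow_mem (F.sq_mem_frattini z) k
    rcases Int.even_or_odd' i with ⟨k, rfl | rfl⟩ <;> rcases Int.even_or_odd' j with ⟨l, rfl | rfl⟩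
    · refine mul_mem ?_ ?_ <;> rw [zpow_mul, zpow_ofNat] <;>
        refine zpow_mem (Subgroup.subset_closure ?_) _
      · exact Or.inl rfl
      · exact Or.inr rfl
    all_goals exfalso
    · rw [zpow_add, zpow_one] at hg
      have h1 := mul_mem (inv_mem (hmem y l)) (mul_mem (inv_mem (hmem x k)) hg)
      rw [inv_mul_cancel_left, inv_mul_cancel_left] at h1
      refine F.not_cyclic x (eq_top_iff.mpr ?_)
      rw [← hgen, Subgroup.closure_le]
      rintro z (rfl | rfl)
      · exact Subgroup.mem_sup_left (Subgroup.mem_zpowers _)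
      · exact Subgroup.mem_sup_right h1
    · rw [add_comm, zpow_add, zpow_one] at hg
      have h1 := mul_mem hg (inv_mem (hmem y l))
      rw [mul_inv_cancel_right] at h1
      have h2 := mul_mem h1 (inv_mem (hmem x k))
      rw [mul_inv_cancel_right] at h2
      refine F.not_cyclic y (eq_top_iff.mpr ?_)
      rw [← hgen, Subgroup.closure_le]
      rintro z (rfl | rfl)
      · exact Subgroup.mem_sup_right h2
      · exact Subgroup.mem_sup_left (Subgroup.mem_zpowers _)
    · rw [zpow_add, zpow_add, zpow_one, zpow_one] at hg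
      refine F.not_cyclic y (eq_top_iff.mpr ?_)
      rw [← hgen, Subgroup.closure_le]
      rintro z (rfl | rfl)
      · have h1 := mul_mem (Subgroup.mem_sup_right (S := Subgroup.zpowers y) (mul_mem (inv_mem (hmem z k)) hg))
          (Subgroup.mem_sup_left (T := frattini S)
            (inv_mem (mul_mem (zpow_mem (Subgroup.mem_zpowers y) (2 * l)) (Subgroup.mem_zpowers y))))
        have e : (z ^ (2 * k))⁻¹ * (z ^ (2 * k) * z * (y ^ (2 * l) * y)) * (y ^ (2 * l) * y)⁻¹ = z := by group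
        rwa [e] at h1
      · exact Subgroup.mem_sup_left (Subgroup.mem_zpowers _)
  · rw [Subgroup.closure_le]
    rintro z (rfl | rfl) <;> exact F.sq_mem_frattini _

/-- A proper subgroup lies in one of the three maximal subgroups. -/
theorem trichotomy {Q : Subgroup S} (hQ : Q ≠ ⊤) :
    Q ≤ Subgroup.zpowers b ⊔ frattini S ∨ Q ≤ Subgroup.zpowers a ⊔ frattini S ∨
      Q ≤ Subgroup.zpowers (a * b) ⊔ frattini S := by
  haveI : Fact (Nat.Prime 2) := ⟨Nat.prime_two⟩
  have hsplit : ∀ g : S, g ∈ frattini S ∨ a⁻¹ * g ∈ frattini S ∨ b⁻¹ * g ∈ frattini S ∨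
      (a * b)⁻¹ * g ∈ frattini S := by
    intro g
    obtain ⟨i, ε, hε, s, hs, rfl⟩ := F.exists_form g
    have hsf := F.comm_le_frattini hs
    rcases Nat.even_or_odd' i with ⟨k, rfl | rfl⟩ <;> interval_cases ε
    · left
      rw [pow_zero, mul_one, pow_mul]
      exact mul_mem (pow_mem (F.sq_mem_frattini a) k) hsf
    · right; right; left
      rw [pow_one, pow_mul, show b⁻¹ * ((a ^ 2) ^ k * b * s) = b⁻¹ * (a ^ 2) ^ k * b * s by group]
      have := Subgroup.Normal.conj_mem inferInstance _ (pow_mem (F.sq_mem_frattini a) k) b⁻¹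
      rw [inv_inv] at this
      exact mul_mem this hsf
    · right; left
      rw [pow_zero, mul_one, pow_succ', pow_mul, ← mul_assoc, inv_mul_cancel_left]
      exact mul_mem (pow_mem (F.sq_mem_frattini a) k) hsf
    · right; right; right
      rw [pow_one, pow_succ', pow_mul,
        show (a * b)⁻¹ * (a * (a ^ 2) ^ k * b * s) = b⁻¹ * (a ^ 2) ^ k * b * s by group]
      have := Subgroup.Normal.conj_mem inferInstance _ (pow_mem (F.sq_mem_frattini a) k) b⁻¹
      rw [inv_inv] at this
      exact mul_mem this hsf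
  have hmem : ∀ (u g : S), u⁻¹ * g ∈ frattini S → g ∈ Subgroup.zpowers u ⊔ frattini S := fun u g h => by
    have := mul_mem (Subgroup.mem_sup_left (T := frattini S) (Subgroup.mem_zpowers u))
      (Subgroup.mem_sup_right (S := Subgroup.zpowers u) h)
    rwa [mul_inv_cancel_left] at this
  have hnot : ∀ (u w : S), Subgroup.closure ({u, w} : Set S) = ⊤ → (∃ g ∈ Q, u⁻¹ * g ∈ frattini S) →
      ¬ ∃ g ∈ Q, w⁻¹ * g ∈ frattini S := by
    rintro u w hg ⟨g, hgQ, hgu⟩ ⟨g', hgQ', hgw⟩
    refine hQ (frattini_nongenerating (eq_top_iff.mpr ?_))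
    rw [← hg, Subgroup.closure_le]
    rintro z (rfl | rfl)
    · have := mul_mem (Subgroup.mem_sup_left (T := frattini S) hgQ)
        (Subgroup.mem_sup_right (S := Q) (inv_mem hgu))
      rwa [mul_inv_rev, inv_inv, mul_inv_cancel_left] at this
    · have := mul_mem (Subgroup.mem_sup_left (T := frattini S) hgQ')
        (Subgroup.mem_sup_right (S := Q) (inv_mem hgw))
      rwa [mul_inv_rev, inv_inv, mul_inv_cancel_left] at this
  have g1 : Subgroup.closure ({a, b} : Set S) = ⊤ := F.gen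
  have g2 : Subgroup.closure ({a * b, b} : Set S) = ⊤ := F.swap.gen
  have g3 : Subgroup.closure ({a, a * b} : Set S) = ⊤ := by
    rw [eq_top_iff, ← F.gen, Subgroup.closure_le]
    have ha : a ∈ Subgroup.closure ({a, a * b} : Set S) := Subgroup.subset_closure (Or.inl rfl)
    have hab : a * b ∈ Subgroup.closure ({a, a * b} : Set S) := Subgroup.subset_closure (Or.inr rfl)
    rintro z (rfl | rfl)
    · exact ha
    · simpa using mul_mem (inv_mem ha) hab
  by_cases hA : ∃ g ∈ Q, a⁻¹ * g ∈ frattini S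
  · refine Or.inr (Or.inl fun g hg => ?_)
    rcases hsplit g with h | h | h | h
    · exact Subgroup.mem_sup_right h
    · exact hmem a g h
    · exact absurd ⟨g, hg, h⟩ (hnot a b g1 hA)
    · exact absurd ⟨g, hg, h⟩ (hnot a (a * b) g3 hA)
  by_cases hB : ∃ g ∈ Q, b⁻¹ * g ∈ frattini S
  · refine Or.inl fun g hg => ?_
    rcases hsplit g with h | h | h | h
    · exact Subgroup.mem_sup_right h
    · exact absurd ⟨g, hg, h⟩ hA
    · exact hmem b g h
    · exact absurd hB (hnot (a * b) b g2 ⟨g, hg, h⟩)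
  refine Or.inr (Or.inr fun g hg => ?_)
  rcases hsplit g with h | h | h | h
  · exact Subgroup.mem_sup_right h
  · exact absurd ⟨g, hg, h⟩ hA
  · exact absurd ⟨g, hg, h⟩ hB
  · exact hmem (a * b) g h

end Frame

end CfsgLib.Bicyclic
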