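import Cfsg.Agent.Lib.Fusion.Bicyclic.Frame

/-!
The commutator subgroup of a bicyclic non-metacyclic `2`-group as a cyclic module over `ℤ[X]`,
`X = [a, ·]`.
-/

set_option autoImplicit false
set_option linter.unusedSectionVars false
set_option linter.style.haveILetI false

namespace CfsgLib.Bicyclic.Frame

open scoped commutatorElement

universe u

variable {S : Type u} [Group S] [Finite S] {a b : S}

/-- `S'`, written additively. -/
def L (_F : Frame a b) : Type u := Additive ↥(commutator S)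

variable (F : Frame a b)

instance L_addCommGroup : AddCommGroup F.L :=
  @Additive.addCommGroup _ { (inferInstance : Group ↥(commutator S)) with
    mul_comm := fun x y => Subtype.ext (F.comm_comm x.2 y.2) }

instance L_finite : Finite F.L := inferInstanceAs (Finite ↥(commutator S))

/-- The underlying group element. -/
def val (x : F.L) : S := (Additive.toMul x : ↥(commutator S)).1

/-- An element of `S'` in the module. -/
def el (s : S) (h : s ∈ commutator S) : F.L := Additive.ofMul (⟨s, h⟩ : ↥(commutator S))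

@[simp] theorem val_el (s : S) (h : s ∈ commutator S) : F.val (F.el s h) = s := rfl

theorem val_mem (x : F.L) : F.val x ∈ commutator S := (Additive.toMul x : ↥(commutator S)).2

theorem val_injective : Function.Injective F.val := fun x y h =>
  show Additive.ofMul (Additive.toMul x : ↥(commutator S)) = Additive.ofMul (Additive.toMul y : ↥(commutator S))
    from congrArg Additive.ofMul (Subtype.ext h)

@[simp] theorem val_add (x y : F.L) : F.val (x + y) = F.val x * F.val y := rfl

@[simp] theorem val_zero : F.val 0 = 1 := rfl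

@[simp] theorem val_neg (x : F.L) : F.val (-x) = (F.val x)⁻¹ := rfl

@[simp] theorem val_sub (x y : F.L) : F.val (x - y) = F.val x * (F.val y)⁻¹ := by
  rw [sub_eq_add_neg, val_add, val_neg]

@[simp] theorem val_nsmul (n : ℕ) (x : F.L) : F.val (n • x) = F.val x ^ n := rfl

@[simp] theorem val_zsmul (n : ℤ) (x : F.L) : F.val (n • x) = F.val x ^ n := rfl

/-- Conjugation by `g` on `S'`. -/
def τ (g : S) : AddMonoid.End F.L where
  toFun x := F.el (g * F.val x * g⁻¹) (Subgroup.Normal.conj_mem inferInstance _ (F.val_mem x) g)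
  map_zero' := F.val_injective (by simp)
  map_add' x y := F.val_injective (by simp [mul_assoc])

@[simp] theorem val_τ (g : S) (x : F.L) : F.val (F.τ g x) = g * F.val x * g⁻¹ := rfl

theorem τ_mul (g h : S) : F.τ (g * h) = F.τ g * F.τ h :=
  DFunLike.ext _ _ fun x => F.val_injective (by
    show g * h * F.val x * (g * h)⁻¹ = g * (h * F.val x * h⁻¹) * g⁻¹
    group)

theorem τ_one : F.τ 1 = 1 := DFunLike.ext _ _ fun x => F.val_injective (by
  show 1 * F.val x * 1⁻¹ = F.val x
  group)

theorem τ_pow (g : S) : ∀ n : ℕ, F.τ (g ^ n) = F.τ g ^ n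
  | 0 => by rw [pow_zero, pow_zero, τ_one]
  | n + 1 => by rw [pow_succ, pow_succ, τ_mul, τ_pow g n]

theorem τ_of_mem {s : S} (hs : s ∈ commutator S) : F.τ s = 1 :=
  DFunLike.ext _ _ fun x => F.val_injective (by
    show s * F.val x * s⁻¹ = F.val x
    rw [F.comm_comm hs (F.val_mem x), mul_inv_cancel_right])

theorem τ_comm (g h : S) : Commute (F.τ g) (F.τ h) := by
  show F.τ g * F.τ h = F.τ h * F.τ g
  rw [← τ_mul, ← τ_mul, show g * h = ⁅g, h⁆ * (h * g) by rw [commutatorElement_def]; group, τ_mul,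
    F.τ_of_mem (Subgroup.commutator_mem_commutator (Subgroup.mem_top g) (Subgroup.mem_top h)), one_mul]

/-- `X = [a, ·]`. -/
def X : AddMonoid.End F.L := F.τ a - 1

theorem X_comm (g : S) : Commute F.X (F.τ g) := (F.τ_comm a g).sub_left (Commute.one_left _)

theorem val_X (x : F.L) : F.val (F.X x) = ⁅a, F.val x⁆ := by
  show F.val (F.τ a x - x) = _
  rw [val_sub, val_τ, commutatorElement_def]

/-- The generator `[a, b]`. -/
def c : F.L := F.el ⁅a, b⁆ F.c_mem

/-- `2 L + X L`. -/
def mRange : AddSubgroup F.L where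
  carrier := {x | ∃ f g : F.L, f + f + F.X g = x}
  zero_mem' := ⟨0, 0, by rw [map_zero, add_zero, add_zero]⟩
  add_mem' := by
    rintro _ _ ⟨f, g, rfl⟩ ⟨f', g', rfl⟩
    exact ⟨f + f', g + g', by rw [map_add]; abel⟩
  neg_mem' := by
    rintro _ ⟨f, g, rfl⟩
    exact ⟨-f, -g, by rw [map_neg]; abel⟩

theorem two_mem (f : F.L) : f + f ∈ F.mRange := ⟨f, 0, by rw [map_zero, add_zero]⟩

theorem X_apply_mem (g : F.L) : F.X g ∈ F.mRange := ⟨0, g, by rw [add_zero, zero_add]⟩

theorem X_τ (g : S) (x : F.L) : F.X (F.τ g x) = F.τ g (F.X x) :=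
  congrArg (fun e : AddMonoid.End F.L => e x) (F.X_comm g).eq

theorem two_apply (x : F.L) : (2 : AddMonoid.End F.L) x = x + x := by
  rw [← one_add_one_eq_two]; rfl

/-- The subgroup of `S` attached to a subgroup of the module. -/
def toSub (K : AddSubgroup F.L) : Subgroup S where
  carrier := {s | ∃ x ∈ K, F.val x = s}
  one_mem' := ⟨0, K.zero_mem, rfl⟩
  mul_mem' := by
    rintro _ _ ⟨x, hx, rfl⟩ ⟨y, hy, rfl⟩
    exact ⟨x + y, K.add_mem hx hy, rfl⟩
  inv_mem' := by
    rintro _ ⟨x, hx, rfl⟩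
    exact ⟨-x, K.neg_mem hx, rfl⟩

theorem mem_toSub {K : AddSubgroup F.L} {x : F.L} : F.val x ∈ F.toSub K ↔ x ∈ K :=
  ⟨fun ⟨y, hy, h⟩ => F.val_injective h ▸ hy, fun h => ⟨x, h, rfl⟩⟩

theorem toSub_normal {K : AddSubgroup F.L} (h : ∀ g : S, ∀ x ∈ K, F.τ g x ∈ K) : (F.toSub K).Normal :=
  ⟨fun s hs g => by
    obtain ⟨x, hx, rfl⟩ := hs
    exact ⟨F.τ g x, h g x hx, rfl⟩⟩

theorem mRange_inv (g : S) : ∀ x ∈ F.mRange, F.τ g x ∈ F.mRange := by
  rintro _ ⟨f, h, rfl⟩
  exact ⟨F.τ g f, F.τ g h, by rw [map_add, map_add, X_τ]⟩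

theorem Xt_eq : F.X (F.el (b ^ 2) F.bb_mem) = F.c + F.τ b F.c := F.val_injective (by
  rw [val_X, val_add, val_τ, c, val_el, val_el]
  simp only [commutatorElement_def, pow_two]
  group)

theorem twoX_mem (f g : F.L) : f + f + F.X g ∈ F.mRange := ⟨f, g, rfl⟩

theorem τb_c_sub : F.τ b F.c - F.c ∈ F.mRange := by
  rw [show F.τ b F.c - F.c = (-F.c) + (-F.c) + F.X (F.el (b ^ 2) F.bb_mem) by rw [Xt_eq]; abel]
  exact F.twoX_mem _ _

theorem zsup_normal : (F.toSub (AddSubgroup.zmultiples F.c ⊔ F.mRange)).Normal := by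
  refine F.toSub_normal fun g x hx => ?_
  obtain ⟨y, hy, z, hz, rfl⟩ := AddSubgroup.mem_sup.mp hx
  obtain ⟨n, rfl⟩ := AddSubgroup.mem_zmultiples_iff.mp hy
  rw [map_add, map_zsmul]
  refine add_mem (AddSubgroup.zsmul_mem _ ?_ n) (AddSubgroup.mem_sup_right (F.mRange_inv g z hz))
  let K : Subgroup S :=
    { carrier := {g | F.τ g F.c - F.c ∈ F.mRange}
      one_mem' := by
        show F.τ 1 F.c - F.c ∈ F.mRange
        rw [τ_one, AddMonoid.End.coe_one, id_eq, sub_self]
        exact zero_mem _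
      mul_mem' := by
        intro g h hg hh
        show F.τ (g * h) F.c - F.c ∈ F.mRange
        rw [τ_mul, AddMonoid.End.coe_mul, Function.comp_apply,
          show F.τ g (F.τ h F.c) - F.c = F.τ g (F.τ h F.c - F.c) + (F.τ g F.c - F.c) by rw [map_sub]; abel]
        exact add_mem (F.mRange_inv g _ hh) hg
      inv_mem' := by
        intro g hg
        show F.τ g⁻¹ F.c - F.c ∈ F.mRange
        have e : F.τ g⁻¹ (F.τ g F.c) = F.c := by
          show (F.τ g⁻¹ * F.τ g) F.c = F.c
          rw [← τ_mul, inv_mul_cancel, τ_one]; rfl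
        have h1 := F.mRange_inv g⁻¹ _ hg
        rw [map_sub, e] at h1
        simpa using neg_mem h1 }
  have hK : K = ⊤ := by
    rw [eq_top_iff, ← F.gen, Subgroup.closure_le]
    rintro s (rfl | rfl)
    · exact F.X_apply_mem F.c
    · exact F.τb_c_sub
  have hg : F.τ g F.c - F.c ∈ F.mRange := (hK.ge (Subgroup.mem_top g) : g ∈ K)
  have := add_mem (AddSubgroup.mem_sup_left (T := F.mRange) (AddSubgroup.mem_zmultiples F.c))
    (AddSubgroup.mem_sup_right (S := AddSubgroup.zmultiples F.c) hg)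
  rwa [add_sub_cancel] at this

theorem exists_zc (x : F.L) : ∃ n : ℤ, x - n • F.c ∈ F.mRange := by
  haveI := F.zsup_normal
  have hle := commutator_le_of_gen F.gen (F.toSub (AddSubgroup.zmultiples F.c ⊔ F.mRange))
    (show ⁅a, b⁆ ∈ _ from F.mem_toSub.mpr (AddSubgroup.mem_sup_left (AddSubgroup.mem_zmultiples F.c)))
  obtain ⟨y, hy, z, hz, e⟩ := AddSubgroup.mem_sup.mp (F.mem_toSub.mp (hle (F.val_mem x)))
  obtain ⟨n, rfl⟩ := AddSubgroup.mem_zmultiples_iff.mp hy
  exact ⟨n, by rwa [← e, add_sub_cancel_left]⟩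

theorem mem_derR_iff (x : F.L) : F.val x ∈ derR S ↔ x ∈ F.mRange := by
  constructor
  · intro h
    haveI : (F.toSub F.mRange).Normal := F.toSub_normal F.mRange_inv
    have h1 : derR S ≤ F.toSub F.mRange := by
      refine sup_le ?_ ?_
      · rw [sqSub, Subgroup.closure_le]
        rintro _ ⟨s, hs, rfl⟩
        exact ⟨_, F.two_mem (F.el s hs), by simp [pow_two]⟩
      · rw [Subgroup.commutator_le]
        intro s hs g _
        obtain ⟨n, hn⟩ := F.exists_zc (F.el s hs)
        have key : F.τ g (F.el s hs) - F.el s hs ∈ F.mRange := by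
          have hK := F.zsup_normal.conj_mem _ (F.mem_toSub.mpr
            (AddSubgroup.mem_sup_left (AddSubgroup.mem_zmultiples F.c))) g
          have h2 : F.τ g F.c - F.c ∈ F.mRange := by
            obtain ⟨y, hy, z, hz, e⟩ := AddSubgroup.mem_sup.mp
              (F.mem_toSub.mp (show F.val (F.τ g F.c) ∈ _ from hK))
            obtain ⟨k, rfl⟩ := AddSubgroup.mem_zmultiples_iff.mp hy
            rcases Int.even_or_odd' k with ⟨l, rfl | rfl⟩
            · exfalso
              have hc : F.τ g F.c ∈ F.mRange := by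
                rw [← e]
                refine add_mem ?_ hz
                rw [two_mul, add_zsmul]
                exact F.two_mem _
              have hc' := F.mRange_inv g⁻¹ _ hc
              rw [show F.τ g⁻¹ (F.τ g F.c) = (F.τ g⁻¹ * F.τ g) F.c from rfl, ← τ_mul, inv_mul_cancel, τ_one] at hc'
              have hcR : ⁅a, b⁆ ∈ derR S := by
                obtain ⟨f, h', e'⟩ := (show F.c ∈ F.mRange from hc')
                rw [show ⁅a, b⁆ = F.val F.c from rfl, ← e', val_add, val_add, val_X]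
                refine mul_mem (Subgroup.mem_sup_left ?_) (Subgroup.mem_sup_right ?_)
                · rw [← pow_two]; exact sq_mem (F.val_mem f)
                · rw [← commutatorElement_inv]
                  exact inv_mem (Subgroup.commutator_mem_commutator (F.val_mem h') (Subgroup.mem_top a))
              exact F.c_not_mem hcR
            · rw [← e, add_zsmul, one_zsmul, show (2 * l) • F.c + F.c + z - F.c = (2 * l) • F.c + z by abel]
              refine add_mem ?_ hz
              rw [two_mul, add_zsmul]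
              exact F.two_mem _
          have e : F.τ g (F.el s hs) - F.el s hs = F.τ g (F.el s hs - n • F.c) - (F.el s hs - n • F.c) +
              n • (F.τ g F.c - F.c) := by
            rw [map_sub, map_zsmul, zsmul_sub]; abel
          rw [e]
          exact add_mem (sub_mem (F.mRange_inv g _ hn) hn) (zsmul_mem h2 n)
        refine ⟨-(F.τ g (F.el s hs) - F.el s hs), neg_mem key, ?_⟩
        rw [val_neg, val_sub, val_τ, val_el, commutatorElement_def]; group
    exact F.mem_toSub.mp (h1 h)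
  · intro h
    obtain ⟨f, g, rfl⟩ := h
    rw [val_add, val_add, val_X]
    refine mul_mem (Subgroup.mem_sup_left ?_) (Subgroup.mem_sup_right ?_)
    · rw [← pow_two]; exact sq_mem (F.val_mem f)
    · rw [← commutatorElement_inv]
      exact inv_mem (Subgroup.commutator_mem_commutator (F.val_mem g) (Subgroup.mem_top a))

theorem val_X_pow_mem : ∀ (n : ℕ) (x : F.L), F.val ((F.X ^ n) x) ∈ (⊤ : Subgroup S).lowerCentralSeries n
  | 0, x => trivial
  | n + 1, x => by
    rw [pow_succ', AddMonoid.End.coe_mul, Function.comp_apply, val_X, Subgroup.lowerCentralSeries_succ,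
      ← commutatorElement_inv]
    exact inv_mem (Subgroup.commutator_mem_commutator (val_X_pow_mem n x) (Subgroup.mem_top a))

theorem X_nilpotent : IsNilpotent F.X := by
  haveI : Fact (Nat.Prime 2) := ⟨Nat.prime_two⟩
  haveI := F.two.isNilpotent
  obtain ⟨n, hn⟩ := Subgroup.nilpotent_iff_lowerCentralSeries.mp (inferInstance : Group.IsNilpotent S)
  refine ⟨n, DFunLike.ext _ _ fun x => F.val_injective ?_⟩
  have h := F.val_X_pow_mem n x
  rw [hn, Subgroup.mem_bot] at h
  exact h

theorem two_nilpotent : IsNilpotent (2 : AddMonoid.End F.L) := by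
  haveI : Fact (Nat.Prime 2) := ⟨Nat.prime_two⟩
  obtain ⟨n, hn⟩ := F.two.exists_card_eq
  refine ⟨n, ?_⟩
  have key : ∀ x : F.L, ((2 : AddMonoid.End F.L) ^ n) x = (2 ^ n : ℕ) • x := by
    intro x
    rw [show (2 : AddMonoid.End F.L) ^ n = ((2 ^ n : ℕ) : AddMonoid.End F.L) by push_cast; rfl]
    rfl
  refine DFunLike.ext _ _ fun x => F.val_injective ((congrArg F.val (key x)).trans ?_)
  rw [val_nsmul, ← hn, pow_card_eq_one']
  rfl

/-- `ℤ[X]`. -/
def Op : Subring (AddMonoid.End F.L) := Subring.closure {F.X}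

theorem X_mem : F.X ∈ F.Op := Subring.subset_closure rfl

theorem op_decomp {P : AddMonoid.End F.L} (hP : P ∈ F.Op) :
    ∃ k : ℤ, ∃ Q ∈ F.Op, P = (k : AddMonoid.End F.L) + F.X * Q := by
  induction hP using Subring.closure_induction with
  | mem x hx => exact ⟨0, 1, one_mem _, by rw [Set.mem_singleton_iff.mp hx]; simp⟩
  | zero => exact ⟨0, 0, zero_mem _, by simp⟩
  | one => exact ⟨1, 0, zero_mem _, by simp⟩
  | add x y _ _ hx hy =>
    obtain ⟨k, Q, hQ, rfl⟩ := hx
    obtain ⟨l, R, hR, rfl⟩ := hy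
    exact ⟨k + l, Q + R, add_mem hQ hR, by push_cast; noncomm_ring⟩
  | neg x _ hx =>
    obtain ⟨k, Q, hQ, rfl⟩ := hx
    exact ⟨-k, -Q, neg_mem hQ, by push_cast; noncomm_ring⟩
  | mul x y hx' hy' hx hy =>
    obtain ⟨k, Q, hQ, rfl⟩ := hx
    obtain ⟨l, R, hR, rfl⟩ := hy
    refine ⟨k * l, (k : AddMonoid.End F.L) * R + Q * (l + F.X * R),
      add_mem (mul_mem (intCast_mem _ k) hR) (mul_mem hQ (add_mem (intCast_mem _ l) (mul_mem F.X_mem hR))), ?_⟩
    have e : (k : AddMonoid.End F.L) * (F.X * R) = F.X * ((k : AddMonoid.End F.L) * R) := by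
      rw [← mul_assoc, (Int.cast_commute k F.X).eq, mul_assoc]
    push_cast
    rw [add_mul, mul_add (k : AddMonoid.End F.L), e, mul_add F.X, mul_assoc F.X Q, add_assoc]

theorem op_comm {P Q : AddMonoid.End F.L} (hP : P ∈ F.Op) (hQ : Q ∈ F.Op) : Commute P Q := by
  suffices h : ∀ R ∈ F.Op, Commute F.X R by
    induction hP using Subring.closure_induction with
    | mem x hx => rw [Set.mem_singleton_iff.mp hx]; exact h Q hQ
    | zero => exact Commute.zero_left _
    | one => exact Commute.one_left _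
    | add x y _ _ hx hy => exact hx.add_left hy
    | neg x _ hx => exact hx.neg_left
    | mul x y _ _ hx hy => exact hx.mul_left hy
  intro R hR
  induction hR using Subring.closure_induction with
  | mem x hx => rw [Set.mem_singleton_iff.mp hx]
  | zero => exact Commute.zero_right _
  | one => exact Commute.one_right _
  | add x y _ _ hx hy => exact hx.add_right hy
  | neg x _ hx => exact hx.neg_right
  | mul x y _ _ hx hy => exact hx.mul_right hy

theorem τa_eq : F.τ a = 1 + F.X := by rw [X, add_sub_cancel]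

theorem τa_mem : F.τ a ∈ F.Op := by rw [τa_eq]; exact add_mem (one_mem _) F.X_mem

theorem op_τ {P : AddMonoid.End F.L} (hP : P ∈ F.Op) (g : S) : Commute P (F.τ g) := by
  induction hP using Subring.closure_induction with
  | mem x hx => rw [Set.mem_singleton_iff.mp hx]; exact F.X_comm g
  | zero => exact Commute.zero_left _
  | one => exact Commute.one_left _
  | add x y _ _ hx hy => exact hx.add_left hy
  | neg x _ hx => exact hx.neg_left
  | mul x y _ _ hx hy => exact hx.mul_left hy

theorem op_nilp_isUnit {P : AddMonoid.End F.L} (hP : P ∈ F.Op) : IsUnit (1 - F.X * P) :=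
  ((F.op_comm F.X_mem hP).isNilpotent_mul_right F.X_nilpotent).isUnit_one_sub

/-- Every element is `P c` with `P ∈ ℤ[X]`. -/
theorem exists_op (x : F.L) : ∃ P ∈ F.Op, P F.c = x := by
  let K : AddSubgroup F.L :=
    { carrier := {x | ∃ P ∈ F.Op, P F.c = x}
      zero_mem' := ⟨0, zero_mem _, rfl⟩
      add_mem' := by
        rintro _ _ ⟨P, hP, rfl⟩ ⟨Q, hQ, rfl⟩
        exact ⟨P + Q, add_mem hP hQ, rfl⟩
      neg_mem' := by
        rintro _ ⟨P, hP, rfl⟩
        exact ⟨-P, neg_mem hP, rfl⟩ }
  have hK : ∀ y ∈ K, F.X y ∈ K := by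
    rintro _ ⟨P, hP, rfl⟩
    exact ⟨F.X * P, mul_mem F.X_mem hP, rfl⟩
  -- `L ⊆ K + 2L + Xⁿ L`
  have hstep : ∀ n : ℕ, ∀ z : F.L, ∃ k ∈ K, ∃ f g : F.L, z = k + (f + f) + (F.X ^ n) g := by
    intro n
    induction n with
    | zero => exact fun z => ⟨0, K.zero_mem, 0, z, by simp⟩
    | succ n ih =>
      intro z
      obtain ⟨k, hk, f, g, rfl⟩ := ih z
      obtain ⟨i, hi⟩ := F.exists_zc g
      obtain ⟨f', g', e⟩ := hi
      refine ⟨k + i • (F.X ^ n) F.c, add_mem hk (zsmul_mem ?_ i), f + (F.X ^ n) f', g', ?_⟩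
      · exact ⟨F.X ^ n, pow_mem F.X_mem n, rfl⟩
      have hg : g = i • F.c + (f' + f' + F.X g') := by rw [e]; abel
      rw [hg, map_add, map_add, map_add, map_zsmul, pow_succ, AddMonoid.End.coe_mul, Function.comp_apply]
      abel
  obtain ⟨n, hn⟩ := F.X_nilpotent
  have htwo : ∀ j : ℕ, ∀ z : F.L, ∃ k ∈ K, ∃ f : F.L, z = k + ((2 : AddMonoid.End F.L) ^ j) f := by
    intro j
    induction j with
    | zero => exact fun z => ⟨0, K.zero_mem, z, by simp⟩
    | succ j ih =>
      intro z
      obtain ⟨k, hk, f, rfl⟩ := ih z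
      obtain ⟨k', hk', f', g', rfl⟩ := hstep n f
      obtain ⟨P, hP, rfl⟩ := hk'
      refine ⟨k + ((2 : AddMonoid.End F.L) ^ j * P) F.c,
        add_mem hk ⟨_, mul_mem (pow_mem (ofNat_mem _ 2) j) hP, rfl⟩, f', ?_⟩
      rw [hn, AddMonoid.End.zero_apply, add_zero, map_add, pow_succ, AddMonoid.End.coe_mul,
        AddMonoid.End.coe_mul, Function.comp_apply, Function.comp_apply, two_apply, add_assoc]
  obtain ⟨m, hm⟩ := F.two_nilpotent
  obtain ⟨k, hk, f, rfl⟩ := htwo m x
  rw [hm, AddMonoid.End.zero_apply, add_zero]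
  exact hk

/-- Operators commuting with `ℤ[X]` are determined by the value at `c`. -/
theorem op_ext {f g : AddMonoid.End F.L} (hf : ∀ P ∈ F.Op, Commute f P) (hg : ∀ P ∈ F.Op, Commute g P)
    (h : f F.c = g F.c) : f = g := by
  refine DFunLike.ext _ _ fun x => ?_
  obtain ⟨P, hP, rfl⟩ := F.exists_op x
  show (f * P) F.c = (g * P) F.c
  rw [(hf P hP).eq, (hg P hP).eq]
  exact congrArg P h

end CfsgLib.Bicyclic.Frame
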