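import Cfsg.Agent.Lib.Fusion.Bicyclic.Module

/-!
Bicyclic non-metacyclic `2`-groups with non-cyclic derived subgroup: the action of `S` on `S'`.
-/

set_option autoImplicit false
set_option linter.unusedSectionVars false
set_option linter.style.haveILetI false
set_option linter.unusedVariables false

namespace CfsgLib.Bicyclic.Frame

open scoped commutatorElement

universe u

variable {S : Type u} [Group S] [Finite S] {a b : S} (F : Frame a b)

theorem mem_Op_of_commute {f : AddMonoid.End F.L} (h : Commute f F.X) : f ∈ F.Op := by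
  obtain ⟨P, hP, e⟩ := F.exists_op (f F.c)
  have hf : ∀ Q ∈ F.Op, Commute f Q := by
    intro Q hQ
    induction hQ using Subring.closure_induction with
    | mem x hx => rw [Set.mem_singleton_iff.mp hx]; exact h
    | zero => exact Commute.zero_right _
    | one => exact Commute.one_right _
    | add x y _ _ hx hy => exact hx.add_right hy
    | neg x _ hx => exact hx.neg_right
    | mul x y _ _ hx hy => exact hx.mul_right hy
  rw [F.op_ext hf (fun Q hQ => F.op_comm hP hQ) e.symm]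
  exact hP

theorem τ_mem (g : S) : F.τ g ∈ F.Op := F.mem_Op_of_commute (F.X_comm g).symm

/-- The ring `ℤ[X]`. -/
abbrev O : Type u := ↥F.Op

instance O_commRing : CommRing F.O :=
  { (inferInstance : Ring ↥F.Op) with mul_comm := fun x y => Subtype.ext (F.op_comm x.2 y.2).eq }

/-- The action of `ℤ[X]`. -/
def act (P : F.O) (x : F.L) : F.L := P.1 x

@[simp] theorem act_add (P : F.O) (x y : F.L) : F.act P (x + y) = F.act P x + F.act P y := map_add _ _ _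

@[simp] theorem act_zero (P : F.O) : F.act P 0 = 0 := map_zero _

@[simp] theorem act_neg (P : F.O) (x : F.L) : F.act P (-x) = -F.act P x := map_neg _ _

theorem act_sub (P : F.O) (x y : F.L) : F.act P (x - y) = F.act P x - F.act P y := map_sub _ _ _

@[simp] theorem add_act (P Q : F.O) (x : F.L) : F.act (P + Q) x = F.act P x + F.act Q x := rfl

@[simp] theorem sub_act (P Q : F.O) (x : F.L) : F.act (P - Q) x = F.act P x - F.act Q x := rfl

@[simp] theorem neg_act (P : F.O) (x : F.L) : F.act (-P) x = -F.act P x := rfl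

@[simp] theorem mul_act (P Q : F.O) (x : F.L) : F.act (P * Q) x = F.act P (F.act Q x) := rfl

@[simp] theorem one_act (x : F.L) : F.act 1 x = x := rfl

@[simp] theorem zero_act (x : F.L) : F.act 0 x = 0 := rfl

@[simp] theorem two_act (x : F.L) : F.act 2 x = x + x := by
  rw [← one_add_one_eq_two]; rfl

/-- `X` in the ring. -/
def ξ : F.O := (⟨F.X, F.X_mem⟩ : ↥F.Op)

/-- Conjugation in the ring. -/
def T (g : S) : F.O := (⟨F.τ g, F.τ_mem g⟩ : ↥F.Op)

@[simp] theorem val_T (g : S) (x : F.L) : F.val (F.act (F.T g) x) = g * F.val x * g⁻¹ := rfl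

@[simp] theorem val_ξ (x : F.L) : F.val (F.act F.ξ x) = ⁅a, F.val x⁆ := F.val_X x

theorem T_mul (g h : S) : F.T (g * h) = F.T g * F.T h := Subtype.ext (F.τ_mul g h)

theorem T_of_mem {s : S} (hs : s ∈ commutator S) : F.T s = 1 := Subtype.ext (F.τ_of_mem hs)

theorem T_pow (g : S) : ∀ n : ℕ, F.T (g ^ n) = F.T g ^ n
  | 0 => by rw [pow_zero, pow_zero, F.T_of_mem (one_mem _)]
  | n + 1 => by rw [pow_succ, pow_succ, T_mul, T_pow g n]

theorem T_a : F.T a = 1 + F.ξ := Subtype.ext F.τa_eq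

theorem exists_act (x : F.L) : ∃ P : F.O, F.act P F.c = x := by
  obtain ⟨P, hP, e⟩ := F.exists_op x
  exact ⟨⟨P, hP⟩, e⟩

theorem O_ext {P Q : F.O} (h : F.act P F.c = F.act Q F.c) : P = Q :=
  Subtype.ext (F.op_ext (fun R hR => F.op_comm P.2 hR) (fun R hR => F.op_comm Q.2 hR) h)

theorem O_decomp (P : F.O) : ∃ (k : ℤ) (Q : F.O), P = (k : F.O) + F.ξ * Q := by
  obtain ⟨k, Q, hQ, e⟩ := F.op_decomp (P : ↥F.Op).2
  exact ⟨k, ⟨Q, hQ⟩, Subtype.ext e⟩

theorem ξ_nilpotent : IsNilpotent F.ξ := by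
  obtain ⟨n, hn⟩ := F.X_nilpotent
  exact ⟨n, Subtype.ext hn⟩

theorem O_two_nilpotent : IsNilpotent (2 : F.O) := by
  obtain ⟨n, hn⟩ := F.two_nilpotent
  exact ⟨n, Subtype.ext hn⟩

theorem isUnit_one_add (P Q : F.O) : IsUnit (1 + (2 * P + F.ξ * Q)) :=
  ((Commute.all _ _).isNilpotent_add ((Commute.all _ _).isNilpotent_mul_right F.O_two_nilpotent)
    ((Commute.all _ _).isNilpotent_mul_right F.ξ_nilpotent)).isUnit_one_add

theorem act_unit_inj {P : F.O} (hP : IsUnit P) {x : F.L} (h : F.act P x = 0) : x = 0 := by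
  obtain ⟨u, rfl⟩ := hP
  have e : F.act ((u⁻¹ : F.Oˣ) : F.O) (F.act (u : F.O) x) = x := by rw [← mul_act, Units.inv_mul, one_act]
  rwa [h, act_zero, eq_comm] at e

theorem act_unit_surj {P : F.O} (hP : IsUnit P) (x : F.L) : ∃ y, F.act P y = x := by
  obtain ⟨u, rfl⟩ := hP
  exact ⟨F.act ((u⁻¹ : F.Oˣ) : F.O) x, by rw [← mul_act, Units.mul_inv, one_act]⟩

theorem c_not_mRange : F.c ∉ F.mRange := fun h => F.c_not_mem ((F.mem_derR_iff F.c).mpr h)

theorem mRange_iff (x : F.L) : x ∈ F.mRange ↔ ∃ P Q : F.O, x = F.act (2 * P + F.ξ * Q) F.c := by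
  constructor
  · rintro ⟨f, g, rfl⟩
    obtain ⟨P, rfl⟩ := F.exists_act f
    obtain ⟨Q, rfl⟩ := F.exists_act g
    exact ⟨P, Q, by rw [add_act, mul_act, two_act, mul_act]; rfl⟩
  · rintro ⟨P, Q, rfl⟩
    exact ⟨F.act P F.c, F.act Q F.c, by rw [add_act, mul_act, two_act, mul_act]; rfl⟩

theorem mem_sqSub_iff (x : F.L) : F.val x ∈ sqSub (commutator S) ↔ ∃ f, x = f + f := by
  constructor
  · intro h
    let K : Subgroup S := F.toSub
      { carrier := {x | ∃ f : F.L, x = f + f}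
        zero_mem' := ⟨0, by rw [add_zero]⟩
        add_mem' := by
          rintro _ _ ⟨f, rfl⟩ ⟨g, rfl⟩
          exact ⟨f + g, by abel⟩
        neg_mem' := by
          rintro _ ⟨f, rfl⟩
          exact ⟨-f, by abel⟩ }
    have hle : sqSub (commutator S) ≤ K := by
      rw [sqSub, Subgroup.closure_le]
      rintro _ ⟨s, hs, rfl⟩
      exact ⟨_, ⟨F.el s hs, rfl⟩, by simp [pow_two]⟩
    exact F.mem_toSub.mp (hle h)
  · rintro ⟨f, rfl⟩
    rw [val_add, ← pow_two]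
    exact sq_mem (F.val_mem f)

theorem comm_mem (g h : S) : ⁅g, h⁆ ∈ commutator S :=
  Subgroup.commutator_mem_commutator (Subgroup.mem_top g) (Subgroup.mem_top h)

/-- `[a², b] = 2 c + X c`. -/
theorem el_comm_a2_b :
    F.el ⁅a ^ 2, b⁆ (comm_mem _ _) =
      F.act (2 + F.ξ) F.c := F.val_injective (by
  rw [add_act, two_act, val_add, val_add, val_el, val_ξ, c, val_el]
  have h := F.comm_comm F.c_mem (Subgroup.Normal.conj_mem inferInstance _ F.c_mem a :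
    a * ⁅a, b⁆ * a⁻¹ ∈ commutator S)
  have h' : ⁅a, b⁆ * ⁅a, b⁆ * ⁅a, ⁅a, b⁆⁆ = (a * ⁅a, b⁆ * a⁻¹) * ⁅a, b⁆ := by
    rw [← h, commutatorElement_def a ⁅a, b⁆]
    have h2 : ⁅a, b⁆⁻¹ * (a * ⁅a, b⁆ * a⁻¹) = (a * ⁅a, b⁆ * a⁻¹) * ⁅a, b⁆⁻¹ :=
      F.comm_comm (inv_mem F.c_mem) (Subgroup.Normal.conj_mem inferInstance _ F.c_mem a)
    rw [← h2]; group
  rw [h', pow_two]
  simp only [commutatorElement_def]
  group)

section NonCyclic

variable (hnc : ¬ IsCyclic ↥(commutator S))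

include hnc

theorem Xc_not_two (f : F.L) : F.act F.ξ F.c ≠ f + f := by
  intro h
  apply hnc
  have hle : commutator S ≤ Subgroup.zpowers ⁅a, b⁆ ⊔ sqSub (commutator S) := by
    intro s hs
    obtain ⟨P, hP⟩ := F.exists_act (F.el s hs)
    obtain ⟨k, Q, rfl⟩ := F.O_decomp P
    rw [add_act, mul_comm, mul_act, h, act_add] at hP
    have e : s = ⁅a, b⁆ ^ k * F.val (F.act Q f + F.act Q f) := by
      conv_lhs => rw [← F.val_el s hs, ← hP, val_add]
      rfl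
    rw [e]
    exact mul_mem (Subgroup.mem_sup_left (Subgroup.zpow_mem _ (Subgroup.mem_zpowers _) k))
      (Subgroup.mem_sup_right ((F.mem_sqSub_iff _).mpr ⟨_, rfl⟩))
  rw [← eq_of_le_sup_sq F.two (Subgroup.zpowers_le.mpr F.c_mem) hle]
  infer_instance

theorem ξ_ne_zero : F.act F.ξ F.c ≠ 0 := fun h => F.Xc_not_two hnc 0 (by rw [h, add_zero])

/-- `a^{2^r}` is not in `2 L + X² L`. -/
theorem w_not_deep {r : ℕ} (hr : 2 ≤ r) (hiff : ∀ i : ℕ, a ^ i ∈ F.D ↔ 2 ^ r ∣ i)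
    (hw : a ^ 2 ^ r ∈ commutator S) (P Q : F.O) :
    F.el _ hw ≠ F.act (2 * P + F.ξ * F.ξ * Q) F.c := by
  intro hdeep
  let N : AddSubgroup F.L :=
    { carrier := {x | ∃ P Q : F.O, x = F.act (2 * P + F.ξ * F.ξ * Q) F.c}
      zero_mem' := ⟨0, 0, by simp⟩
      add_mem' := by
        rintro _ _ ⟨P, Q, rfl⟩ ⟨P', Q', rfl⟩
        exact ⟨P + P', Q + Q', by rw [← add_act]; congr 1; ring⟩
      neg_mem' := by
        rintro _ ⟨P, Q, rfl⟩
        exact ⟨-P, -Q, by rw [← neg_act]; congr 1; ring⟩ }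
  haveI hN : (F.toSub N).Normal := F.toSub_normal fun g x hx => by
    obtain ⟨P, Q, rfl⟩ := hx
    refine ⟨F.T g * P, F.T g * Q, ?_⟩
    show F.act (F.T g) _ = _
    rw [← mul_act]; congr 1; ring
  set π := QuotientGroup.mk' (F.toSub N)
  have hone : ∀ x : F.L, x ∈ N → π (F.val x) = 1 := fun x hx =>
    (QuotientGroup.eq_one_iff _).mpr (F.mem_toSub.mpr hx)
  -- the image of the Frattini subgroup
  set A := π (a ^ 2)
  set C := π ⁅a, b⁆
  set Z := π (F.val (F.act F.ξ F.c))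
  have hC2 : C * C = 1 := by
    rw [← map_mul]
    exact hone (F.c + F.c) ⟨1, 0, by simp⟩
  have hZ2 : Z * Z = 1 := by
    rw [← map_mul, ← val_add]
    exact hone _ ⟨F.ξ, 0, by simp⟩
  have hAC : A * C = C * A := by
    rw [← commutatorElement_eq_one_iff_mul_comm, ← map_commutatorElement]
    refine (congrArg π ?_).trans (hone (F.act (F.T (a ^ 2) - 1) F.c) ⟨F.ξ, 1, ?_⟩)
    · rw [sub_act, one_act, val_sub, val_T, c, val_el, commutatorElement_def]
    · congr 1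
      rw [T_pow, T_a]; ring
  have hAZ : A * Z = Z * A := by
    rw [← commutatorElement_eq_one_iff_mul_comm, ← map_commutatorElement]
    refine (congrArg π ?_).trans (hone (F.act ((F.T (a ^ 2) - 1) * F.ξ) F.c) ⟨F.ξ * F.ξ, F.ξ, ?_⟩)
    · rw [mul_act, sub_act, one_act, val_sub, val_T, commutatorElement_def]
    · congr 1
      rw [T_pow, T_a]; ring
  have hCZ : C * Z = Z * C := by
    rw [← map_mul, ← map_mul]
    exact congrArg π (F.comm_comm F.c_mem (F.val_mem _))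
  have hS' : ∀ s ∈ commutator S, ∃ i j : ℕ, i < 2 ∧ j < 2 ∧ π s = C ^ i * Z ^ j := by
    intro s hs
    obtain ⟨P, hP⟩ := F.exists_act (F.el s hs)
    obtain ⟨k, Q, rfl⟩ := F.O_decomp P
    obtain ⟨l, Q', rfl⟩ := F.O_decomp Q
    have e : π s = C ^ k * Z ^ l := by
      have h1 : F.el s hs = k • F.c + l • F.act F.ξ F.c + F.act (F.ξ * F.ξ * Q') F.c := by
        rw [← hP, show (k : F.O) + F.ξ * ((l : F.O) + F.ξ * Q') = (k : F.O) + (l : F.O) * F.ξ + F.ξ * F.ξ * Q' by ring,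
          add_act, add_act, F.mul_act (l : F.O)]
        rfl
      conv_lhs => rw [← F.val_el s hs, h1, val_add, val_add, map_mul, map_mul,
        hone (F.act (F.ξ * F.ξ * Q') F.c) ⟨0, Q', by simp⟩, mul_one, val_zsmul, val_zsmul, map_zpow, map_zpow]
      rfl
    have hred : ∀ (u : S ⧸ F.toSub N), u * u = 1 → ∀ k : ℤ, ∃ i : ℕ, i < 2 ∧ u ^ k = u ^ i := by
      intro u hu k
      rcases Int.even_or_odd' k with ⟨m, rfl | rfl⟩
      · exact ⟨0, by norm_num, by rw [zpow_mul, zpow_ofNat, pow_two, hu, one_zpow, pow_zero]⟩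
      · exact ⟨1, by norm_num, by rw [zpow_add, zpow_mul, zpow_ofNat, pow_two, hu, one_zpow, one_mul, zpow_one, pow_one]⟩
    obtain ⟨i, hi, ei⟩ := hred C hC2 k
    obtain ⟨j, hj, ej⟩ := hred Z hZ2 l
    exact ⟨i, j, hi, hj, by rw [e, ei, ej]⟩
  obtain ⟨p, q, hpq⟩ := F.frattini_two_gen
  set Φ := (frattini S).map π
  have hform : ∀ u ∈ Φ, ∃ m i j : ℕ, u = A ^ m * C ^ i * Z ^ j := by
    rintro _ ⟨v, hv, rfl⟩
    obtain ⟨m, s, hs, rfl⟩ := F.frattini_form hv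
    obtain ⟨i, j, -, -, e⟩ := hS' s hs
    exact ⟨m, i, j, by rw [map_mul, pow_mul, map_pow, e, mul_assoc]⟩
  have hΦcomm : ∀ u ∈ Φ, ∀ v ∈ Φ, Commute u v := by
    intro u hu v hv
    obtain ⟨m, i, j, rfl⟩ := hform u hu
    obtain ⟨m', i', j', rfl⟩ := hform v hv
    refine Commute.mul_left (Commute.mul_left ?_ ?_) ?_ <;> refine Commute.mul_right (Commute.mul_right ?_ ?_) ?_
    · exact (Commute.refl A).pow_pow m m'
    · exact (show Commute A C from hAC).pow_pow m i'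
    · exact (show Commute A Z from hAZ).pow_pow m j'
    · exact (show Commute A C from hAC).symm.pow_pow i m'
    · exact (Commute.refl C).pow_pow i i'
    · exact (show Commute C Z from hCZ).pow_pow i j'
    · exact (show Commute A Z from hAZ).symm.pow_pow j m'
    · exact (show Commute C Z from hCZ).symm.pow_pow j i'
    · exact (Commute.refl Z).pow_pow j j'
  have hp : π p ∈ Φ := ⟨p, hpq.ge (Subgroup.subset_closure (Or.inl rfl)), rfl⟩
  have hq : π q ∈ Φ := ⟨q, hpq.ge (Subgroup.subset_closure (Or.inr rfl)), rfl⟩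
  let T2 : Subgroup (S ⧸ F.toSub N) :=
    { carrier := {u | ∃ v ∈ Φ, v * v = u}
      one_mem' := ⟨1, one_mem _, one_mul 1⟩
      mul_mem' := by
        rintro _ _ ⟨v, hv, rfl⟩ ⟨v', hv', rfl⟩
        refine ⟨v * v', mul_mem hv hv', ?_⟩
        rw [← pow_two, ← pow_two, ← pow_two, (hΦcomm v hv v' hv').mul_pow]
      inv_mem' := by
        rintro _ ⟨v, hv, rfl⟩
        exact ⟨v⁻¹, inv_mem hv, by rw [mul_inv_rev]⟩ }
  have hmod : ∀ u ∈ Φ, ∃ i j : Fin 2, (π p ^ i.1 * π q ^ j.1)⁻¹ * u ∈ T2 := by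
    intro u hu
    have hu' : u ∈ Subgroup.closure ({π p, π q} : Set (S ⧸ F.toSub N)) := by
      have hle : Φ ≤ Subgroup.closure ({π p, π q} : Set (S ⧸ F.toSub N)) := by
        rw [show Φ = (frattini S).map π from rfl, hpq, MonoidHom.map_closure, Set.image_pair]
      exact hle hu
    have hsub : Subgroup.closure ({π p, π q} : Set (S ⧸ F.toSub N)) ≤ Φ := by
      rw [Subgroup.closure_le]; rintro z (rfl | rfl) <;> assumption
    induction hu' using Subgroup.closure_induction with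
    | mem x hx =>
      rcases hx with rfl | rfl
      · exact ⟨1, 0, by simp⟩
      · exact ⟨0, 1, by simp⟩
    | one => exact ⟨0, 0, by simp⟩
    | mul x y hx' hy' ihx ihy =>
      obtain ⟨i, j, v, hv, hxv⟩ := ihx (hsub hx')
      obtain ⟨i', j', v', hv', hyv⟩ := ihy (hsub hy')
      refine ⟨i + i', j + j', π p ^ ((i.1 + i'.1) / 2) * π q ^ ((j.1 + j'.1) / 2) * (v * v'),
        mul_mem (mul_mem (pow_mem hp _) (pow_mem hq _)) (mul_mem hv hv'), ?_⟩
      rw [eq_inv_mul_iff_mul_eq] at hxv hyv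
      rw [eq_inv_mul_iff_mul_eq, ← hxv, ← hyv]
      let _ : CommGroup ↥Φ :=
        { (inferInstance : Group ↥Φ) with mul_comm := fun s t => Subtype.ext (hΦcomm s s.2 t t.2) }
      have key : ∀ (P Q V V' : ↥Φ),
          P ^ (i + i').1 * Q ^ (j + j').1 * (P ^ ((i.1 + i'.1) / 2) * Q ^ ((j.1 + j'.1) / 2) * (V * V') *
            (P ^ ((i.1 + i'.1) / 2) * Q ^ ((j.1 + j'.1) / 2) * (V * V'))) =
          P ^ i.1 * Q ^ j.1 * (V * V) * (P ^ i'.1 * Q ^ j'.1 * (V' * V')) := by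
        intro P Q V V'
        have ep : P ^ i.1 * P ^ i'.1 = P ^ (i + i').1 * (P ^ ((i.1 + i'.1) / 2) * P ^ ((i.1 + i'.1) / 2)) := by
          rw [← pow_add, ← pow_add, ← pow_add, Fin.val_add]; congr 1; omega
        have eq' : Q ^ j.1 * Q ^ j'.1 = Q ^ (j + j').1 * (Q ^ ((j.1 + j'.1) / 2) * Q ^ ((j.1 + j'.1) / 2)) := by
          rw [← pow_add, ← pow_add, ← pow_add, Fin.val_add]; congr 1; omega
        calc _ = (P ^ (i + i').1 * (P ^ ((i.1 + i'.1) / 2) * P ^ ((i.1 + i'.1) / 2))) *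
              (Q ^ (j + j').1 * (Q ^ ((j.1 + j'.1) / 2) * Q ^ ((j.1 + j'.1) / 2))) * (V * V) * (V' * V') := by
              simp only [mul_assoc, mul_left_comm, mul_comm]
          _ = _ := by rw [← ep, ← eq']; simp only [mul_assoc, mul_left_comm, mul_comm]
      exact congrArg Subtype.val (key ⟨_, hp⟩ ⟨_, hq⟩ ⟨v, hv⟩ ⟨v', hv'⟩)
    | inv x hx' ihx =>
      obtain ⟨i, j, v, hv, hxv⟩ := ihx (hsub hx')
      refine ⟨i, j, (π p ^ i.1 * π q ^ j.1 * v)⁻¹,
        inv_mem (mul_mem (mul_mem (pow_mem hp _) (pow_mem hq _)) hv), ?_⟩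
      rw [eq_inv_mul_iff_mul_eq] at hxv
      have hc := hΦcomm _ (mul_mem (pow_mem hp i.1) (pow_mem hq j.1)) v hv
      rw [eq_inv_mul_iff_mul_eq, ← hxv, ← mul_inv_rev]
      set K := π p ^ i.1 * π q ^ j.1
      calc K * (K * v * (K * v))⁻¹ = K * ((K * (v * K) * v)⁻¹) := by group
        _ = K * ((K * (K * v) * v)⁻¹) := by rw [hc.eq]
        _ = (K * v * v)⁻¹ := by
          rw [show K * (K * v) * v = K * (K * (v * v)) by group, mul_inv_rev, ← mul_assoc]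
          have h2 : Commute K (K * (v * v))⁻¹ := (((Commute.refl K).mul_right (hc.mul_right hc))).inv_right
          rw [h2.eq, mul_inv_cancel_right]
          group
        _ = (K * (v * v))⁻¹ := by rw [mul_assoc]
  -- eight classes
  have hmem : ∀ e : Fin 2 × Fin 2 × Fin 2, A ^ e.1.1 * C ^ e.2.1.1 * Z ^ e.2.2.1 ∈ Φ := fun e => by
    have hA : A ∈ Φ := ⟨a ^ 2, F.sq_mem_frattini a, rfl⟩
    have hC : C ∈ Φ := ⟨_, F.comm_le_frattini F.c_mem, rfl⟩
    have hZ : Z ∈ Φ := ⟨_, F.comm_le_frattini (F.val_mem _), rfl⟩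
    exact mul_mem (mul_mem (pow_mem hA _) (pow_mem hC _)) (pow_mem hZ _)
  choose fi fj hf using fun e => hmod _ (hmem e)
  obtain ⟨e, e', hne, heq⟩ := Fintype.exists_ne_map_eq_of_card_lt (fun e => (fi e, fj e)) (by simp)
  obtain ⟨v, hv, hvv⟩ : (A ^ e.1.1 * C ^ e.2.1.1 * Z ^ e.2.2.1)⁻¹ * (A ^ e'.1.1 * C ^ e'.2.1.1 * Z ^ e'.2.2.1) ∈ T2 := by
    have h1 : (fi e, fj e) = (fi e', fj e') := heq
    rw [Prod.mk.injEq] at h1
    have := mul_mem (inv_mem (hf e)) (hf e')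
    rw [h1.1, h1.2] at this
    simpa [mul_assoc] using this
  apply hne
  obtain ⟨m, i, j, rfl⟩ := hform v hv
  rw [eq_inv_mul_iff_mul_eq] at hvv
  have hv2 : A ^ m * C ^ i * Z ^ j * (A ^ m * C ^ i * Z ^ j) = A ^ (2 * m) := by
    have h1 : Commute (A ^ m) (C ^ i) := (show Commute A C from hAC).pow_pow m i
    have h2 : Commute (A ^ m * C ^ i) (Z ^ j) :=
      ((show Commute A Z from hAZ).pow_pow m j).mul_left ((show Commute C Z from hCZ).pow_pow i j)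
    rw [← pow_two, h2.mul_pow, h1.mul_pow, ← pow_mul, ← pow_mul, ← pow_mul, mul_comm m 2, mul_comm i 2,
      mul_comm j 2, pow_mul C, pow_mul Z, pow_two C, pow_two Z, hC2, hZ2, one_pow, one_pow, mul_one, mul_one]
  rw [hv2] at hvv
  obtain ⟨⟨i1, hi1⟩, ⟨i2, hi2⟩, ⟨i3, hi3⟩⟩ := e
  obtain ⟨⟨j1, hj1⟩, ⟨j2, hj2⟩, ⟨j3, hj3⟩⟩ := e'
  simp only at hvv
  -- exponents
  have key : ∀ (n : ℕ) (s : S), s ∈ commutator S → π (a ^ (2 * n) * s) = 1 → 2 ^ r ∣ 2 * n := by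
    intro n s hs h
    rw [← hiff]
    have hk : a ^ (2 * n) * s ∈ commutator S := by
      obtain ⟨x, -, hx⟩ := (QuotientGroup.eq_one_iff _).mp h
      exact hx ▸ F.val_mem x
    refine Subgroup.mem_sup_right ?_
    simpa using mul_mem hk (inv_mem hs)
  obtain ⟨n, hn⟩ : ∃ n, n + j1 = i1 + 2 * m ∨ n + i1 + 2 * m = j1 :=
    ⟨if j1 ≤ i1 + 2 * m then i1 + 2 * m - j1 else j1 - (i1 + 2 * m), by split_ifs <;> omega⟩
  have hA1 : ∀ k, π (a ^ (2 * k)) = A ^ k := fun k => by rw [pow_mul, map_pow]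
  have hs : ∃ s ∈ commutator S, π s = C ^ j2 * Z ^ j3 * (C ^ i2 * Z ^ i3) :=
    ⟨⁅a, b⁆ ^ j2 * F.val (F.act F.ξ F.c) ^ j3 * (⁅a, b⁆ ^ i2 * F.val (F.act F.ξ F.c) ^ i3),
      mul_mem (mul_mem (pow_mem F.c_mem _) (pow_mem (F.val_mem _) _)) (mul_mem (pow_mem F.c_mem _) (pow_mem (F.val_mem _) _)),
      by simp [C, Z]⟩
  obtain ⟨s, hs, hπs⟩ := hs
  have hCi : (C ^ i2)⁻¹ = C ^ i2 := inv_eq_of_mul_eq_one_left (by rw [← (Commute.refl C).mul_pow, hC2, one_pow])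
  have hZi : (Z ^ i3)⁻¹ = Z ^ i3 := inv_eq_of_mul_eq_one_left (by rw [← (Commute.refl Z).mul_pow, hZ2, one_pow])
  have hcz : Commute (A ^ (2 * m)) (C ^ i2 * Z ^ i3) :=
    ((show Commute A C from hAC).pow_pow _ _).mul_right ((show Commute A Z from hAZ).pow_pow _ _)
  have hX : A ^ (i1 + 2 * m) = A ^ j1 * π s := by
    have h1 : A ^ (i1 + 2 * m) * (C ^ i2 * Z ^ i3) = A ^ j1 * C ^ j2 * Z ^ j3 := by
      rw [pow_add, mul_assoc, hcz.eq, ← mul_assoc, ← mul_assoc, hvv]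
    rw [hπs, show A ^ j1 * (C ^ j2 * Z ^ j3 * (C ^ i2 * Z ^ i3)) = A ^ j1 * C ^ j2 * Z ^ j3 * (C ^ i2 * Z ^ i3) by
      group, ← h1, mul_assoc (A ^ _),
      show C ^ i2 * Z ^ i3 * (C ^ i2 * Z ^ i3) = 1 by
        rw [← pow_two, ((show Commute C Z from hCZ).pow_pow i2 i3).mul_pow, ← pow_mul, ← pow_mul, mul_comm i2, mul_comm i3,
          pow_mul, pow_mul, pow_two C, pow_two Z, hC2, hZ2, one_pow, one_pow, one_mul], mul_one]
  have hdvd : 2 ^ r ∣ 2 * n := by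
    rcases hn with hn | hn
    · refine key n s⁻¹ (inv_mem hs) ?_
      rw [← hn, add_comm n j1, pow_add] at hX
      rw [map_mul, hA1, map_inv, mul_left_cancel hX, mul_inv_cancel]
    · refine key n s hs ?_
      rw [← hn, show n + i1 + 2 * m = (i1 + 2 * m) + n by omega, pow_add A (i1 + 2 * m) n, mul_assoc] at hX
      rw [map_mul, hA1]
      exact left_eq_mul.mp hX
  have h1 : i1 = j1 := by
    have h4 : 4 ∣ 2 * n := (pow_dvd_pow 2 hr).trans hdvd
    omega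
  subst h1
  -- `A^{2 m}` is trivial
  have hA2m : A ^ (2 * m) = 1 := by
    obtain ⟨k, hk⟩ : 2 ^ r ∣ 4 * m := by
      rcases hn with hn | hn
      · rw [show 4 * m = 2 * n by omega]; exact hdvd
      · rw [show m = 0 by omega]; exact dvd_zero _
    rw [← hA1, show 2 * (2 * m) = 2 ^ r * k by omega, pow_mul, map_pow]
    rw [show π (a ^ 2 ^ r) = 1 by
      conv_lhs => rw [← F.val_el _ hw, hdeep]
      exact hone _ ⟨P, Q, rfl⟩, one_pow]
  have hs1 : π s = 1 := by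
    rw [pow_add, hA2m, mul_one] at hX
    exact left_eq_mul.mp hX
  rw [hπs] at hs1
  -- so `C^{i₂+j₂} Z^{i₃+j₃} = 1`
  have h23 : C ^ (j2 + i2) * Z ^ (j3 + i3) = 1 := by
    rw [← hs1, pow_add, pow_add]
    have := ((show Commute C Z from hCZ).pow_pow i2 j3).eq
    calc C ^ j2 * C ^ i2 * (Z ^ j3 * Z ^ i3) = C ^ j2 * (C ^ i2 * Z ^ j3) * Z ^ i3 := by group
      _ = C ^ j2 * Z ^ j3 * (C ^ i2 * Z ^ i3) := by rw [this]; group
  have hred : ∀ (u : S ⧸ F.toSub N), u * u = 1 → ∀ k, u ^ k = if Even k then 1 else u := by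
    intro u hu k
    rcases Nat.even_or_odd' k with ⟨l, rfl | rfl⟩
    · simp [pow_mul, pow_two, hu]
    · simp [pow_succ, pow_mul, pow_two, hu]
  rw [hred C hC2, hred Z hZ2] at h23
  have hmemN : ∀ x : F.L, π (F.val x) = 1 → ∃ P Q : F.O, x = F.act (2 * P + F.ξ * F.ξ * Q) F.c := fun x hx =>
    F.mem_toSub.mp ((QuotientGroup.eq_one_iff _).mp hx)
  have hCne : C ≠ 1 := fun h => by
    obtain ⟨P, Q, e⟩ := hmemN F.c h
    exact F.c_not_mRange ((F.mRange_iff _).mpr ⟨P, F.ξ * Q, by rw [← mul_assoc]; exact e⟩)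
  have hZne : Z ≠ 1 := fun h => by
    obtain ⟨P, Q, e⟩ := hmemN _ h
    have e' : F.act (F.ξ * (1 - F.ξ * Q)) F.c = F.act (2 * P) F.c := by
      rw [mul_sub, mul_one, sub_act, e, add_act, ← mul_assoc, add_sub_cancel_right]
    obtain ⟨U, hU⟩ := ((Commute.all F.ξ Q).isNilpotent_mul_right F.ξ_nilpotent).isUnit_one_sub
    rw [← hU] at e'
    refine F.Xc_not_two hnc (F.act (P * (U⁻¹ : F.Oˣ)) F.c) ?_
    rw [← two_act, ← mul_act, ← mul_assoc, mul_comm (2 * P), F.mul_act _ (2 * P), ← e', ← mul_act]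
    congr 1
    rw [mul_comm F.ξ, ← mul_assoc, Units.inv_mul, one_mul]
  have hCZne : C * Z ≠ 1 := fun h => by
    obtain ⟨P, Q, e⟩ := hmemN (F.c + F.act F.ξ F.c) (by rw [val_add, map_mul]; exact h)
    refine F.c_not_mRange ((F.mRange_iff _).mpr ⟨P, F.ξ * Q - 1, ?_⟩)
    rw [show 2 * P + F.ξ * (F.ξ * Q - 1) = (2 * P + F.ξ * F.ξ * Q) - F.ξ by ring, sub_act, ← e, add_sub_cancel_right]
  have h2 : Even (j2 + i2) ∧ Even (j3 + i3) := by
    split_ifs at h23 with p1 p2 p2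
    · exact ⟨p1, p2⟩
    · exact absurd (by simpa using h23) hZne
    · exact absurd (by simpa using h23) hCne
    · exact absurd h23 hCZne
  obtain ⟨⟨x2, hx2⟩, ⟨x3, hx3⟩⟩ := h2
  simp only [Prod.mk.injEq, Fin.mk.injEq, true_and]
  omega

/-- `X² ∈ 2 X ℤ[X]`. -/
theorem exists_E : ∃ E : F.O, F.ξ * F.ξ = 2 * F.ξ * E := by
  obtain ⟨r, hr, hiff, hR⟩ := F.exists_r
  have hw := derR_le hR
  obtain ⟨P, Q, hPQ⟩ := (F.mRange_iff _).mp ((F.mem_derR_iff (F.el _ hw)).mp hR)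
  obtain ⟨k, Q', rfl⟩ := F.O_decomp Q
  rcases Int.even_or_odd' k with ⟨l, rfl | rfl⟩
  · refine absurd ?_ (F.w_not_deep hnc hr hiff hw (P + F.ξ * (l : F.O)) Q')
    rw [hPQ]; congr 1; push_cast; ring
  obtain ⟨U, hU⟩ := F.isUnit_one_add (l : F.O) Q'
  have hfix : F.act F.ξ (F.el _ hw) = 0 := F.val_injective (by
    rw [val_ξ, val_el, val_zero, commutatorElement_eq_one_iff_mul_comm]
    exact ((Commute.refl a).pow_right _).eq)
  rw [hPQ, ← mul_act] at hfix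
  have h0 : F.ξ * (2 * P + F.ξ * (U : F.O)) = 0 := by
    refine F.O_ext ?_
    rw [zero_act, ← hfix, hU]
    congr 1; push_cast; ring
  refine ⟨-P * (U⁻¹ : F.Oˣ), ?_⟩
  calc F.ξ * F.ξ = F.ξ * (F.ξ * (U : F.O)) * (U⁻¹ : F.Oˣ) := by
        rw [mul_assoc F.ξ, mul_assoc F.ξ (U : F.O), Units.mul_inv, mul_one]
    _ = (F.ξ * (2 * P + F.ξ * (U : F.O)) - 2 * F.ξ * P) * (U⁻¹ : F.Oˣ) := by ring
    _ = 2 * F.ξ * (-P * (U⁻¹ : F.Oˣ)) := by rw [h0]; ring

theorem exists_Tb : ∃ G : F.O, F.T b = -1 + 2 * F.ξ * G := by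
  obtain ⟨E, hE⟩ := F.exists_E hnc
  obtain ⟨P, Q, hPQ⟩ := (F.mRange_iff _).mp ((F.mem_derR_iff (F.el _ F.bb_mem)).mp F.b_sq)
  refine ⟨P + E * Q, F.O_ext ?_⟩
  have h : F.act F.ξ (F.el _ F.bb_mem) = F.c + F.act (F.T b) F.c := F.Xt_eq
  have e : F.act (F.T b) F.c = F.act (-1 + F.ξ * (2 * P + F.ξ * Q)) F.c := by
    rw [add_act, neg_act, one_act, F.mul_act F.ξ, ← hPQ, h, neg_add_cancel_left]
  rw [e]; congr 1
  calc -1 + F.ξ * (2 * P + F.ξ * Q) = -1 + (2 * F.ξ * P + F.ξ * F.ξ * Q) := by ring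
    _ = _ := by rw [hE]; ring

theorem exists_T_frattini {v : S} (hv : v ∈ frattini S) : ∃ G : F.O, F.T v = 1 + 2 * F.ξ * G := by
  obtain ⟨E, hE⟩ := F.exists_E hnc
  obtain ⟨i, s, hs, rfl⟩ := F.frattini_form hv
  rw [T_mul, F.T_of_mem hs, mul_one, T_pow, T_a, pow_mul]
  clear hv
  induction i with
  | zero => exact ⟨0, by rw [pow_zero, mul_zero, add_zero]⟩
  | succ i ih =>
    obtain ⟨G, hG⟩ := ih
    refine ⟨G + (1 + E) * (1 + 2 * F.ξ * G), ?_⟩
    rw [pow_succ, hG, show (1 + F.ξ) ^ 2 = 1 + 2 * F.ξ + F.ξ * F.ξ by ring, hE]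
    ring

/-- Elements of `b Φ(S)` act on `S'` by `1 - 2 V`, `V` a unit. -/
theorem exists_T_refl {g : S} (hg : b⁻¹ * g ∈ frattini S) :
    ∃ V : F.O, IsUnit V ∧ F.T g = 1 - 2 * V := by
  obtain ⟨G, hG⟩ := F.exists_Tb hnc
  obtain ⟨H, hH⟩ := F.exists_T_frattini hnc hg
  refine ⟨1 - F.ξ * (G - H + 2 * F.ξ * G * H),
    ((Commute.all _ _).isNilpotent_mul_right F.ξ_nilpotent).isUnit_one_sub, ?_⟩
  rw [show g = b * (b⁻¹ * g) by group, T_mul, hG, hH]
  ring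

/-- `[a², g]` is `X c` modulo squares, for `g ∈ b Φ(S)`. -/
theorem el_comm_a2 {g : S} (hg : b⁻¹ * g ∈ frattini S) :
    ∃ f : F.L, F.el ⁅a ^ 2, g⁆ (comm_mem _ _) =
      F.act F.ξ F.c + (f + f) := by
  obtain ⟨i, s, hs, e⟩ := F.frattini_form hg
  obtain ⟨G, hG⟩ := F.exists_T_frattini hnc (F.sq_mem_frattini a)
  obtain ⟨x, hx⟩ : ∃ x : F.L, x = F.act (F.T b * F.T (a ^ (2 * i))) (F.act (F.ξ * G) (F.el s hs)) := ⟨_, rfl⟩
  refine ⟨F.c + x, F.val_injective ?_⟩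
  have h2 : F.act (F.T b * F.T (a ^ (2 * i))) (F.act (F.T (a ^ 2) - 1) (F.el s hs)) = x + x := by
    rw [hG, add_sub_cancel_left, mul_assoc (2 : F.O) F.ξ G, F.mul_act 2, two_act, act_add, hx]
  have h3 : F.el ⁅a ^ 2, g⁆ (comm_mem _ _) =
      F.act (2 + F.ξ) F.c + (x + x) := by
    rw [← h2, ← el_comm_a2_b]
    refine F.val_injective ?_
    rw [val_el, val_add, val_el, mul_act, val_T, val_T, sub_act, one_act, val_sub, val_T, val_el]
    have e' : g = b * (a ^ (2 * i) * s) := by rw [← e, mul_inv_cancel_left]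
    have hc : a ^ 2 * a ^ (2 * i) = a ^ (2 * i) * a ^ 2 := by rw [← pow_add, ← pow_add, add_comm]
    rw [e', commutatorElement_def, commutatorElement_def]
    calc a ^ 2 * (b * (a ^ (2 * i) * s)) * (a ^ 2)⁻¹ * (b * (a ^ (2 * i) * s))⁻¹
        = a ^ 2 * b * (a ^ 2)⁻¹ * (a ^ 2 * a ^ (2 * i)) * s * (a ^ 2)⁻¹ * s⁻¹ * (a ^ (2 * i))⁻¹ * b⁻¹ := by group
      _ = _ := by rw [hc]; group
  rw [h3, add_act, two_act]
  exact congrArg F.val (by abel)

end NonCyclic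

end CfsgLib.Bicyclic.Frame
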