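import Cfsg.Agent.Lib.Fusion.Bicyclic.Facts
import Cfsg.Agent.Lib.PGroup.MetacyclicAction

/-!
`⟨a⟩ Φ(S)` is metacyclic; consequences for `Φ(S)`.
-/

set_option autoImplicit false
set_option linter.unusedSectionVars false
set_option linter.unusedVariables false
set_option linter.style.haveILetI false

namespace CfsgLib.Bicyclic.Frame

open scoped commutatorElement

universe u

variable {S : Type u} [Group S] [Finite S] {a b : S}

/-- `Y = ⟨a⟩ Φ(S)`. -/
def Y (_F : Frame a b) : Subgroup S := Subgroup.zpowers a ⊔ frattini S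

variable (F : Frame a b)

include F

theorem a_mem_Y : a ∈ F.Y := Subgroup.mem_sup_left (Subgroup.mem_zpowers a)

theorem frattini_le_Y : frattini S ≤ F.Y := le_sup_right

theorem commutator_le_Y : commutator S ≤ F.Y := F.comm_le_frattini.trans F.frattini_le_Y

theorem c_mem_Y : ⁅a, b⁆ ∈ F.Y := F.commutator_le_Y F.c_mem

theorem commutator_le_closure : commutator S ≤ Subgroup.closure ({a, ⁅a, b⁆} : Set S) := by
  set K := Subgroup.closure ({a, ⁅a, b⁆} : Set S)
  have ha : a ∈ K := Subgroup.subset_closure (Or.inl rfl)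
  have key : ∀ P, P ∈ F.Op → ∀ x : F.L, F.val x ∈ K → F.val (P x) ∈ K := by
    intro P hP
    refine Subring.closure_induction (p := fun P _ => ∀ x : F.L, F.val x ∈ K → F.val (P x) ∈ K) ?_ ?_ ?_ ?_ ?_ ?_ hP
    · rintro _ rfl x hx
      rw [val_X, commutatorElement_def]
      exact mul_mem (mul_mem (mul_mem ha hx) (inv_mem ha)) (inv_mem hx)
    · intro x _
      exact one_mem K
    · exact fun x hx => hx
    · intro P Q _ _ hP hQ x hx
      show F.val (P x + Q x) ∈ K
      rw [val_add]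
      exact mul_mem (hP x hx) (hQ x hx)
    · intro P _ hP x hx
      show F.val (-(P x)) ∈ K
      rw [val_neg]
      exact inv_mem (hP x hx)
    · intro P Q _ _ hP hQ x hx
      exact hP _ (hQ x hx)
  intro s hs
  obtain ⟨P, hP⟩ := F.exists_act (F.el s hs)
  rw [← F.val_el s hs, ← hP]
  exact key _ P.2 F.c (Subgroup.subset_closure (Or.inr rfl))

theorem Y_eq_closure : F.Y = Subgroup.closure ({a, ⁅a, b⁆} : Set S) := by
  refine le_antisymm (sup_le (Subgroup.zpowers_le.mpr (Subgroup.subset_closure (Or.inl rfl))) ?_) ?_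
  · intro g hg
    obtain ⟨i, s, hs, rfl⟩ := F.frattini_form hg
    have ha : a ∈ Subgroup.closure ({a, ⁅a, b⁆} : Set S) := Subgroup.subset_closure (Or.inl rfl)
    exact mul_mem (pow_mem ha _) (F.commutator_le_closure hs)
  · rw [Subgroup.closure_le]
    rintro z (rfl | rfl)
    exacts [F.a_mem_Y, F.c_mem_Y]

theorem T_Y {g : S} (hg : g ∈ F.Y) : ∃ P : F.O, F.T g = 1 + F.ξ * P := by
  let K : Subgroup S :=
    { carrier := {g | ∃ P : F.O, F.T g = 1 + F.ξ * P}
      one_mem' := ⟨0, by rw [F.T_of_mem (one_mem _), mul_zero, add_zero]⟩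
      mul_mem' := by
        rintro g h ⟨P, hP⟩ ⟨Q, hQ⟩
        exact ⟨P + Q + F.ξ * P * Q, by rw [T_mul, hP, hQ]; ring⟩
      inv_mem' := by
        rintro g ⟨P, hP⟩
        obtain ⟨u, hu⟩ : IsUnit (1 + F.ξ * P) :=
          ((Commute.all _ _).isNilpotent_mul_right F.ξ_nilpotent).isUnit_one_add
        refine ⟨-(P * (u⁻¹ : F.Oˣ)), ?_⟩
        have h1 : F.T g⁻¹ * (u : F.O) = 1 := by
          rw [hu, ← hP, ← T_mul, inv_mul_cancel, F.T_of_mem (one_mem _)]
        have h2 : (u : F.O) * (u⁻¹ : F.Oˣ) = 1 := Units.mul_inv u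
        calc F.T g⁻¹ = F.T g⁻¹ * ((u : F.O) * (u⁻¹ : F.Oˣ)) := by rw [h2, mul_one]
          _ = ((u : F.O) - F.ξ * P) * (u⁻¹ : F.Oˣ) := by
            rw [← mul_assoc, h1, hu, add_sub_cancel_right]
          _ = (u : F.O) * (u⁻¹ : F.Oˣ) + F.ξ * -(P * (u⁻¹ : F.Oˣ)) := by ring
          _ = _ := by rw [h2] }
  refine (?_ : F.Y ≤ K) hg
  rw [Y_eq_closure, Subgroup.closure_le]
  rintro z (rfl | rfl)
  · exact ⟨1, by rw [T_a, mul_one]⟩
  · exact ⟨0, by rw [F.T_of_mem F.c_mem, mul_zero, add_zero]⟩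

section NonCyclic

variable (hnc : ¬ IsCyclic ↥(commutator S))

include hnc

theorem Y_metacyclic : Cfsg.IsMetacyclic ↥F.Y := by
  obtain ⟨E, hE⟩ := F.exists_E hnc
  obtain ⟨r, hr, hiff, hR⟩ := F.exists_r
  have hw := derR_le hR
  obtain ⟨P, Q, hPQ⟩ := (F.mRange_iff _).mp ((F.mem_derR_iff (F.el _ hw)).mp hR)
  obtain ⟨k, Q₀, rfl⟩ := F.O_decomp Q
  rcases Int.even_or_odd' k with ⟨l, rfl | rfl⟩
  · refine absurd ?_ (F.w_not_deep hnc hr hiff hw (P + F.ξ * (l : F.O)) Q₀)
    rw [hPQ]; congr 1; push_cast; ring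
  obtain ⟨j, P', rfl⟩ := F.O_decomp P
  have hU : IsUnit (((2 * l + 1 : ℤ) : F.O) + F.ξ * Q₀ + 2 * P') := by
    have h := F.isUnit_one_add ((l : F.O) + P') Q₀
    convert h using 1
    push_cast; ring
  set U : F.O := ((2 * l + 1 : ℤ) : F.O) + F.ξ * Q₀ + 2 * P'
  -- the element `u = a^{2^r} c^{-2j}`
  have hu : a ^ 2 ^ r * ⁅a, b⁆ ^ (-(2 * j)) = ⁅a, F.val (F.act U F.c)⁆ := by
    rw [← val_ξ, ← F.val_el _ hw, show ⁅a, b⁆ = F.val F.c from rfl, ← val_zsmul, ← val_add, hPQ]
    congr 1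
    rw [← mul_act, show (-(2 * j)) • F.c = F.act ((-(2 * j) : ℤ) : F.O) F.c from rfl, ← add_act]
    congr 1
    simp only [U]
    push_cast; ring
  have hS := F.two.to_subgroup F.Y
  set x : ↥F.Y := ⟨a, F.a_mem_Y⟩ with hx
  set y : ↥F.Y := ⟨⁅a, b⁆, F.c_mem_Y⟩ with hy
  have hgen : Subgroup.closure ({x, y} : Set ↥F.Y) = ⊤ := by
    refine Subgroup.map_injective F.Y.subtype_injective ?_
    rw [MonoidHom.map_closure, ← MonoidHom.range_eq_map, Subgroup.range_subtype, Set.image_pair]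
    exact F.Y_eq_closure.symm
  -- bounds for the commutator subgroup of `Y`
  let N : AddSubgroup F.L :=
    { carrier := {z | ∃ G : F.O, z = F.act (F.ξ * G) F.c}
      zero_mem' := ⟨0, by rw [mul_zero, zero_act]⟩
      add_mem' := by
        rintro _ _ ⟨G, rfl⟩ ⟨H, rfl⟩
        exact ⟨G + H, by rw [mul_add, add_act]⟩
      neg_mem' := by
        rintro _ ⟨G, rfl⟩
        exact ⟨-G, by rw [mul_neg, neg_act]⟩ }
  let N2 : AddSubgroup F.L :=
    { carrier := {z | ∃ G : F.O, z = F.act (2 * F.ξ * G) F.c}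
      zero_mem' := ⟨0, by rw [mul_zero, zero_act]⟩
      add_mem' := by
        rintro _ _ ⟨G, rfl⟩ ⟨H, rfl⟩
        exact ⟨G + H, by rw [mul_add, add_act]⟩
      neg_mem' := by
        rintro _ ⟨G, rfl⟩
        exact ⟨-G, by rw [mul_neg, neg_act]⟩ }
  haveI : (F.toSub N).Normal := F.toSub_normal fun g z hz => by
    obtain ⟨G, rfl⟩ := hz
    refine ⟨F.T g * G, ?_⟩
    show F.act (F.T g) _ = _
    rw [← mul_act]; congr 1; ring
  haveI hN2n : (F.toSub N2).Normal := F.toSub_normal fun g z hz => by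
    obtain ⟨G, rfl⟩ := hz
    refine ⟨F.T g * G, ?_⟩
    show F.act (F.T g) _ = _
    rw [← mul_act]; congr 1; ring
  have hY' : commutator ↥F.Y ≤ (F.toSub N).comap F.Y.subtype := by
    refine commutator_le_of_gen hgen _ ?_
    show ⁅a, ⁅a, b⁆⁆ ∈ F.toSub N
    rw [show ⁅a, b⁆ = F.val F.c from rfl, ← val_ξ, mem_toSub]
    exact ⟨1, by rw [mul_one]⟩
  have hRY : derR ↥F.Y ≤ (F.toSub N2).comap F.Y.subtype := by
    refine sup_le ?_ ?_
    · rw [sqSub, Subgroup.closure_le]
      rintro _ ⟨s, hs, rfl⟩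
      obtain ⟨z, hz, e⟩ := hY' hs
      obtain ⟨G, hG⟩ := hz
      show (s : S) ^ 2 ∈ F.toSub N2
      rw [show (s : S) = F.val z from e.symm, pow_two, ← val_add, mem_toSub]
      refine ⟨G, ?_⟩
      rw [hG, mul_assoc (2 : F.O), F.mul_act 2, two_act]
    · rw [Subgroup.commutator_le]
      intro s hs g _
      obtain ⟨z, hz, e⟩ := hY' hs
      obtain ⟨G, hG⟩ := hz
      obtain ⟨H, hH⟩ := F.T_Y g.2
      show ⁅(s : S), (g : S)⁆ ∈ F.toSub N2
      rw [show (s : S) = F.val z from e.symm, ← commutatorElement_inv, inv_mem_iff, comm_sub, mem_toSub]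
      refine ⟨E * G * H, ?_⟩
      rw [hG, hH, add_sub_cancel_left, ← mul_act]
      congr 1
      calc F.ξ * H * (F.ξ * G) = F.ξ * F.ξ * (H * G) := by ring
        _ = 2 * F.ξ * (E * G * H) := by rw [hE]; ring
  obtain ⟨m, hm⟩ : ∃ m : ℕ, y ^ m = y ^ (-j) := mem_powers_iff_mem_zpowers.mpr (zpow_mem (Subgroup.mem_zpowers y) _)
  have huY : x ^ 2 ^ r * y ^ (2 * m) ∈ commutator ↥F.Y ∧ x ^ 2 ^ r * y ^ (2 * m) ∉ derR ↥F.Y := by
    have e : x ^ 2 ^ r * y ^ (2 * m) = ⁅x, (⟨F.val (F.act U F.c), F.commutator_le_Y (F.val_mem _)⟩ : ↥F.Y)⁆ := by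
      rw [show y ^ (2 * m) = y ^ (-(2 * j)) by
        rw [mul_comm, pow_mul, hm, ← zpow_natCast, ← zpow_mul]; congr 1; push_cast; ring]
      exact Subtype.ext hu
    refine ⟨e ▸ Subgroup.commutator_mem_commutator (Subgroup.mem_top _) (Subgroup.mem_top _), fun h => ?_⟩
    rw [e] at h
    have h2 : ⁅a, F.val (F.act U F.c)⁆ ∈ F.toSub N2 := hRY h
    rw [← val_ξ, mem_toSub] at h2
    obtain ⟨G, hG⟩ := h2
    obtain ⟨u, hu'⟩ := hU
    refine F.Xc_not_two hnc (F.act ((u⁻¹ : F.Oˣ) * (F.ξ * G)) F.c) ?_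
    rw [← two_act, ← mul_act]
    have h3 := congrArg (F.act (u⁻¹ : F.Oˣ)) hG
    rw [← mul_act, ← mul_act, ← mul_act, ← hu', mul_right_comm, Units.inv_mul, one_mul] at h3
    rw [h3]
    congr 1; ring
  rcases Nat.eq_zero_or_pos m with rfl | hm0
  · refine isMetacyclic_of_pow hS hgen (α := r) (i' := 1) (q := 0) (by omega) odd_one (Or.inl hr) ?_ ?_
    · simpa using huY.1
    · simpa using huY.2
  obtain ⟨β, i', hi', e⟩ := ne_zero_pow_decomp (2 * m) (by omega)
  rcases lt_or_ge β r with hlt | hge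
  · have hβ : 1 ≤ β := by
      rcases Nat.eq_zero_or_pos β with rfl | h
      · exfalso
        rw [pow_zero, one_mul] at e
        exact Nat.not_odd_iff_even.mpr (even_two_mul m) (e ▸ hi')
      · exact h
    refine isMetacyclic_of_pow' hS hgen (α := β) (i' := i') (q := 2 ^ (r - β)) hβ hi'
      (Or.inr ((Nat.even_pow' (by omega)).mpr even_two)) ?_ ?_ <;>
      rw [← pow_add, Nat.add_sub_cancel' hlt.le, ← e]
    exacts [huY.1, huY.2]
  · refine isMetacyclic_of_pow hS hgen (α := r) (i' := 1) (q := 2 ^ (β - r) * i') (by omega) odd_one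
      (Or.inl hr) ?_ ?_ <;>
      rw [mul_one, ← mul_assoc, ← pow_add, Nat.add_sub_cancel' hge, ← e]
    exacts [huY.1, huY.2]

theorem metacyclic_of_le_Y {Q : Subgroup S} (h : Q ≤ F.Y) : Cfsg.IsMetacyclic ↥Q := by
  have h1 := CfsgLib.MetaAction.isMetacyclic_subgroup (F.Y_metacyclic hnc) (Q.subgroupOf F.Y)
  obtain ⟨C, hC, hCc, hCq⟩ := h1
  haveI := hC
  haveI := hCc
  haveI := hCq
  set e := (Subgroup.subgroupOfEquivOfLe h)
  haveI : (C.map e.toMonoidHom).Normal := hC.map _ e.surjective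
  refine ⟨C.map e.toMonoidHom, inferInstance, ?_, ?_⟩
  · exact isCyclic_of_surjective (e.toMonoidHom.subgroupMap C) (e.toMonoidHom.subgroupMap_surjective C)
  · exact isCyclic_of_surjective (QuotientGroup.map C (C.map e.toMonoidHom) e.toMonoidHom (Subgroup.le_comap_map _ _))
      fun t => QuotientGroup.induction_on t fun t => by
        obtain ⟨q, rfl⟩ := e.surjective t
        exact ⟨QuotientGroup.mk q, rfl⟩

/-- The involutions of `Φ(S)` lie in `W`. -/
theorem invol_mem_W {v : S} (hv : v ∈ frattini S) (hv2 : v * v = 1) : v ∈ F.W := by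
  by_contra hvW
  have hWv : ∀ w ∈ F.W, v * w = w * v := fun w hw => F.W_comm_M hnc (F.frattini_le_M hv) hw
  let A : Subgroup S :=
    { carrier := {g | g ∈ F.W ∨ v * g ∈ F.W}
      one_mem' := Or.inl (one_mem _)
      mul_mem' := by
        rintro g h (hg | hg) (hh | hh)
        · exact Or.inl (mul_mem hg hh)
        · right
          rw [show v * (g * h) = (v * g) * h from (mul_assoc _ _ _).symm, hWv g hg, mul_assoc]
          exact mul_mem hg hh
        · right
          rw [← mul_assoc]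
          exact mul_mem hg hh
        · left
          rw [show g * h = v * (v * g) * (v * (v * h)) by simp only [← mul_assoc, hv2, one_mul]]
          rw [hWv _ hg, show v * g * v * (v * (v * h)) = v * g * (v * v) * (v * h) by group, hv2, mul_one]
          exact mul_mem hg hh
      inv_mem' := by
        rintro g (hg | hg)
        · exact Or.inl (inv_mem hg)
        · right
          have h1 : g = v * (v * g) := by rw [← mul_assoc, hv2, one_mul]
          rw [show v * g⁻¹ = v * (v * g)⁻¹ * v by group, hWv _ (inv_mem hg), mul_assoc, hv2, mul_one]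
          exact inv_mem hg }
  have hAY : A ≤ F.Y := by
    rintro g (hg | hg)
    · exact F.commutator_le_Y hg.1
    · have := mul_mem (inv_mem (F.frattini_le_Y hv)) (F.commutator_le_Y hg.1)
      rwa [inv_mul_cancel_left] at this
  have h4 := CfsgLib.MetaAction.card_exp_le (p := 2) (F.Y_metacyclic hnc) (A.subgroupOf F.Y) (fun g hg => by
    refine Subtype.ext ?_
    show (g : S) ^ 2 = 1
    rw [pow_two]
    rcases hg with hg | hg
    · exact hg.2
    · change v * (g : S) ∈ F.W at hg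
      have h2 := hg.2
      rw [mul_assoc, ← mul_assoc (g : S) v (g : S)] at h2
      have hc : (g : S) * v = v * g := by
        have h3 := hWv _ hg
        have := congrArg (fun z => v * z) h3
        simpa [← mul_assoc, hv2] using this.symm
      rw [hc, mul_assoc, ← mul_assoc v v, hv2, one_mul] at h2
      exact h2)
  rw [Nat.card_congr (Subgroup.subgroupOfEquivOfLe hAY).toEquiv] at h4
  have hWA : F.W ≤ A := fun w hw => Or.inl hw
  have h5 : F.W = A := Subgroup.eq_of_le_of_card_ge hWA (by rw [F.card_W hnc]; omega)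
  exact hvW (h5.ge (Or.inr (by rw [hv2]; exact one_mem _)))

end NonCyclic

end CfsgLib.Bicyclic.Frame
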